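import Cfsg.Agent.Lib.Helper5.Ree.Sigma
import Cfsg.Agent.Lib.Helper5.Tw.TorusTw
import Cfsg.Agent.Lib.Helper5.Frob.HFix
import Mathlib

/-!
# The fixed points of the twisting automorphism of `G₂` in the diagonal subgroup (helper5)
-/

set_option autoImplicit false

namespace Cfsg.Agent.Lib.Helper5.Ree

open Cfsg.Lie Cfsg.Agent.Lib.Helper5.Chev Cfsg.Agent.Lib.Helper5.GA Cfsg.Agent.Lib.Helper5.Tw
open Cfsg.Agent.Lib.Helper5.Frob
open scoped Matrix

section

variable {K : Type*} [Field K] [Fintype K] [CharP K 3] {m : ℕ}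

/-- `n_r(t)` in the group -/
def nG (K : Type*) [Field K] (r : ℕ) (t : K) : ↥(chevG2.group K) :=
  xG K r t * xG K (chevG2.neg r) (-t⁻¹) * xG K r t

/-- `h_r(t)` in the group -/
def hG (K : Type*) [Field K] (r : ℕ) (t : K) : ↥(chevG2.group K) := nG K r t * nG K r (-1)

omit [Fintype K] [CharP K 3] in
theorem nG_val (r : ℕ) (t : K) : ((nG K r t : ↥(chevG2.group K)) : GL chevG2.Idx K)
    = nUt (hadd2 K) r t := rfl

omit [Fintype K] [CharP K 3] in
theorem hG_val (r : ℕ) (t : K) : ((hG K r t : ↥(chevG2.group K)) : GL chevG2.Idx K)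
    = nUt (hadd2 K) r t * nUt (hadd2 K) r (-1) := rfl

omit [Fintype K] in
theorem fpar_neg_inv (r : ℕ) (hr : r < chevG2.nroots) (t : K) :
    fpar K m (chevG2.neg r) (-t⁻¹) = -(fpar K m r t)⁻¹ := by
  unfold fpar
  rw [G2.lam_neg r hr, map_neg, map_inv₀]
  rcases G2.lam_eq r hr with h | h <;> rw [h]
  · rw [pow_one, pow_one]
  · rw [Odd.neg_pow (by decide), inv_pow]

omit [Fintype K] in
theorem fpar_neg_one (r : ℕ) (hr : r < chevG2.nroots) : fpar K m r (-1) = -1 := by
  unfold fpar
  rw [map_neg, map_one]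
  rcases G2.lam_eq r hr with h | h <;> rw [h]
  · rw [pow_one]
  · rw [Odd.neg_pow (by decide), one_pow]

theorem sg_nG (hK : Fintype.card K = 3 ^ (2 * m + 1)) (r : ℕ) (hr : r < chevG2.nroots) (t : K) :
    sg hK (nG K r t) = nG K (G2.rho r) (fpar K m r t) := by
  have hn : chevG2.neg r < chevG2.nroots := by
    have : ∀ r < chevG2.nroots, chevG2.neg r < chevG2.nroots := by decide
    exact this r hr
  unfold nG
  rw [map_mul, map_mul, sg_xG hK r hr, sg_xG hK _ hn, G2.rho_neg r hr, fpar_neg_inv r hr]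

theorem sg_hG (hK : Fintype.card K = 3 ^ (2 * m + 1)) (r : ℕ) (hr : r < chevG2.nroots) (t : K) :
    sg hK (hG K r t) = hG K (G2.rho r) (fpar K m r t) := by
  unfold hG
  rw [map_mul, sg_nG hK r hr, sg_nG hK r hr, fpar_neg_one r hr]

/-- the parametrisation of the diagonal subgroup, in the group -/
noncomputable def torG (K : Type*) [Field K] : (Fin chevG2.rank → Kˣ) →* ↥(chevG2.group K) :=
  (Tw.hU K chevG2).codRestrict (chevG2.group K) (fun c => by
    apply (hadd2 K).diagonal_le
    have : Tw.hU K chevG2 c ∈ (chevG2.diagonalSubgroup K : Set (GL chevG2.Idx K)) := by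
      rw [range_hU (by simp)]
      exact ⟨c, rfl⟩
    exact this)

omit [Fintype K] [CharP K 3] in
theorem torG_val (c : Fin chevG2.rank → Kˣ) :
    ((torG K c : ↥(chevG2.group K)) : GL chevG2.Idx K) = Tw.hU K chevG2 c := rfl

omit [Fintype K] [CharP K 3] in
theorem torG_single (i : Fin chevG2.rank) (a : Kˣ) :
    torG K (Pi.mulSingle i a) = hG K (chevG2.simple i) (a : K) := by
  apply Subtype.ext
  rw [torG_val, hG_val]
  exact hU_single (by simp) (hadd2 K) i a

/-- the indices of the two fundamental roots -/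
def j0 : Fin chevG2.rank := ⟨0, by decide⟩
def j1 : Fin chevG2.rank := ⟨1, by decide⟩

omit [Fintype K] [CharP K 3] in
theorem eq_single_mul (c : Fin chevG2.rank → Kˣ) :
    c = Pi.mulSingle j0 (c j0) * Pi.mulSingle j1 (c j1) := by
  funext i
  have hi : i = j0 ∨ i = j1 := by
    rcases i with ⟨i, hi⟩
    have : i < 2 := hi
    interval_cases i
    · exact Or.inl rfl
    · exact Or.inr rfl
  rcases hi with rfl | rfl
  · rw [Pi.mul_apply, Pi.mulSingle_eq_same, Pi.mulSingle_eq_of_ne (by decide), mul_one]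
  · rw [Pi.mul_apply, Pi.mulSingle_eq_same, Pi.mulSingle_eq_of_ne (by decide), one_mul]

/-- the action of the twisting automorphism on the parameters of the diagonal subgroup -/
noncomputable def swapc (K : Type*) [Field K] [CharP K 3] (m : ℕ) (c : Fin chevG2.rank → Kˣ) :
    Fin chevG2.rank → Kˣ :=
  Pi.mulSingle j0 (Units.map (ph1 K m : K →* K) (c j1)) *
    Pi.mulSingle j1 (Units.map (ph3 K m : K →* K) (c j0))

omit [Fintype K] in
theorem swapc_j0 (c : Fin chevG2.rank → Kˣ) :
    swapc K m c j0 = Units.map (ph1 K m : K →* K) (c j1) := by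
  unfold swapc
  rw [Pi.mul_apply, Pi.mulSingle_eq_same, Pi.mulSingle_eq_of_ne (by decide), mul_one]

omit [Fintype K] in
theorem swapc_j1 (c : Fin chevG2.rank → Kˣ) :
    swapc K m c j1 = Units.map (ph3 K m : K →* K) (c j0) := by
  unfold swapc
  rw [Pi.mul_apply, Pi.mulSingle_eq_same, Pi.mulSingle_eq_of_ne (by decide), one_mul]

theorem sg_torG (hK : Fintype.card K = 3 ^ (2 * m + 1)) (c : Fin chevG2.rank → Kˣ) :
    sg hK (torG K c) = torG K (swapc K m c) := by
  conv_lhs => rw [eq_single_mul c]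
  have e0 : sg hK (torG K (Pi.mulSingle j0 (c j0)))
      = torG K (Pi.mulSingle j1 (Units.map (ph3 K m : K →* K) (c j0))) := by
    rw [torG_single, torG_single, sg_hG hK _ (by decide)]
    show hG K 6 (fpar K m 7 _) = hG K 6 _
    congr 1
    unfold fpar
    exact ph1_pow3 _
  have e1 : sg hK (torG K (Pi.mulSingle j1 (c j1)))
      = torG K (Pi.mulSingle j0 (Units.map (ph1 K m : K →* K) (c j1))) := by
    rw [torG_single, torG_single, sg_hG hK _ (by decide)]
    show hG K 7 (fpar K m 6 _) = hG K 7 _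
    congr 1
    unfold fpar
    exact pow_one _
  rw [map_mul, map_mul, e0, e1, ← map_mul, mul_comm]
  rfl

omit [CharP K 3] in
theorem torG_injective : Function.Injective (torG K) := by
  intro c c' h
  have h' : Tw.hU K chevG2 c = Tw.hU K chevG2 c' := congrArg Subtype.val h
  rw [hU_apply, hU_apply] at h'
  exact zact_injective (D := chevG2) (by simp) (diagU_injective h')

/-- the fixed points in the diagonal subgroup, as a homomorphism from the multiplicative group of
the field -/
noncomputable def tauT (K : Type*) [Field K] [CharP K 3] (m : ℕ) : Kˣ →* GL chevG2.Idx K where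
  toFun μ := Tw.hU K chevG2
    (Pi.mulSingle j0 (Units.map (ph1 K m : K →* K) μ) * Pi.mulSingle j1 μ)
  map_one' := by
    rw [map_one, Pi.mulSingle_one, Pi.mulSingle_one, one_mul, map_one]
  map_mul' a b := by
    rw [← map_mul]
    congr 1
    rw [map_mul, Pi.mulSingle_mul, Pi.mulSingle_mul]
    exact mul_mul_mul_comm _ _ _ _

omit [CharP K 3] in
theorem tauT_injective [CharP K 3] : Function.Injective (tauT K m) := by
  intro a b h
  have h1 : torG K (Pi.mulSingle j0 (Units.map (ph1 K m : K →* K) a) * Pi.mulSingle j1 a)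
      = torG K (Pi.mulSingle j0 (Units.map (ph1 K m : K →* K) b) * Pi.mulSingle j1 b) :=
    Subtype.ext h
  have h2 := congrFun (torG_injective h1) j1
  rw [Pi.mul_apply, Pi.mul_apply, Pi.mulSingle_eq_same, Pi.mulSingle_eq_same,
    Pi.mulSingle_eq_of_ne (by decide), Pi.mulSingle_eq_of_ne (by decide), one_mul, one_mul] at h2
  exact h2

/-- the elements of the diagonal subgroup fixed by the twisting automorphism -/
theorem diag_fixed_iff (hK : Fintype.card K = 3 ^ (2 * m + 1)) (h : GL chevG2.Idx K) :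
    h ∈ chevG2.diagonalSubgroup K ⊓ fixR hK ↔ h ∈ (tauT K m).range := by
  constructor
  · rintro ⟨hh, hf⟩
    have hh' : h ∈ (chevG2.diagonalSubgroup K : Set (GL chevG2.Idx K)) := hh
    rw [range_hU (by simp)] at hh'
    obtain ⟨c, rfl⟩ := hh'
    obtain ⟨hG, hfix⟩ := (mem_fixR hK _).1 hf
    have e : sg hK (torG K c) = torG K c := hfix
    rw [sg_torG hK] at e
    have e' := torG_injective e
    refine ⟨c j1, ?_⟩
    show Tw.hU K chevG2 _ = Tw.hU K chevG2 c
    congr 1
    have e0 := congrFun e' j0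
    rw [swapc_j0] at e0
    rw [e0]
    exact (eq_single_mul c).symm
  · rintro ⟨μ, rfl⟩
    set c : Fin chevG2.rank → Kˣ :=
      Pi.mulSingle j0 (Units.map (ph1 K m : K →* K) μ) * Pi.mulSingle j1 μ with hc
    have hmem : Tw.hU K chevG2 c ∈ chevG2.diagonalSubgroup K := by
      have : Tw.hU K chevG2 c ∈ (chevG2.diagonalSubgroup K : Set (GL chevG2.Idx K)) := by
        rw [range_hU (by simp)]
        exact ⟨c, rfl⟩
      exact this
    refine ⟨hmem, ?_⟩
    show Tw.hU K chevG2 c ∈ fixR hK
    rw [mem_fixR]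
    refine ⟨(hadd2 K).diagonal_le hmem, ?_⟩
    have e : sg hK (torG K c) = torG K c := by
      rw [sg_torG hK]
      congr 1
      have c0 : c j0 = Units.map (ph1 K m : K →* K) μ := by
        rw [hc, Pi.mul_apply, Pi.mulSingle_eq_same, Pi.mulSingle_eq_of_ne (by decide), mul_one]
      have c1 : c j1 = μ := by
        rw [hc, Pi.mul_apply, Pi.mulSingle_eq_same, Pi.mulSingle_eq_of_ne (by decide), one_mul]
      unfold swapc
      rw [c0, c1, hc]
      congr 2
      apply Units.ext
      show ph3 K m (ph1 K m (μ : K)) = μ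
      exact ph3_ph1 hK _
    exact e

/-- the subgroup of the fixed points in the diagonal subgroup has `q - 1` elements -/
theorem card_diag_fixed (hK : Fintype.card K = 3 ^ (2 * m + 1)) :
    Nat.card ↥(chevG2.diagonalSubgroup K ⊓ fixR hK) = 3 ^ (2 * m + 1) - 1 := by
  classical
  have e : chevG2.diagonalSubgroup K ⊓ fixR hK = (tauT K m).range := by
    ext h
    exact diag_fixed_iff hK h
  rw [e, Nat.card_congr (MonoidHom.ofInjective (tauT_injective (K := K) (m := m))).toEquiv.symm,
    Nat.card_eq_fintype_card, Fintype.card_units, hK]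

/-- the subgroup of the fixed points in the diagonal subgroup is cyclic -/
theorem isCyclic_diag_fixed (hK : Fintype.card K = 3 ^ (2 * m + 1)) :
    IsCyclic ↥(chevG2.diagonalSubgroup K ⊓ fixR hK) := by
  have e : chevG2.diagonalSubgroup K ⊓ fixR hK = (tauT K m).range := by
    ext h
    exact diag_fixed_iff hK h
  rw [e]
  exact isCyclic_of_surjective (tauT K m).rangeRestrict (MonoidHom.rangeRestrict_surjective _)

end

end Cfsg.Agent.Lib.Helper5.Ree
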