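import Cfsg.Agent.Lib.Helper5.Ree.U1
import Cfsg.Agent.Lib.Helper5.Ree.Torus
import Mathlib

/-!
# The diagonal subgroup of the small Ree group (helper5)

The fixed points of the twisting automorphism in `H` lie in the group generated by the fixed
points in `U` and `V`.
-/

set_option autoImplicit false

namespace Cfsg.Agent.Lib.Helper5.Ree

open Cfsg.Lie Cfsg.Agent.Lib.Helper5.Chev Cfsg.Agent.Lib.Helper5.GA Cfsg.Agent.Lib.Helper5.Tw
open Cfsg.Agent.Lib.Helper5.Frob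
open scoped Matrix

section general

variable {K : Type*} [Field K]

theorem prod_I2 {M : Type*} [CommMonoid M] (f : Fin chevG2.rank → M) : ∏ i, f i = f j0 * f j1 :=
  Fin.prod_univ_two f

theorem pairD_eq (s v : ℕ) : pairD chevG2 s v
    = (chevG2.coroot.getD s #[]).getD 0 0 * chevG2.cartan 0 v
      + (chevG2.coroot.getD s #[]).getD 1 0 * chevG2.cartan 1 v := by
  unfold pairD
  show ((List.range 2).map _).sum = _
  simp [List.range_succ]

/-- `h_s(t)` in terms of the fundamental coroots -/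
theorem hG_eq_torG (s : ℕ) (hs : s < chevG2.nroots) (t : Kˣ) :
    hG K s (t : K) = torG K (fun k => t ^ ((chevG2.coroot.getD s #[]).getD k.val 0)) := by
  apply Subtype.ext
  rw [hG_val, torG_val]
  apply Units.ext
  rw [Tw.hMat_eq, hMat_eq_dK_all chevG2 (by simp) s hs _ t.ne_zero, hU_apply, diagU_val]
  unfold dK
  congr 1
  funext x
  rcases x with j | v
  · rfl
  · simp only [Sum.elim_inr]
    rw [zact_apply, prod_I2, pairD_eq, zpow_add₀ t.ne_zero, zpow_mul, zpow_mul, Units.val_mul,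
      Units.val_zpow_eq_zpow_val, Units.val_zpow_eq_zpow_val, Units.val_zpow_eq_zpow_val,
      Units.val_zpow_eq_zpow_val]
    rfl

theorem six_comm {G : Type*} [Group G] (a b c d : G) (hca : Commute c a) (hcb : Commute c b)
    (hda : Commute d a) : a * b * a * (c * d * c) = (a * c) * (b * d) * (a * c) := by
  simp only [mul_assoc]
  rw [hca.symm.left_comm, hcb.symm.left_comm, hda.symm.left_comm]

end general

theorem ck_orth : commb 3 DataG2.fd 10 8 = true ∧ commb 3 DataG2.fd 10 3 = true ∧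
    commb 3 DataG2.fd 1 8 = true := by decide +kernel

/-- the involution of the diagonal subgroup as a word in the generators of the twisted group -/
theorem ck_inv : mlEqb 3 DataG2.fd
    [(7, 0, 0, 0, 0), (6, 0, 0, 0, 0), (8, 0, 0, 0, 0), (9, 1, 0, 0, 0), (10, 0, 0, 0, 0),
      (11, 1, 0, 0, 0),
      (4, 0, 0, 0, 0), (5, 0, 0, 0, 0), (3, 0, 0, 0, 0), (2, -1, 0, 0, 0), (1, 0, 0, 0, 0),
      (0, -1, 0, 0, 0),
      (7, 1, 0, 0, 0), (6, 1, 0, 0, 0), (8, 2, 0, 0, 0), (9, 2, 0, 0, 0), (10, 1, 0, 0, 0),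
      (11, 1, 0, 0, 0),
      (4, 1, 0, 0, 0), (5, 1, 0, 0, 0), (3, -2, 0, 0, 0), (2, 2, 0, 0, 0), (1, -1, 0, 0, 0),
      (0, 1, 0, 0, 0)]
    [(7, -1, 0, 0, 0), (4, 1, 0, 0, 0), (7, -1, 0, 0, 0), (7, -1, 0, 0, 0), (4, 1, 0, 0, 0),
      (7, -1, 0, 0, 0),
      (6, -1, 0, 0, 0), (5, 1, 0, 0, 0), (6, -1, 0, 0, 0), (6, -1, 0, 0, 0), (5, 1, 0, 0, 0),
      (6, -1, 0, 0, 0)] = true := by decide +kernel

section

variable {K : Type*} [Field K] [Fintype K] [CharP K 3] {m : ℕ}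

omit [Fintype K] [CharP K 3] in
theorem xU0 (r : ℕ) : (hadd2 K).xU r (0 : K) = 1 := Units.ext (x_zero r)

omit [Fintype K] in
/-- the elements of the twisted group in the root subgroups of `a + b` and `3a + b` -/
theorem yU_eq (u : K) :
    (hadd2 K).wordU (reeWordU (3 ^ m) 0 u 0) = (hadd2 K).xU 8 (ph1 K m u) * (hadd2 K).xU 10 u := by
  rw [← posSide_rw]
  unfold Side.rw
  rw [Side.wordU_w6]
  unfold Side.z
  show (hadd2 K).xU 7 _ * (hadd2 K).xU 6 _ * ((hadd2 K).xU 8 _ * (hadd2 K).xU 9 _ *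
    (hadd2 K).xU 10 _ * (hadd2 K).xU 11 _) = _
  simp only [map_zero, xU0, one_mul, mul_one, mul_zero, add_zero, zero_mul, ne_eq,
    OfNat.ofNat_ne_zero, not_false_eq_true, zero_pow]

omit [Fintype K] in
theorem yV_eq (w : K) :
    (hadd2 K).wordU (reeWordV (3 ^ m) 0 w 0)
      = (hadd2 K).xU 3 (-(ph1 K m w)) * (hadd2 K).xU 1 (-w) := by
  have := negSide_rw (K := K) (m := m) 0 w 0
  rw [neg_zero] at this
  rw [← this]
  unfold Side.rw
  rw [Side.wordU_w6]
  unfold Side.z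
  show (hadd2 K).xU 4 _ * (hadd2 K).xU 5 _ * ((hadd2 K).xU 3 _ * (hadd2 K).xU 2 _ *
    (hadd2 K).xU 1 _ * (hadd2 K).xU 0 _) = _
  simp only [map_zero, map_neg, xU0, one_mul, mul_one, mul_zero, add_zero, zero_mul, ne_eq,
    OfNat.ofNat_ne_zero, not_false_eq_true, zero_pow]

omit [Fintype K] [CharP K 3] in
theorem reeU_mem (e : ℕ) (t u v : K) :
    (hadd2 K).wordU (reeWordU e t u v) ∈ twistedG2 K e := by
  unfold twistedG2 ChevalleyDatum.genSubgroup
  apply Subgroup.subset_closure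
  exact ⟨_, ⟨t, u, v, Or.inl rfl⟩, (hadd2 K).wordU_val _⟩

omit [Fintype K] [CharP K 3] in
theorem reeV_mem (e : ℕ) (t u v : K) :
    (hadd2 K).wordU (reeWordV e t u v) ∈ twistedG2 K e := by
  unfold twistedG2 ChevalleyDatum.genSubgroup
  apply Subgroup.subset_closure
  exact ⟨_, ⟨t, u, v, Or.inr rfl⟩, (hadd2 K).wordU_val _⟩

omit [Fintype K] in
/-- the elements `n_{a+b}(u^θ) n_{3a+b}(u)` lie in the twisted group -/
theorem nn_mem (u : K) :
    nUt (hadd2 K) 8 (ph1 K m u) * nUt (hadd2 K) 10 u ∈ twistedG2 K (3 ^ m) := by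
  have h1 := commute_of_check 3 DataG2.agrees (hadd2 K) 10 8 ck_orth.1
  have h2 := commute_of_check 3 DataG2.agrees (hadd2 K) 10 3 ck_orth.2.1
  have h3 := commute_of_check 3 DataG2.agrees (hadd2 K) 1 8 ck_orth.2.2
  have e : nUt (hadd2 K) 8 (ph1 K m u) * nUt (hadd2 K) 10 u
      = (hadd2 K).wordU (reeWordU (3 ^ m) 0 u 0) * (hadd2 K).wordU (reeWordV (3 ^ m) 0 u⁻¹ 0) *
        (hadd2 K).wordU (reeWordU (3 ^ m) 0 u 0) := by
    rw [yU_eq, yV_eq, map_inv₀]
    unfold nUt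
    show (hadd2 K).xU 8 _ * (hadd2 K).xU 3 _ * (hadd2 K).xU 8 _ *
      ((hadd2 K).xU 10 _ * (hadd2 K).xU 1 _ * (hadd2 K).xU 10 _) = _
    exact six_comm _ _ _ _ (h1 _ _) (h2 _ _) (h3 _ _)
  rw [e]
  exact Subgroup.mul_mem _ (Subgroup.mul_mem _ (reeU_mem _ _ _ _) (reeV_mem _ _ _ _))
    (reeU_mem _ _ _ _)

/-- the parameter of `h_{a+b}(u^θ) h_{3a+b}(u)` -/
noncomputable def muU (K : Type*) [Field K] [CharP K 3] (m : ℕ) (u : Kˣ) : Kˣ :=
  Units.map (ph3 K m : K →* K) u * u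

/-- `h_{a+b}(u^θ) h_{3a+b}(u)` in the parametrisation of the fixed points of `H` -/
theorem tauT_muU (hK : Fintype.card K = 3 ^ (2 * m + 1)) (u : Kˣ) :
    tauT K m (muU K m u)
      = (nUt (hadd2 K) 8 (ph1 K m u) * nUt (hadd2 K) 8 (-1)) *
        (nUt (hadd2 K) 10 u * nUt (hadd2 K) 10 (-1)) := by
  have e8 := hG_eq_torG (K := K) 8 (by decide) (Units.map (ph1 K m : K →* K) u)
  have e10 := hG_eq_torG (K := K) 10 (by decide) u
  have e : hG K 8 (ph1 K m (u : K)) * hG K 10 (u : K)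
      = torG K (Pi.mulSingle j0 (Units.map (ph1 K m : K →* K) (muU K m u)) *
        Pi.mulSingle j1 (muU K m u)) := by
    have e8' : hG K 8 (ph1 K m (u : K)) = hG K 8 ((Units.map (ph1 K m : K →* K) u : Kˣ) : K) := rfl
    rw [e8', e8, e10, ← map_mul]
    congr 1
    funext k
    have hk : k = j0 ∨ k = j1 := by
      rcases k with ⟨k, hk⟩
      have : k < 2 := hk
      interval_cases k
      · exact Or.inl rfl
      · exact Or.inr rfl
    rcases hk with rfl | rfl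
    · rw [Pi.mul_apply, Pi.mul_apply, Pi.mulSingle_eq_same, Pi.mulSingle_eq_of_ne (by decide),
        mul_one]
      show (Units.map (ph1 K m : K →* K) u) ^ (1 : ℤ) * u ^ (1 : ℤ) = _
      rw [zpow_one, zpow_one]
      unfold muU
      rw [map_mul]
      apply Units.ext
      show ph1 K m (u : K) * (u : K) = ph1 K m (ph3 K m (u : K)) * ph1 K m (u : K)
      rw [ph1_ph3 hK, mul_comm]
    · rw [Pi.mul_apply, Pi.mul_apply, Pi.mulSingle_eq_same, Pi.mulSingle_eq_of_ne (by decide),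
        one_mul]
      show (Units.map (ph1 K m : K →* K) u) ^ (3 : ℤ) * u ^ (1 : ℤ) = _
      rw [zpow_one]
      unfold muU
      apply Units.ext
      show ((Units.map (ph1 K m : K →* K) u ^ (3 : ℤ) : Kˣ) : K) * (u : K) = ph3 K m (u : K) * (u : K)
      rw [Units.val_zpow_eq_zpow_val]
      show (ph1 K m (u : K)) ^ (3 : ℤ) * (u : K) = _
      rw [show ((3 : ℤ)) = ((3 : ℕ) : ℤ) from rfl, zpow_natCast, ph1_pow3]
  exact (congrArg Subtype.val e).symm

omit [CharP K 3] in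
/-- every non-zero element of the field is a square or minus a square -/
theorem exists_pm_sq (hK : Fintype.card K = 3 ^ (2 * m + 1)) (μ : Kˣ) :
    ∃ y : Kˣ, μ = y ^ 2 ∨ μ = -y ^ 2 := by
  classical
  have h4 : Fintype.card K % 4 = 3 := by
    rw [hK]
    have : ∀ k : ℕ, 3 ^ (2 * k + 1) % 4 = 3 := by
      intro k
      induction k with
      | zero => rfl
      | succ k ih =>
        have : 3 ^ (2 * (k + 1) + 1) = 9 * 3 ^ (2 * k + 1) := by ring
        omega
    exact this m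
  have hm1 : ¬ IsSquare (-1 : K) := by
    rw [FiniteField.isSquare_neg_one_iff]
    omega
  have hsqu : ∀ x : K, x ≠ 0 → IsSquare x → ∃ y : Kˣ, x = (y : K) ^ 2 := by
    rintro x hx ⟨y, rfl⟩
    have hy : y ≠ 0 := by
      rintro rfl
      exact hx (by ring)
    exact ⟨Units.mk0 y hy, by rw [Units.val_mk0]; ring⟩
  by_cases hsq : IsSquare (μ : K)
  · obtain ⟨y, hy⟩ := hsqu _ μ.ne_zero hsq
    exact ⟨y, Or.inl (Units.ext (by rw [hy, Units.val_pow_eq_pow_val]))⟩
  · have h1 : quadraticChar K (μ : K) = -1 := quadraticChar_neg_one_iff_not_isSquare.2 hsq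
    have h2 : quadraticChar K (-1 : K) = -1 := quadraticChar_neg_one_iff_not_isSquare.2 hm1
    have h3 : quadraticChar K (-(μ : K)) = 1 := by
      have : -(μ : K) = (-1) * (μ : K) := by ring
      rw [this, map_mul, h1, h2]
      norm_num
    have h4 : IsSquare (-(μ : K)) :=
      (quadraticChar_one_iff_isSquare (neg_ne_zero.2 μ.ne_zero)).1 h3
    obtain ⟨y, hy⟩ := hsqu _ (neg_ne_zero.2 μ.ne_zero) h4
    refine ⟨y, Or.inr (Units.ext ?_)⟩
    rw [Units.val_neg, Units.val_pow_eq_pow_val, ← hy, neg_neg]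

/-- every square is of the form `u^(3θ+1)` -/
theorem sq_eq_muU (hK : Fintype.card K = 3 ^ (2 * m + 1)) (y : Kˣ) :
    y ^ 2 = muU K m (Units.map (ph3 K m : K →* K) y * y⁻¹) := by
  unfold muU
  apply Units.ext
  have e : ph3 K m (ph3 K m (y : K)) = (y : K) ^ 3 := by
    rw [← ph1_pow3 (ph3 K m (y : K)), ph1_ph3 hK]
  have hy : (y : K) ≠ 0 := y.ne_zero
  have hp : ph3 K m (y : K) ≠ 0 := by
    rw [ph3_apply]
    exact pow_ne_zero _ hy
  simp only [map_mul, map_inv, Units.val_mul, Units.val_inv_eq_inv_val, Units.val_pow_eq_pow_val,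
    Units.coe_map, MonoidHom.coe_coe, e]
  field_simp

omit [Fintype K] in
/-- the involution of the diagonal subgroup as a product of generators of the twisted group -/
theorem inv_word :
    (hadd2 K).wordU ((posSide (hadd2 K)).rw m 0 0 1) *
      (hadd2 K).wordU ((negSide (hadd2 K)).rw m 0 0 (-1)) *
      (hadd2 K).wordU ((posSide (hadd2 K)).rw m 1 1 1) *
      (hadd2 K).wordU ((negSide (hadd2 K)).rw m 1 (-1) 1)
    = (nUt (hadd2 K) 7 (-1) * nUt (hadd2 K) 7 (-1)) * (nUt (hadd2 K) 6 (-1) * nUt (hadd2 K) 6 (-1)) := by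
  have e := wordU_eq_of_ml 3 DataG2.agrees (hadd2 K) _ _ ck_inv (1 : K) 1 1
  simp only [mlEval, List.map_cons, List.map_nil, wordU_cons, wordU_nil, pow_zero, mul_one,
    Int.cast_zero, Int.cast_one, Int.cast_neg, Int.cast_ofNat, xU0, one_mul] at e
  unfold Side.rw Side.w6 nUt
  show (hadd2 K).wordU [((7 : ℕ), _), (6, _), (8, _), (9, _), (10, _), (11, _)] *
    (hadd2 K).wordU [((4 : ℕ), _), (5, _), (3, _), (2, _), (1, _), (0, _)] *
    (hadd2 K).wordU [((7 : ℕ), _), (6, _), (8, _), (9, _), (10, _), (11, _)] *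
    (hadd2 K).wordU [((4 : ℕ), _), (5, _), (3, _), (2, _), (1, _), (0, _)]
    = ((hadd2 K).xU 7 (-1) * (hadd2 K).xU 4 (-(-1 : K)⁻¹) * (hadd2 K).xU 7 (-1) *
        ((hadd2 K).xU 7 (-1) * (hadd2 K).xU 4 (-(-1 : K)⁻¹) * (hadd2 K).xU 7 (-1))) *
      ((hadd2 K).xU 6 (-1) * (hadd2 K).xU 5 (-(-1 : K)⁻¹) * (hadd2 K).xU 6 (-1) *
        ((hadd2 K).xU 6 (-1) * (hadd2 K).xU 5 (-(-1 : K)⁻¹) * (hadd2 K).xU 6 (-1)))
  simp only [wordU_cons, wordU_nil, map_zero, map_one, map_neg, mul_one, mul_zero, zero_mul,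
    add_zero, zero_add, one_mul, xU0, one_pow, ne_eq, OfNat.ofNat_ne_zero, not_false_eq_true,
    zero_pow, posSide, negSide, inv_neg, inv_one, neg_neg, mul_assoc]
  have h2 : (1 : K) + 1 = 2 := by norm_num
  have h3 : (-1 : K) + -1 = -2 := by norm_num
  have h4 : (-1 : K) * 1 = -1 := by norm_num
  simp only [h2, h3, h4, neg_mul, one_mul] at e ⊢
  exact e

end

end Cfsg.Agent.Lib.Helper5.Ree
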