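import Cfsg.Agent.Lib.Helper5.Ree.AutB
import Cfsg.Agent.Lib.Helper8.FA.FieldAutTw
import Cfsg.Agent.Lib.Helper8.FA.OutSplit
import Cfsg.Agent.Lib.Helper5.Tw.D4AutB
import Cfsg.Agent.Lib.Helper5.AutBN.OutTools
import Mathlib

/-!
# Automorphisms of the small Ree groups: the normal form and the count (helper5)
-/

set_option autoImplicit false

namespace Cfsg.Agent.Lib.Helper5.Ree

open Cfsg.Lie Cfsg.Agent.Lib.Helper5.Chev Cfsg.Agent.Lib.Helper5.GA Cfsg.Agent.Lib.Helper5.Tw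
open Cfsg.Agent.Lib.Helper5.Frob Cfsg.Agent.Lib.Helper5.AutBN Cfsg.Agent.Lib.Helper8.FA
open scoped Matrix

section general

variable {G : Type*} [Group G]

theorem mem_normalizer_of_cj_eq {g : G} {H : Subgroup G} (h : cj g H = H) :
    g ∈ Subgroup.normalizer (H : Set G) := by
  have h1 : g⁻¹ ∈ Subgroup.normalizer (H : Set G) := by
    rw [Subgroup.mem_normalizer_iff]
    intro x
    rw [inv_inv]
    conv_lhs => rw [← h]
    exact mem_cj
  have := Subgroup.inv_mem _ h1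
  rwa [inv_inv] at this

theorem map_mul_aut (a b : MulAut G) (H : Subgroup G) :
    H.map (a * b).toMonoidHom = (H.map b.toMonoidHom).map a.toMonoidHom := by
  rw [Subgroup.map_map]
  rfl

theorem map_inv_aut (a : MulAut G) (H : Subgroup G) (h : H.map a.toMonoidHom = H) :
    H.map (a⁻¹).toMonoidHom = H := by
  conv_lhs => rw [← h]
  rw [← map_mul_aut, inv_mul_cancel]
  exact Subgroup.map_id H

theorem map_conj_eq_cj (g : G) (H : Subgroup G) :
    H.map (MulAut.conj g).toMonoidHom = cj g H := rfl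

theorem map_eq_of_forall_mem [Finite G] (θ : G ≃* G) (H : Subgroup G)
    (h : ∀ x ∈ H, θ x ∈ H) : H.map θ.toMonoidHom = H := by
  have hle : H.map θ.toMonoidHom ≤ H := by
    rintro _ ⟨x, hx, rfl⟩
    exact h x hx
  apply Subgroup.eq_of_le_of_card_ge hle
  exact le_of_eq (Nat.card_congr (H.equivMapOfInjective _ θ.injective).toEquiv)

end general

section

variable {K : Type*} [Field K] [Fintype K] [CharP K 3] {m : ℕ}

theorem card_UU1 (hK : Fintype.card K = 3 ^ (2 * m + 1)) :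
    Nat.card (UU1 K m) = 3 ^ (3 * (2 * m + 1)) := by
  rw [Nat.card_congr (Subgroup.subgroupOfEquivOfLe
    (inf_le_right : chevG2.posUnipotent K ⊓ twistedG2 K (3 ^ m) ≤ twistedG2 K (3 ^ m))).toEquiv,
    card_pos_twisted hK, ← pow_mul, mul_comm]

theorem isPGroup_UU1 (hK : Fintype.card K = 3 ^ (2 * m + 1)) : IsPGroup 3 (UU1 K m) :=
  IsPGroup.of_card (card_UU1 hK)

theorem index_UU1 (hK : Fintype.card K = 3 ^ (2 * m + 1)) : ¬ 3 ∣ (UU1 K m).index := by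
  have h1 : 3 ^ (3 * (2 * m + 1)) * (UU1 K m).index
      = 3 ^ (3 * (2 * m + 1)) * ((3 ^ (2 * m + 1) - 1) * ((3 ^ (2 * m + 1)) ^ 3 + 1)) := by
    have h := Subgroup.card_mul_index (UU1 K m)
    rw [card_UU1 hK, card_twisted hK] at h
    rw [h]
    ring
  have h2 : (UU1 K m).index = (3 ^ (2 * m + 1) - 1) * ((3 ^ (2 * m + 1)) ^ 3 + 1) :=
    Nat.eq_of_mul_eq_mul_left (pow_pos (by norm_num) _) h1
  rw [h2]
  intro hdvd
  have hQ : 3 ∣ 3 ^ (2 * m + 1) := dvd_pow_self 3 (by omega)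
  have hQ1 : 1 ≤ 3 ^ (2 * m + 1) := Nat.one_le_pow _ _ (by norm_num)
  have hQ3 : 3 ∣ (3 ^ (2 * m + 1)) ^ 3 := dvd_pow hQ (by norm_num)
  rcases (Nat.Prime.dvd_mul Nat.prime_three).1 hdvd with h | h
  · omega
  · omega

/-- the normal form: after an inner automorphism, `U¹` and `V¹` are fixed -/
theorem exists_normal_form_ree (hK : Fintype.card K = 3 ^ (2 * m + 1))
    (θ : ↥(twistedG2 K (3 ^ m)) ≃* ↥(twistedG2 K (3 ^ m))) :
    ∃ x : ↥(twistedG2 K (3 ^ m)),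
      (UU1 K m).map (θ.trans (MulAut.conj x⁻¹)).toMonoidHom = UU1 K m ∧
      (VV1 K m).map (θ.trans (MulAut.conj x⁻¹)).toMonoidHom = VV1 K m := by
  have := finite_twisted hK
  have : Fact (Nat.Prime 3) := ⟨Nat.prime_three⟩
  obtain ⟨x1, hx1⟩ := exists_map_eq_cj 3 (UU1 K m) (isPGroup_UU1 hK) (index_UU1 hK) θ
  set θ1 : ↥(twistedG2 K (3 ^ m)) ≃* ↥(twistedG2 K (3 ^ m)) := θ.trans (MulAut.conj x1⁻¹) with hθ1
  have h1U : (UU1 K m).map θ1.toMonoidHom = UU1 K m := by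
    rw [hθ1, map_trans_conj, hx1, cj_inv_cj]
  have h1V : (VV1 K m).map θ1.toMonoidHom = cj (θ1 (s1 hK)) (UU1 K m) := by
    rw [← cj_s1_UU1 hK, map_cj, h1U]
  rcases bruhat_G hK (θ1 (s1 hK)) with hB | ⟨u, hu, b, hb, e⟩
  · exfalso
    rw [cj_of_mem_normalizer (B1_le_normalizer hB)] at h1V
    have h2 : VV1 K m = UU1 K m := by
      have hinj : Function.Injective θ1.toMonoidHom := θ1.injective
      apply Subgroup.map_injective hinj
      rw [h1V, h1U]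
    obtain ⟨u, hu, hne⟩ := exists_UU1_ne_one hK
    have h3 : u ∈ B1 K m ⊓ VV1 K m := ⟨UU1_le_B1 hu, by rw [h2]; exact hu⟩
    rw [B1_inf_VV1, Subgroup.mem_bot] at h3
    exact hne h3
  · have e1 : cj (θ1 (s1 hK)) (UU1 K m) = cj u (VV1 K m) := by
      rw [e, ← cj_mul, ← cj_mul, cj_of_mem_normalizer (B1_le_normalizer hb), cj_s1_UU1 hK]
    have e2 : θ.trans (MulAut.conj (x1 * u)⁻¹) = θ1.trans (MulAut.conj u⁻¹) := by
      apply MulEquiv.ext
      intro y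
      show (x1 * u)⁻¹ * θ y * (x1 * u)⁻¹⁻¹ = u⁻¹ * (x1⁻¹ * θ y * x1⁻¹⁻¹) * u⁻¹⁻¹
      group
    refine ⟨x1 * u, ?_, ?_⟩
    · rw [e2, map_trans_conj, h1U]
      exact cj_of_mem_normalizer (Subgroup.inv_mem _ (B1_le_normalizer (UU1_le_B1 hu)))
    · rw [e2, map_trans_conj, h1V, e1, cj_inv_cj]

/-- an automorphism fixing `U¹` permutes the elements `X(t, u, v)` -/
theorem pres_X (hK : Fintype.card K = 3 ^ (2 * m + 1))
    (θ : ↥(twistedG2 K (3 ^ m)) ≃* ↥(twistedG2 K (3 ^ m)))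
    (hU : (UU1 K m).map θ.toMonoidHom = UU1 K m) (t u v : K) :
    ∃ t' u' v' : K, θ (Xg K m t u v) = Xg K m t' u' v' := by
  have h : θ (Xg K m t u v) ∈ (UU1 K m).map θ.toMonoidHom :=
    Subgroup.mem_map_of_mem _ (Xg_mem hK t u v)
  rw [hU] at h
  exact (mem_UU1_iff hK _).1 h

/-- an automorphism fixing `U¹` and `V¹` permutes the elements of `H¹` -/
theorem pres_T (hK : Fintype.card K = 3 ^ (2 * m + 1))
    (θ : ↥(twistedG2 K (3 ^ m)) ≃* ↥(twistedG2 K (3 ^ m)))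
    (hU : (UU1 K m).map θ.toMonoidHom = UU1 K m) (hV : (VV1 K m).map θ.toMonoidHom = VV1 K m)
    (ν : Kˣ) : ∃ ν' : Kˣ, θ (Tg hK ν) = Tg hK ν' := by
  have h1 : θ (Tg hK ν) ∈ Subgroup.normalizer (UU1 K m : Set ↥(twistedG2 K (3 ^ m))) := by
    have h := Subgroup.map_equiv_normalizer_eq (UU1 K m) θ
    rw [hU] at h
    rw [← h]
    exact Subgroup.mem_map_of_mem _ (B1_le_normalizer (HH1_le_B1 (Tg_mem hK ν)))
  have h2 : θ (Tg hK ν) ∈ Subgroup.normalizer (VV1 K m : Set ↥(twistedG2 K (3 ^ m))) := by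
    have h := Subgroup.map_equiv_normalizer_eq (VV1 K m) θ
    rw [hV] at h
    rw [← h]
    exact Subgroup.mem_map_of_mem _ (HH1_le_normalizer (Tg_mem hK ν))
  exact (mem_HH1_iff hK _).1 (normalizer_inf_le hK ⟨h1, h2⟩)

/-- an automorphism fixing `U¹` elementwise and fixing `V¹` is trivial -/
theorem eq_one_of_fix (hK : Fintype.card K = 3 ^ (2 * m + 1))
    (θ : ↥(twistedG2 K (3 ^ m)) ≃* ↥(twistedG2 K (3 ^ m)))
    (hU : ∀ x ∈ UU1 K m, θ x = x) (hV : (VV1 K m).map θ.toMonoidHom = VV1 K m)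
    (g : ↥(twistedG2 K (3 ^ m))) : θ g = g := by
  have hUmap : (UU1 K m).map θ.toMonoidHom = UU1 K m := by
    ext x
    constructor
    · rintro ⟨y, hy, rfl⟩
      show θ y ∈ UU1 K m
      rw [hU y hy]
      exact hy
    · intro hx
      exact ⟨x, hx, hU x hx⟩
  have hconj : ∀ g : ↥(twistedG2 K (3 ^ m)),
      (cj g (UU1 K m)).map θ.toMonoidHom = cj g (UU1 K m) := by
    intro g
    rcases bruhat_G hK g with hB | ⟨u, hu, b, hb, e⟩
    · rw [cj_of_mem_normalizer (B1_le_normalizer hB), hUmap]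
    · have e1 : cj g (UU1 K m) = cj u (VV1 K m) := by
        rw [e, ← cj_mul, ← cj_mul, cj_of_mem_normalizer (B1_le_normalizer hb), cj_s1_UU1 hK]
      rw [e1, map_cj, hV, hU u hu]
  have hc : ∀ y : ↥(twistedG2 K (3 ^ m)), y * (g⁻¹ * θ g) * y⁻¹ ∈ B1 K m := by
    intro y
    rw [← normalizer_UU1 hK]
    apply mem_normalizer_of_cj_eq
    have h1 := hconj (g * y⁻¹)
    have h0 : (cj (g * y⁻¹) (UU1 K m)).map θ.toMonoidHom = cj (θ g * y⁻¹) (UU1 K m) := by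
      rw [← cj_mul, map_cj, hconj, cj_mul]
    have h3 : cj (θ g * y⁻¹) (UU1 K m) = cj (g * y⁻¹) (UU1 K m) := h0.symm.trans h1
    have h2 := congrArg (cj (g * y⁻¹)⁻¹) h3
    rw [cj_mul, cj_inv_cj] at h2
    have e : (g * y⁻¹)⁻¹ * (θ g * y⁻¹) = y * (g⁻¹ * θ g) * y⁻¹ := by group
    rw [e] at h2
    exact h2
  have hcore : g⁻¹ * θ g ∈ (B1 K m).normalCore := fun y => hc y
  rw [core_eq_bot hK, Subgroup.mem_bot] at hcore
  exact (inv_mul_eq_one.1 hcore).symm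

end

end Cfsg.Agent.Lib.Helper5.Ree
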