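import Cfsg.Agent.Lib.Helper5.Ree.Gen2
import Mathlib

/-!
# Automorphisms of the small Ree groups: the algebra on `U¹H¹` (helper5)

Abstractly: a group containing elements `X t u v` with the product law of `U¹` and elements `T ν`
acting on them as the torus `H¹` does.  An automorphism preserving both families acts on the
first coordinate by `t ↦ c ψ(t)` with `ψ` a field automorphism (`stage1`); if it acts trivially on
the first coordinate, it fixes all `X t u v` (`stage2`).
-/

set_option autoImplicit false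

namespace Cfsg.Agent.Lib.Helper5.Ree

section

variable {K : Type*} [Field K] [Fintype K] [CharP K 3] {m : ℕ}

/-- the group `U¹H¹` of the small Ree group inside a group `G`, abstractly -/
structure UHData (K : Type*) [Field K] [CharP K 3] (m : ℕ) (G : Type*) [Group G] where
  X : K → K → K → G
  T : Kˣ → G
  X_mul : ∀ t u v t' u' v' : K, X t u v * X t' u' v' = X (t + t') (u + u' - ph3 K m t' * t)
      (v + v' - t' * u + t' * ph3 K m t' * t - ph3 K m t' * t ^ 2)
  X_inj : ∀ t u v t' u' v' : K, X t u v = X t' u' v' → t = t' ∧ u = u' ∧ v = v'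
  T_conj : ∀ (ν : Kˣ) (t u v : K), T ν * X t u v * (T ν)⁻¹
      = X ((ν : K) ^ 2 / ph3 K m ν * t) (ph3 K m ν / ν * u) (ν * v)

namespace UHData

variable {G : Type*} [Group G] (D : UHData K m G)

omit [Fintype K] in
theorem three_zero : (3 : K) = 0 := by
  have h := CharP.cast_eq_zero K 3
  exact_mod_cast h

omit [Fintype K] in
theorem X_congr {t u v t' u' v' : K} (h1 : t = t') (h2 : u = u') (h3 : v = v') :
    D.X t u v = D.X t' u' v' := by rw [h1, h2, h3]

omit [Fintype K] in
theorem X_zero : D.X 0 0 0 = 1 := by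
  have h := D.X_mul 0 0 0 0 0 0
  have e : D.X (0 + 0) (0 + 0 - ph3 K m 0 * 0)
      (0 + 0 - 0 * 0 + 0 * ph3 K m 0 * 0 - ph3 K m 0 * 0 ^ 2) = D.X 0 0 0 :=
    D.X_congr (by ring) (by ring) (by ring)
  rw [e] at h
  have h2 : D.X 0 0 0 * D.X 0 0 0 = D.X 0 0 0 * 1 := by rw [h, mul_one]
  exact mul_left_cancel h2

omit [Fintype K] in
theorem X_mul_zero (t u v u' v' : K) : D.X t u v * D.X 0 u' v' = D.X t (u + u') (v + v') := by
  rw [D.X_mul]
  exact D.X_congr (by ring) (by rw [map_zero]; ring) (by rw [map_zero]; ring)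

omit [Fintype K] in
theorem X_split (t u v : K) : D.X t u v = D.X t 0 0 * D.X 0 u v := by
  rw [D.X_mul_zero]
  exact D.X_congr rfl (by ring) (by ring)

omit [Fintype K] in
theorem X_split3 (t u v : K) : D.X t u v = D.X t 0 0 * D.X 0 u 0 * D.X 0 0 v := by
  rw [D.X_mul_zero, D.X_mul_zero]
  exact D.X_congr rfl (by ring) (by ring)

omit [Fintype K] in
theorem X_pow3 (t u v : K) : D.X t u v ^ 3 = D.X 0 0 (-(ph3 K m t * t ^ 2)) := by
  have h3 : (3 : K) = 0 := three_zero
  rw [pow_three', D.X_mul, D.X_mul]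
  apply D.X_congr
  · linear_combination t * h3
  · linear_combination (u - ph3 K m t * t) * h3
  · linear_combination (v - t * u) * h3

omit [Fintype K] in
theorem X_pow3_eq_one_iff (t u v : K) : D.X t u v ^ 3 = 1 ↔ t = 0 := by
  rw [D.X_pow3, ← D.X_zero]
  constructor
  · intro h
    obtain ⟨-, -, h3⟩ := D.X_inj _ _ _ _ _ _ h
    have h4 : ph3 K m t * t ^ 2 = 0 := neg_eq_zero.1 h3
    rcases mul_eq_zero.1 h4 with h | h
    · exact (map_eq_zero _).1 h
    · exact (pow_eq_zero_iff (two_ne_zero)).1 h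
  · intro h
    rw [h]
    exact D.X_congr rfl rfl (by rw [map_zero]; ring)

end UHData

/-- the algebraic core: functions compatible with the product law of `U¹` and the action of `H¹`
which are the identity on the first coordinate are trivial -/
theorem algebra_core (hK : Fintype.card K = 3 ^ (2 * m + 1)) (hm : 1 ≤ m) (B C : K → K → K → K)
    (hB : ∀ t u v t' u' v' : K, B (t + t') (u + u' - ph3 K m t' * t)
        (v + v' - t' * u + t' * ph3 K m t' * t - ph3 K m t' * t ^ 2)
        = B t u v + B t' u' v' - ph3 K m t' * t)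
    (hC : ∀ t u v t' u' v' : K, C (t + t') (u + u' - ph3 K m t' * t)
        (v + v' - t' * u + t' * ph3 K m t' * t - ph3 K m t' * t ^ 2)
        = C t u v + C t' u' v' - t' * B t u v + t' * ph3 K m t' * t - ph3 K m t' * t ^ 2)
    (hE : ∀ (ν : Kˣ) (t u v : K),
        B ((ν : K) ^ 2 / ph3 K m ν * t) (ph3 K m ν / ν * u) (ν * v) = ph3 K m ν / ν * B t u v ∧
        C ((ν : K) ^ 2 / ph3 K m ν * t) (ph3 K m ν / ν * u) (ν * v) = ν * C t u v) :
    ∀ t u v : K, B t u v = u ∧ C t u v = v := by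
  classical
  have h3 : (3 : K) = 0 := UHData.three_zero
  have h2 : (2 : K) ≠ 0 := by
    intro h
    have : (1 : K) = 0 := by linear_combination h3 - h
    exact one_ne_zero this
  have hB' : ∀ t u v t' u' v' T U V : K, T = t + t' → U = u + u' - ph3 K m t' * t →
      V = v + v' - t' * u + t' * ph3 K m t' * t - ph3 K m t' * t ^ 2 →
      B T U V = B t u v + B t' u' v' - ph3 K m t' * t := by
    intro t u v t' u' v' T U V e1 e2 e3
    rw [e1, e2, e3]
    exact hB t u v t' u' v'
  have hC' : ∀ t u v t' u' v' T U V : K, T = t + t' → U = u + u' - ph3 K m t' * t →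
      V = v + v' - t' * u + t' * ph3 K m t' * t - ph3 K m t' * t ^ 2 →
      C T U V = C t u v + C t' u' v' - t' * B t u v + t' * ph3 K m t' * t
        - ph3 K m t' * t ^ 2 := by
    intro t u v t' u' v' T U V e1 e2 e3
    rw [e1, e2, e3]
    exact hC t u v t' u' v'
  -- the origin
  have B000 : B 0 0 0 = 0 := by
    have h := hB' 0 0 0 0 0 0 0 0 0 (by ring) (by ring) (by ring)
    linear_combination -h
  have C000 : C 0 0 0 = 0 := by
    have h := hC' 0 0 0 0 0 0 0 0 0 (by ring) (by ring) (by ring)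
    linear_combination -h
  -- the splitting
  have Bsplit : ∀ t u v, B t u v = B t 0 0 + B 0 u 0 + B 0 0 v := by
    intro t u v
    have h1 := hB' t 0 0 0 u v t u v (by ring) (by rw [map_zero]; ring) (by rw [map_zero]; ring)
    have h2 := hB' 0 u 0 0 0 v 0 u v (by ring) (by rw [map_zero]; ring) (by rw [map_zero]; ring)
    rw [map_zero] at h1 h2
    linear_combination h1 + h2
  have Csplit : ∀ t u v, C t u v = C t 0 0 + C 0 u 0 + C 0 0 v := by
    intro t u v
    have h1 := hC' t 0 0 0 u v t u v (by ring) (by rw [map_zero]; ring) (by rw [map_zero]; ring)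
    have h2 := hC' 0 u 0 0 0 v 0 u v (by ring) (by rw [map_zero]; ring) (by rw [map_zero]; ring)
    rw [map_zero] at h1 h2
    linear_combination h1 + h2
  -- the centre
  have Bz : ∀ v, B 0 0 v = 0 := by
    intro v
    have h1 := hC' 0 0 v 1 0 0 1 0 v (by ring) (by ring) (by rw [map_one]; ring)
    have h2 := hC' 1 0 0 0 0 v 1 0 v (by ring) (by rw [map_zero]; ring) (by rw [map_zero]; ring)
    rw [map_zero] at h2
    rw [map_one] at h1
    linear_combination h1 - h2
  -- the unit `-1`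
  have hm1 : ((-1 : Kˣ) : K) = -1 := by simp
  have σm1 : ph3 K m (-1) = -1 := by rw [map_neg, map_one]
  have e4 : (-1 : K) / -1 = 1 := div_self (neg_ne_zero.2 one_ne_zero)
  have e5 : (-1 : K) ^ 2 / -1 = -1 := by
    rw [neg_one_sq, div_neg, div_one]
  have Ce : ∀ u, C 0 u 0 = 0 := by
    intro u
    have h := (hE (-1) 0 u 0).2
    simp only [hm1, σm1, e4, e5, mul_zero, one_mul] at h
    have : (2 : K) * C 0 u 0 = 0 := by linear_combination h
    exact (mul_eq_zero.1 this).resolve_left h2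
  have Cg : ∀ v, C 0 0 v = v * C 0 0 1 := by
    intro v
    by_cases hv : v = 0
    · rw [hv, C000, zero_mul]
    · have h := (hE (Units.mk0 v hv) 0 0 1).2
      rw [Units.val_mk0, mul_zero, mul_zero, mul_one] at h
      exact h
  -- the second layer
  have Bd_add : ∀ u u', B 0 (u + u') 0 = B 0 u 0 + B 0 u' 0 := by
    intro u u'
    have h := hB' 0 u 0 0 u' 0 0 (u + u') 0 (by ring) (by rw [map_zero]; ring)
      (by rw [map_zero]; ring)
    rw [map_zero] at h
    linear_combination h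
  have Bd_neg : ∀ u, B 0 (-u) 0 = -B 0 u 0 := by
    intro u
    have h := Bd_add u (-u)
    rw [add_neg_cancel, B000] at h
    linear_combination -h
  have Bd_sq : ∀ a u, B 0 (a ^ 2 * u) 0 = a ^ 2 * B 0 u 0 := by
    intro a u
    by_cases ha : a = 0
    · rw [ha]
      have : (0 : K) ^ 2 * u = 0 := by ring
      rw [this, B000]
      ring
    · obtain ⟨ν, hν⟩ := solve10 hK a ha
      have h := (hE ν 0 u 0).1
      simp only [hν, mul_zero] at h
      exact h
  have Bd_lin : ∀ x u, B 0 (x * u) 0 = x * B 0 u 0 := by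
    intro x u
    have e : x * u = (x + 1) ^ 2 * u + -((x - 1) ^ 2 * u) := by
      linear_combination (-(x * u)) * h3
    rw [e, Bd_add, Bd_neg, Bd_sq, Bd_sq]
    linear_combination (x * B 0 u 0) * h3
  have Bd : ∀ u, B 0 u 0 = u * B 0 1 0 := by
    intro u
    have h := Bd_lin u 1
    rwa [mul_one] at h
  have Bform : ∀ t u v, B t u v = B t 0 0 + u * B 0 1 0 := by
    intro t u v
    rw [Bsplit t u v, Bz, Bd u, add_zero]
  have Cform : ∀ t u v, C t u v = C t 0 0 + v * C 0 0 1 := by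
    intro t u v
    rw [Csplit t u v, Ce, Cg v, add_zero]
  obtain ⟨s, hs⟩ := exists_ph3_ne hK hm
  have E1 : ∀ t t', B (t + t') 0 0 + (-(ph3 K m t' * t)) * B 0 1 0
      = B t 0 0 + B t' 0 0 - ph3 K m t' * t := by
    intro t t'
    have h := hB t 0 0 t' 0 0
    rw [Bform (t + t')] at h
    linear_combination h
  have hd1 : B 0 1 0 = 1 := by
    have e1 := E1 s 1
    have e2 := E1 1 s
    rw [map_one] at e1
    rw [add_comm 1 s] at e2
    have key : (ph3 K m s - s) * (B 0 1 0 - 1) = 0 := by linear_combination e1 - e2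
    rcases mul_eq_zero.1 key with h | h
    · exact absurd (sub_eq_zero.1 h) hs
    · exact sub_eq_zero.1 h
  have a_add : ∀ t t', B (t + t') 0 0 = B t 0 0 + B t' 0 0 := by
    intro t t'
    have h := E1 t t'
    rw [hd1] at h
    linear_combination h
  have a_even : ∀ t, B (-t) 0 0 = B t 0 0 := by
    intro t
    have h := (hE (-1) t 0 0).1
    simp only [hm1, σm1, e4, e5, mul_zero, one_mul, neg_one_mul] at h
    exact h
  have a_zero : ∀ t, B t 0 0 = 0 := by
    intro t
    have h := a_add t (-t)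
    rw [add_neg_cancel, B000, a_even] at h
    have : (2 : K) * B t 0 0 = 0 := by linear_combination -h
    exact (mul_eq_zero.1 this).resolve_left h2
  have Bfinal : ∀ t u v, B t u v = u := by
    intro t u v
    rw [Bform, a_zero, hd1]
    ring
  -- the third coordinate
  have E2 : ∀ t t', C (t + t') 0 0 + (t' * ph3 K m t' * t - ph3 K m t' * t ^ 2) * C 0 0 1
      = C t 0 0 + C t' 0 0 + t' * ph3 K m t' * t - ph3 K m t' * t ^ 2 := by
    intro t t'
    have h := hC t 0 0 t' 0 0
    rw [Cform (t + t'), a_zero] at h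
    linear_combination h
  have hg1 : C 0 0 1 = 1 := by
    have e1 := E2 (-1) 1
    have e2 := E2 1 (-1)
    rw [map_one, neg_add_cancel] at e1
    rw [σm1, add_neg_cancel] at e2
    linear_combination e2 - e1 - (C 0 0 1 - 1) * h3
  have b_add : ∀ t t', C (t + t') 0 0 = C t 0 0 + C t' 0 0 := by
    intro t t'
    have h := E2 t t'
    rw [hg1] at h
    linear_combination h
  have b_neg : ∀ t, C (-t) 0 0 = -C t 0 0 := by
    intro t
    have h := b_add t (-t)
    rw [add_neg_cancel, C000] at h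
    linear_combination -h
  have b_eq : ∀ (ν : Kˣ) (t : K), C ((ν : K) ^ 2 / ph3 K m ν * t) 0 0 = ν * C t 0 0 := by
    intro ν t
    have h := (hE ν t 0 0).2
    simp only [mul_zero] at h
    exact h
  have hb1 : C 1 0 0 = 0 := by
    by_contra hb1
    have hinj : ∀ w, C w 0 0 = 0 → w = 0 := by
      intro w hw
      by_contra hw0
      obtain ⟨ν, hν⟩ := solve6 hK w hw0
      have h := b_eq ν 1
      rw [mul_one, hν, hw] at h
      exact hb1 ((mul_eq_zero.1 h.symm).resolve_left ν.ne_zero)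
    have hs0 : s ≠ 0 := by
      intro h
      apply hs
      rw [h, map_zero]
    have hs1 : s + 1 ≠ 0 := by
      intro h
      apply hs
      have : s = -1 := by linear_combination h
      rw [this, σm1]
    have hσs : ph3 K m s ≠ 0 := (map_ne_zero _).2 hs0
    have hσs1 : ph3 K m s + 1 ≠ 0 := by
      have := (map_ne_zero (ph3 K m)).2 hs1
      rwa [map_add, map_one] at this
    have k1 := b_eq (Units.mk0 s hs0) 1
    have k2 := b_eq (Units.mk0 (s + 1) hs1) 1
    rw [Units.val_mk0, mul_one] at k1 k2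
    rw [map_add, map_one] at k2
    have hw : C ((s + 1) ^ 2 / (ph3 K m s + 1) + -(s ^ 2 / ph3 K m s) + -1) 0 0 = 0 := by
      rw [b_add, b_add, b_neg, b_neg, k1, k2]
      ring
    have hw0 := hinj _ hw
    have h5 : (s + 1) ^ 2 / (ph3 K m s + 1) = s ^ 2 / ph3 K m s + 1 := by
      linear_combination hw0
    rw [div_eq_iff hσs1] at h5
    have h6 : s ^ 2 / ph3 K m s * ph3 K m s = s ^ 2 := div_mul_cancel₀ _ hσs
    have e : (s + 1) ^ 2 * ph3 K m s = (s ^ 2 + ph3 K m s) * (ph3 K m s + 1) := by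
      linear_combination ph3 K m s * h5 + (ph3 K m s + 1) * h6
    have e' : (s - ph3 K m s) ^ 2 = 0 := by linear_combination -e
    have e'' : s - ph3 K m s = 0 := (pow_eq_zero_iff (two_ne_zero)).1 e'
    exact hs (sub_eq_zero.1 e'').symm
  have b_zero : ∀ w, C w 0 0 = 0 := by
    intro w
    by_cases hw0 : w = 0
    · rw [hw0, C000]
    · obtain ⟨ν, hν⟩ := solve6 hK w hw0
      have h := b_eq ν 1
      rw [mul_one, hν, hb1, mul_zero] at h
      exact h
  intro t u v
  refine ⟨Bfinal t u v, ?_⟩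
  rw [Cform, b_zero, hg1]
  ring


section stage

variable {G : Type*} [Group G] (D : UHData K m G) (θ : G ≃* G)

/-- an automorphism preserving `U¹` and `H¹` acts on the first coordinate as `t ↦ c ψ(t)` -/
theorem UHData.stage1 (hK : Fintype.card K = 3 ^ (2 * m + 1))
    (hX : ∀ t u v : K, ∃ t' u' v' : K, θ (D.X t u v) = D.X t' u' v')
    (hT : ∀ ν : Kˣ, ∃ ν' : Kˣ, θ (D.T ν) = D.T ν') :
    ∃ (c : K) (ψ : K ≃+* K), c ≠ 0 ∧
      ∀ t u v : K, ∃ u' v' : K, θ (D.X t u v) = D.X (c * ψ t) u' v' := by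
  classical
  choose A B C hABC using hX
  choose β hβ using hT
  have hA0 : ∀ u v, A 0 u v = 0 := by
    intro u v
    have h1 : D.X 0 u v ^ 3 = 1 := (D.X_pow3_eq_one_iff 0 u v).2 rfl
    have h2 : θ (D.X 0 u v) ^ 3 = 1 := by rw [← map_pow, h1, map_one]
    rw [hABC] at h2
    exact (D.X_pow3_eq_one_iff _ _ _).1 h2
  have hA1 : ∀ t u v, A t u v = A t 0 0 := by
    intro t u v
    have h1 := congrArg θ (D.X_split t u v)
    rw [map_mul, hABC, hABC, hABC, D.X_mul] at h1
    obtain ⟨h2, -, -⟩ := D.X_inj _ _ _ _ _ _ h1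
    rw [h2, hA0, add_zero]
  have hadd : ∀ t t', A (t + t') 0 0 = A t 0 0 + A t' 0 0 := by
    intro t t'
    have h1 := congrArg θ (D.X_mul t 0 0 t' 0 0)
    rw [map_mul, hABC, hABC, hABC, D.X_mul] at h1
    obtain ⟨h2, -, -⟩ := D.X_inj _ _ _ _ _ _ h1
    rw [h2]
    exact (hA1 _ _ _).symm
  have hzero : A 0 0 0 = 0 := hA0 0 0
  have hker : ∀ t, A t 0 0 = 0 → t = 0 := by
    intro t h
    have h1 : θ (D.X t 0 0) ^ 3 = 1 := by
      rw [hABC]
      exact (D.X_pow3_eq_one_iff _ _ _).2 h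
    rw [← map_pow] at h1
    have h2 : D.X t 0 0 ^ 3 = 1 := by
      apply θ.injective
      rw [h1, map_one]
    exact (D.X_pow3_eq_one_iff _ _ _).1 h2
  have hequi : ∀ (ν : Kˣ) (t : K), A ((ν : K) ^ 2 / ph3 K m ν * t) 0 0
      = ((β ν : Kˣ) : K) ^ 2 / ph3 K m (β ν) * A t 0 0 := by
    intro ν t
    have h1 := congrArg θ (D.T_conj ν t 0 0)
    rw [map_mul, map_mul, map_inv, hβ, hABC, hABC, D.T_conj] at h1
    obtain ⟨h2, -, -⟩ := D.X_inj _ _ _ _ _ _ h1
    exact (h2.trans (hA1 _ _ _)).symm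
  have hc : A 1 0 0 ≠ 0 := fun h => one_ne_zero (hker 1 h)
  have hmul : ∀ s t, A (s * t) 0 0 * A 1 0 0 = A s 0 0 * A t 0 0 := by
    intro s t
    by_cases hs : s = 0
    · rw [hs, zero_mul, hzero, zero_mul, zero_mul]
    · obtain ⟨ν, hν⟩ := solve6 hK s hs
      have e1 := hequi ν t
      have e2 := hequi ν 1
      rw [hν] at e1 e2
      rw [mul_one] at e2
      rw [e1, e2]
      ring
  let γ : K →+* K :=
    { toFun := fun s => A s 0 0 / A 1 0 0
      map_one' := div_self hc
      map_mul' := by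
        intro s t
        show A (s * t) 0 0 / A 1 0 0 = A s 0 0 / A 1 0 0 * (A t 0 0 / A 1 0 0)
        rw [div_mul_div_comm, ← hmul s t, mul_div_mul_right _ _ hc]
      map_zero' := by
        show A 0 0 0 / A 1 0 0 = 0
        rw [hzero, zero_div]
      map_add' := by
        intro s t
        show A (s + t) 0 0 / A 1 0 0 = A s 0 0 / A 1 0 0 + A t 0 0 / A 1 0 0
        rw [hadd, add_div] }
  have hγ : ∀ s, γ s = A s 0 0 / A 1 0 0 := fun s => rfl
  have hbij : Function.Bijective γ :=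
    ⟨γ.injective, Finite.injective_iff_surjective.1 γ.injective⟩
  refine ⟨A 1 0 0, RingEquiv.ofBijective γ hbij, hc, fun t u v => ⟨B t u v, C t u v, ?_⟩⟩
  rw [hABC, hA1]
  apply D.X_congr _ rfl rfl
  rw [RingEquiv.ofBijective_apply, hγ, mul_div_cancel₀ _ hc]

/-- an automorphism preserving `U¹` and `H¹` which acts trivially on the first coordinate fixes
`U¹` elementwise -/
theorem UHData.stage2 (hK : Fintype.card K = 3 ^ (2 * m + 1)) (hm : 1 ≤ m)
    (hX : ∀ t u v : K, ∃ u' v' : K, θ (D.X t u v) = D.X t u' v')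
    (hT : ∀ ν : Kˣ, ∃ ν' : Kˣ, θ (D.T ν) = D.T ν') :
    (∀ t u v : K, θ (D.X t u v) = D.X t u v) ∧ ∀ ν : Kˣ, θ (D.T ν) = D.T ν := by
  classical
  choose B C hBC using hX
  choose β hβ using hT
  have hβ1 : ∀ ν, β ν = ν := by
    intro ν
    have h1 := congrArg θ (D.T_conj ν 1 0 0)
    rw [map_mul, map_mul, map_inv, hβ, hBC, hBC, D.T_conj] at h1
    obtain ⟨h2, -, -⟩ := D.X_inj _ _ _ _ _ _ h1
    rw [mul_one, mul_one] at h2
    by_contra hne
    have h3 : β ν * ν⁻¹ ≠ 1 := fun h => hne (mul_inv_eq_one.1 h)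
    apply chi6_ne_one hK _ h3
    rw [Units.val_mul, Units.val_inv_eq_inv_val, map_mul, map_inv₀]
    have ha : (ν : K) ≠ 0 := ν.ne_zero
    have hb : ((β ν : Kˣ) : K) ≠ 0 := (β ν).ne_zero
    have hσa : ph3 K m (ν : K) ≠ 0 := (map_ne_zero _).2 ha
    have hσb : ph3 K m ((β ν : Kˣ) : K) ≠ 0 := (map_ne_zero _).2 hb
    have e : (((β ν : Kˣ) : K) * (ν : K)⁻¹) ^ 2 / (ph3 K m ((β ν : Kˣ) : K) * (ph3 K m (ν : K))⁻¹)
        = (((β ν : Kˣ) : K) ^ 2 / ph3 K m ((β ν : Kˣ) : K)) / ((ν : K) ^ 2 / ph3 K m (ν : K)) := by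
      field_simp
    rw [e, h2]
    exact div_self (div_ne_zero (pow_ne_zero 2 ha) hσa)
  have hT' : ∀ ν, θ (D.T ν) = D.T ν := fun ν => by rw [hβ, hβ1]
  refine ⟨?_, hT'⟩
  have hcore := algebra_core hK hm B C
    (by
      intro t u v t' u' v'
      have h1 := congrArg θ (D.X_mul t u v t' u' v')
      rw [map_mul, hBC, hBC, hBC, D.X_mul] at h1
      obtain ⟨-, h2, -⟩ := D.X_inj _ _ _ _ _ _ h1
      exact h2.symm)
    (by
      intro t u v t' u' v'
      have h1 := congrArg θ (D.X_mul t u v t' u' v')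
      rw [map_mul, hBC, hBC, hBC, D.X_mul] at h1
      obtain ⟨-, -, h2⟩ := D.X_inj _ _ _ _ _ _ h1
      exact h2.symm)
    (by
      intro ν t u v
      have h1 := congrArg θ (D.T_conj ν t u v)
      rw [map_mul, map_mul, map_inv, hT', hBC, hBC, D.T_conj] at h1
      obtain ⟨-, h2, h3⟩ := D.X_inj _ _ _ _ _ _ h1
      exact ⟨h2.symm, h3.symm⟩)
  intro t u v
  rw [hBC, (hcore t u v).1, (hcore t u v).2]

end stage

end

end Cfsg.Agent.Lib.Helper5.Ree
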