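import Cfsg.Agent.Lib.Helper5.Ree.BN
import Mathlib

/-!
# The core of the Borel subgroup of the small Ree group is trivial (helper5)
-/

set_option autoImplicit false

namespace Cfsg.Agent.Lib.Helper5.Ree

open Cfsg.Lie Cfsg.Agent.Lib.Helper5.Chev Cfsg.Agent.Lib.Helper5.GA Cfsg.Agent.Lib.Helper5.Tw
open Cfsg.Agent.Lib.Helper5.Frob
open scoped Matrix

section

variable {K : Type*} [Field K] [Fintype K] [CharP K 3] {m : ℕ}

omit [Fintype K] [CharP K 3] in
/-- conjugation of a word by a diagonal element, letter by letter -/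
theorem diag_conj_word (h : GL chevG2.Idx K) (χ : ℕ → Kˣ)
    (h2 : ∀ s < chevG2.nroots, ∀ u : K, h * (hadd2 K).xU s u * h⁻¹
      = (hadd2 K).xU s ((χ s : K) * u)) (w : List (ℕ × K))
    (hw : ∀ p ∈ w, p.1 < chevG2.nroots) :
    h * (hadd2 K).wordU w * h⁻¹
      = (hadd2 K).wordU (w.map fun p => (p.1, (χ p.1 : K) * p.2)) := by
  induction w with
  | nil =>
    rw [List.map_nil, Tw.wordU_nil]
    group
  | cons a w ih =>
    rw [List.map_cons, wordU_cons, wordU_cons,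
      ← ih (fun p hp => hw p (List.mem_cons_of_mem _ hp)),
      ← h2 a.1 (hw a List.mem_cons_self) a.2]
    group

omit [Fintype K] in
theorem tauT_mem_diag (μ : Kˣ) : tauT K m μ ∈ chevG2.diagonalSubgroup K := by
  have : tauT K m μ ∈ (chevG2.diagonalSubgroup K : Set (GL chevG2.Idx K)) := by
    rw [range_hU hD2]
    exact ⟨_, (tauT_apply μ).symm⟩
  exact this

/-- an element of `H¹` commuting with the fixed element `x_{2a+b}(1) x_{3a+2b}(1)` of `U` is
trivial -/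
theorem tauT_eq_one_of_comm (μ : Kˣ)
    (hc : tauT K m μ * (hadd2 K).wordU ((posSide (hadd2 K)).w6 0 0 0 1 0 1) * (tauT K m μ)⁻¹
      = (hadd2 K).wordU ((posSide (hadd2 K)).w6 0 0 0 1 0 1)) : μ = 1 := by
  obtain ⟨χ, h1, h2⟩ := diag_conj_char chevG2 hD2 (tauT K m μ) (tauT_mem_diag μ)
  have e : (χ 11 : K) = μ := by
    rw [tauT_apply, hU_apply, diagU_val] at h1
    unfold ChevalleyDatum.charDiag at h1
    have h3 := Matrix.diagonal_injective h1
    have h4 := congrFun h3 (Sum.inr ⟨11, by decide⟩)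
    simp only [Sum.elim_inr] at h4
    rw [← h4, zact_apply, prod_I2]
    have c0 : cartanM chevG2 j0 ⟨11, by decide⟩ = 0 := by decide
    have c1 : cartanM chevG2 j1 ⟨11, by decide⟩ = 1 := by decide
    rw [c0, c1, zpow_zero, one_mul, zpow_one, Pi.mul_apply, Pi.mulSingle_eq_same,
      Pi.mulSingle_eq_of_ne (by decide), one_mul]
  have hw : ∀ p ∈ (posSide (hadd2 K)).w6 (0 : K) 0 0 1 0 1, p.1 < chevG2.nroots := by
    intro p hp
    have h1 : p.1 ∈ ((posSide (hadd2 K)).w6 (0 : K) 0 0 1 0 1).map Prod.fst :=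
      List.mem_map_of_mem hp
    have h2 : ((posSide (hadd2 K)).w6 (0 : K) 0 0 1 0 1).map Prod.fst = [7, 6, 8, 9, 10, 11] := rfl
    rw [h2] at h1
    simp only [List.mem_cons, List.not_mem_nil, or_false] at h1
    have : chevG2.nroots = 12 := rfl
    omega
  rw [diag_conj_word _ χ h2 _ hw] at hc
  have hc' : (hadd2 K).wordU ((posSide (hadd2 K)).w6 ((χ 7 : K) * 0) ((χ 6 : K) * 0)
      ((χ 8 : K) * 0) ((χ 9 : K) * 1) ((χ 10 : K) * 0) ((χ 11 : K) * 1))
      = (hadd2 K).wordU ((posSide (hadd2 K)).w6 0 0 0 1 0 1) := hc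
  obtain ⟨-, -, -, -, -, e11⟩ := w6_injective _ _ _ _ _ _ _ _ _ _ _ _ hc'
  rw [mul_one, e] at e11
  exact Units.ext e11

omit [Fintype K] in
theorem w6_0101_eq : (posSide (hadd2 K)).w6 (0 : K) 0 0 1 0 1 = (posSide (hadd2 K)).rw m 0 0 1 := by
  unfold Side.rw
  rw [map_zero, map_one]
  simp

/-- the core of `B¹` is trivial -/
theorem core_eq_bot (hK : Fintype.card K = 3 ^ (2 * m + 1)) :
    ((chevG2.borelSubgroup K ⊓ twistedG2 K (3 ^ m)).subgroupOf
      (twistedG2 K (3 ^ m))).normalCore = ⊥ := by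
  have hHB : chevG2.diagonalSubgroup K ≤ chevG2.borelSubgroup K := le_sup_right
  -- the core is contained in `H`
  have step1 : ∀ y ∈ ((chevG2.borelSubgroup K ⊓ twistedG2 K (3 ^ m)).subgroupOf
      (twistedG2 K (3 ^ m))).normalCore, (y : GL chevG2.Idx K) ∈ chevG2.diagonalSubgroup K := by
    intro y hy
    have hyB := Subgroup.normalCore_le _ hy
    rw [Subgroup.mem_subgroupOf] at hyB
    obtain ⟨u, hu, h, hh, e, fu, fh⟩ := borel_fixR hK _ hyB.1 (twisted_le_fixR hK hyB.2)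
    have hs := hy (s1 hK)
    rw [Subgroup.mem_subgroupOf] at hs
    have hs' : n1 hK * (y : GL chevG2.Idx K) * (n1 hK)⁻¹ ∈ chevG2.borelSubgroup K := hs.1
    rw [e] at hs'
    have hu1 : u = 1 := by
      apply n1_conj_not_borel hK u hu
      have e2 : n1 hK * u * (n1 hK)⁻¹
          = (n1 hK * (u * h) * (n1 hK)⁻¹) * (n1 hK * h * (n1 hK)⁻¹)⁻¹ := by group
      rw [e2]
      exact Subgroup.mul_mem _ hs' (Subgroup.inv_mem _
        (hHB (mono_conj_diag _ _ (n1_mono hK) hh).1))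
    rw [e, hu1, one_mul]
    exact hh
  rw [eq_bot_iff]
  intro x hx
  rw [Subgroup.mem_bot]
  have hxH := step1 x hx
  -- `x` commutes with the elements of `U¹`
  have step2 : ∀ u ∈ chevG2.posUnipotent K ⊓ twistedG2 K (3 ^ m),
      (x : GL chevG2.Idx K) * u * (x : GL chevG2.Idx K)⁻¹ = u := by
    intro u hu
    have hnorm : (((chevG2.borelSubgroup K ⊓ twistedG2 K (3 ^ m)).subgroupOf
      (twistedG2 K (3 ^ m))).normalCore).Normal := Subgroup.normalCore_normal _
    have hconj := hnorm.conj_mem x hx (⟨u, hu.2⟩⁻¹)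
    have h1 := step1 _ hconj
    have h1' : u⁻¹ * (x : GL chevG2.Idx K) * u⁻¹⁻¹ ∈ chevG2.diagonalSubgroup K := h1
    rw [inv_inv] at h1'
    -- u⁻¹ x u x⁻¹ ∈ H ∩ U
    have h2 : u⁻¹ * ((x : GL chevG2.Idx K) * u * (x : GL chevG2.Idx K)⁻¹)
        ∈ chevG2.posUnipotent K ⊓ chevG2.diagonalSubgroup K := by
      constructor
      · apply Subgroup.mul_mem _ (Subgroup.inv_mem _ hu.1)
        exact (Subgroup.mem_normalizer_iff.1
          ((borel_semidirect_all chevG2 hD2).1 hxH) u).1 hu.1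
      · have e : u⁻¹ * ((x : GL chevG2.Idx K) * u * (x : GL chevG2.Idx K)⁻¹)
            = (u⁻¹ * (x : GL chevG2.Idx K) * u) * (x : GL chevG2.Idx K)⁻¹ := by group
        rw [e]
        exact Subgroup.mul_mem _ h1' (Subgroup.inv_mem _ hxH)
    rw [(borel_semidirect_all chevG2 hD2).2, Subgroup.mem_bot] at h2
    exact (inv_mul_eq_one.1 h2).symm
  have hxf : (x : GL chevG2.Idx K) ∈ chevG2.diagonalSubgroup K ⊓ fixR hK :=
    ⟨hxH, twisted_le_fixR hK x.2⟩
  obtain ⟨μ, hμ⟩ := (diag_fixed_iff hK _).1 hxf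
  have hmem : (hadd2 K).wordU ((posSide (hadd2 K)).w6 (0 : K) 0 0 1 0 1)
      ∈ chevG2.posUnipotent K ⊓ twistedG2 K (3 ^ m) := by
    rw [w6_0101_eq (m := m), posSide_rw]
    exact (pos_twisted_iff hK _).2 ⟨0, 0, 1, rfl⟩
  have hc := step2 _ hmem
  rw [← hμ] at hc
  have hμ1 := tauT_eq_one_of_comm μ hc
  apply Subtype.ext
  rw [← hμ, hμ1, map_one]
  rfl

end

end Cfsg.Agent.Lib.Helper5.Ree
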