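import Cfsg.Agent.Lib.Helper5.Ree.N2
import Mathlib

/-!
# The Weyl group of the small Ree group has two elements (helper5)
-/

set_option autoImplicit false

namespace Cfsg.Agent.Lib.Helper5.Ree

open Cfsg.Lie Cfsg.Agent.Lib.Helper5.Chev Cfsg.Agent.Lib.Helper5.GA Cfsg.Agent.Lib.Helper5.Tw
open Cfsg.Agent.Lib.Helper5.Frob
open scoped Matrix

section

variable {K : Type*} [Field K] [Fintype K] [CharP K 3] {m : ℕ}

omit [Fintype K] [CharP K 3] in
/-- `N` normalises `H` -/
theorem mono_conj_diag (n h : GL chevG2.Idx K) (hn : n ∈ chevG2.monomialSubgroup K)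
    (hh : h ∈ chevG2.diagonalSubgroup K) :
    n * h * n⁻¹ ∈ chevG2.diagonalSubgroup K ∧ n⁻¹ * h * n ∈ chevG2.diagonalSubgroup K := by
  have hNH : chevG2.monomialSubgroup K
      ≤ Subgroup.normalizer (chevG2.diagonalSubgroup K : Set (GL chevG2.Idx K)) :=
    (Subgroup.normal_subgroupOf_iff_le_normalizer le_sup_left).1 (diagonal_normal_all chevG2 hD2)
  exact conj_mem_of_normalizer _ _ _ (hNH hn) hh

/-- the product of two fixed monomial elements outside `H` lies in `H` -/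
theorem mono_fix_mul (hK : Fintype.card K = 3 ^ (2 * m + 1)) (a b : GL chevG2.Idx K)
    (ha : a ∈ chevG2.monomialSubgroup K) (hfa : a ∈ fixR hK)
    (hb : b ∈ chevG2.monomialSubgroup K) (hfb : b ∈ fixR hK)
    (ha' : a ∉ chevG2.diagonalSubgroup K) (hb' : b ∉ chevG2.diagonalSubgroup K) :
    a * b ∈ chevG2.diagonalSubgroup K := by
  have h1 : (n1 hK)⁻¹ * a ∈ chevG2.diagonalSubgroup K := by
    rcases mono_fix_cases' hK a ha hfa with h | h
    · exact absurd h ha'
    · exact h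
  have h2 : (n1 hK)⁻¹ * b ∈ chevG2.diagonalSubgroup K := by
    rcases mono_fix_cases' hK b hb hfb with h | h
    · exact absurd h hb'
    · exact h
  rcases mono_fix_cases' hK (a * b) (Subgroup.mul_mem _ ha hb) (Subgroup.mul_mem _ hfa hfb)
    with h | h
  · exact h
  · exfalso
    apply hb'
    -- b = (n1⁻¹ a)⁻¹ (n1⁻¹ a b)
    have e : b = ((n1 hK)⁻¹ * a)⁻¹ * ((n1 hK)⁻¹ * (a * b)) := by group
    rw [e]
    exact Subgroup.mul_mem _ (Subgroup.inv_mem _ h1) h

theorem n1_sq (hK : Fintype.card K = 3 ^ (2 * m + 1)) :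
    n1 hK * n1 hK ∈ chevG2.diagonalSubgroup K :=
  mono_fix_mul hK _ _ (n1_mono hK) (n1_fix hK) (n1_mono hK) (n1_fix hK) (n1_not_diag hK)
    (n1_not_diag hK)

/-- `H¹` has index two in `N¹` -/
theorem index_two (hK : Fintype.card K = 3 ^ (2 * m + 1)) :
    ((chevG2.diagonalSubgroup K ⊓ twistedG2 K (3 ^ m)).subgroupOf
      (chevG2.monomialSubgroup K ⊓ twistedG2 K (3 ^ m))).index = 2 := by
  rw [Subgroup.index_eq_two_iff]
  refine ⟨⟨n1 hK, n1_mono hK, n1_twisted hK⟩, ?_⟩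
  rintro ⟨b, hbN, hbG⟩
  have hfb := twisted_le_fixR hK hbG
  by_cases hbH : b ∈ chevG2.diagonalSubgroup K
  · right
    constructor
    · rw [Subgroup.mem_subgroupOf]
      exact ⟨hbH, hbG⟩
    · rw [Subgroup.mem_subgroupOf]
      rintro ⟨h1, -⟩
      apply n1_not_diag hK
      have e : n1 hK = b⁻¹ * (b * n1 hK) := by group
      rw [e]
      exact Subgroup.mul_mem _ (Subgroup.inv_mem _ hbH) h1
  · left
    constructor
    · rw [Subgroup.mem_subgroupOf]
      exact ⟨mono_fix_mul hK _ _ hbN hfb (n1_mono hK) (n1_fix hK) hbH (n1_not_diag hK),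
        Subgroup.mul_mem _ hbG (n1_twisted hK)⟩
    · rw [Subgroup.mem_subgroupOf]
      rintro ⟨h1, -⟩
      exact hbH h1

end

end Cfsg.Agent.Lib.Helper5.Ree
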