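import Cfsg.Agent.Lib.Helper5.Ree.Norm1
import Mathlib

/-!
# The normaliser of the explicit Sylow 2-subgroup of the small Ree group (helper5)

`|N(E)| = 7 · 3 · 8 = 168` by three orbit-stabiliser steps; the transitivity of `N(E)` on the
involutions of `E` comes from Burnside's fusion theorem and the transfer.
-/

set_option autoImplicit false
set_option maxRecDepth 100000

namespace Cfsg.Agent.Lib.Helper5.Ree

open Cfsg.Lie Cfsg.Agent.Lib.Helper5.Chev Cfsg.Agent.Lib.Helper5.GA Cfsg.Agent.Lib.Helper5.Tw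
open Cfsg.Agent.Lib.Helper5.Frob Cfsg.Agent.Lib.Helper5.SL2P

/-- an element conjugating a finite subgroup into itself normalises it -/
theorem mem_normalizer_of_conj_mem {G : Type*} [Group G] [Finite G] (E : Subgroup G) (g : G)
    (h : ∀ x ∈ E, g * x * g⁻¹ ∈ E) : g ∈ Subgroup.normalizer (E : Set G) := by
  rw [Subgroup.mem_normalizer_iff]
  intro x
  constructor
  · exact h x
  · intro hx
    let f : ↥E → ↥E := fun y => ⟨g * y * g⁻¹, h y y.2⟩
    have hf : Function.Injective f := by
      intro y y' e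
      have e' : g * (y : G) * g⁻¹ = g * (y' : G) * g⁻¹ := congrArg Subtype.val e
      exact Subtype.ext (mul_left_cancel (mul_right_cancel e'))
    obtain ⟨y, hy⟩ := (Finite.injective_iff_surjective.1 hf) ⟨g * x * g⁻¹, hx⟩
    have e' : g * (y : G) * g⁻¹ = g * x * g⁻¹ := congrArg Subtype.val hy
    have : (y : G) = x := mul_left_cancel (mul_right_cancel e')
    rw [← this]
    exact y.2

section

variable {K : Type*} [Field K] [Fintype K] [CharP K 3] {m : ℕ}

theorem finite_twisted (hK : Fintype.card K = 3 ^ (2 * m + 1)) :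
    Finite ↥(twistedG2 K (3 ^ m)) := by
  obtain ⟨k, hk, hcard⟩ := card_twisted_eight (K := K) (m := m) hK
  apply Nat.finite_of_card_ne_zero
  rw [hcard]
  have : k ≠ 0 := by
    obtain ⟨r, hr⟩ := hk
    omega
  positivity

/-- the element of order 3 permutes the involutions of `V` cyclically -/
theorem oG_conj_bG (hK : Fintype.card K = 3 ^ (2 * m + 1)) :
    oG K m * bG K m * (oG K m)⁻¹ = cG K m := by
  have h : oG K m * bG K m = cG K m * oG K m := by
    unfold oG bG cG
    rw [← map_mul, ← map_mul, sx_mul_wq, phiG_neg hK]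
  rw [h]
  group

theorem oG_conj_cG (hK : Fintype.card K = 3 ^ (2 * m + 1)) :
    oG K m * cG K m * (oG K m)⁻¹ = bG K m * cG K m := by
  have h : oG K m * cG K m = bG K m * cG K m * oG K m := by
    unfold oG bG cG
    rw [← map_mul, ← map_mul, ← map_mul, sx_mul_d3, phiG_neg hK]
  rw [h]
  group

theorem oG_conj_aG (hK : Fintype.card K = 3 ^ (2 * m + 1)) :
    oG K m * aG K m * (oG K m)⁻¹ = aG K m := by
  have h : oG K m * aG K m = aG K m * oG K m := (aG_comm hK (sx K 1)).eq.symm
  rw [h]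
  group

theorem bc_mul (hK : Fintype.card K = 3 ^ (2 * m + 1)) :
    cG K m * (bG K m * cG K m) = bG K m := by
  rw [← mul_assoc, ← (bG_comm_cG hK).eq, mul_assoc, cG_sq hK, mul_one]

theorem oG_conj_bcG (hK : Fintype.card K = 3 ^ (2 * m + 1)) :
    oG K m * (bG K m * cG K m) * (oG K m)⁻¹ = bG K m := by
  have e : oG K m * (bG K m * cG K m) * (oG K m)⁻¹
      = (oG K m * bG K m * (oG K m)⁻¹) * (oG K m * cG K m * (oG K m)⁻¹) := by group
  rw [e, oG_conj_bG hK, oG_conj_cG hK, bc_mul hK]

theorem conj_mul' {G : Type*} [Group G] (g x y : G) :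
    g * (x * y) * g⁻¹ = (g * x * g⁻¹) * (g * y * g⁻¹) := by group

theorem oG_mem_normalizer (hK : Fintype.card K = 3 ^ (2 * m + 1)) :
    oG K m ∈ Subgroup.normalizer (E8 K m : Set ↥(twistedG2 K (3 ^ m))) := by
  have := finite_twisted (K := K) (m := m) hK
  apply mem_normalizer_of_conj_mem
  have hle : E8 K m ≤ (E8 K m).comap (MulAut.conj (oG K m)).toMonoidHom := by
    unfold E8
    rw [Subgroup.closure_le]
    rintro x (rfl | rfl | rfl)
    · show oG K m * aG K m * (oG K m)⁻¹ ∈ Subgroup.closure {aG K m, bG K m, cG K m}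
      rw [oG_conj_aG hK]
      exact aG_mem
    · show oG K m * bG K m * (oG K m)⁻¹ ∈ Subgroup.closure {aG K m, bG K m, cG K m}
      rw [oG_conj_bG hK]
      exact cG_mem
    · show oG K m * cG K m * (oG K m)⁻¹ ∈ Subgroup.closure {aG K m, bG K m, cG K m}
      rw [oG_conj_cG hK]
      exact Subgroup.mul_mem _ bG_mem cG_mem
  intro x hx
  exact hle hx

/-- the normaliser of `E` -/
noncomputable def N8 (K : Type*) [Field K] [Fintype K] [CharP K 3] (m : ℕ) :
    Subgroup ↥(twistedG2 K (3 ^ m)) :=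
  Subgroup.normalizer (E8 K m : Set ↥(twistedG2 K (3 ^ m)))

theorem E8_le_N8 : E8 K m ≤ N8 K m := Subgroup.le_normalizer

theorem N8_conj_mem {n x : ↥(twistedG2 K (3 ^ m))} (hn : n ∈ N8 K m) (hx : x ∈ E8 K m) :
    n * x * n⁻¹ ∈ E8 K m := (Subgroup.mem_normalizer_iff.1 hn x).1 hx

/-- elements of `N(E) ∩ C(a)` map `V ∖ 1` to itself -/
theorem N8a_conj (hK : Fintype.card K = 3 ^ (2 * m + 1)) (n : ↥(twistedG2 K (3 ^ m)))
    (hn : n ∈ N8 K m ⊓ Subgroup.centralizer {aG K m})
    (q : Matrix.SpecialLinearGroup (Fin 2) K) (hq : phiG K m q ∈ E8 K m)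
    (hq1 : phiG K m q ≠ 1) :
    n * phiG K m q * n⁻¹ = bG K m ∨ n * phiG K m q * n⁻¹ = cG K m
      ∨ n * phiG K m q * n⁻¹ = bG K m * cG K m := by
  have hna : aG K m * n = n * aG K m := (Subgroup.mem_centralizer_iff.1 hn.2) _ rfl
  have hmem := N8_conj_mem hn.1 hq
  have hne : n * phiG K m q * n⁻¹ ≠ 1 := by
    intro h
    apply hq1
    have : phiG K m q = n⁻¹ * (n * phiG K m q * n⁻¹) * n := by group
    rw [this, h]
    group
  obtain ⟨s, hs | hs⟩ := cent_aG hK n hna
  · have e : n * phiG K m q * n⁻¹ = phiG K m (s * q * s⁻¹) := by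
      rw [hs, map_mul, map_mul, map_inv]
    rw [e] at hmem hne ⊢
    rcases phiG_mem_E8 hK _ hmem with h | h | h | h
    · exact absurd h hne
    · exact Or.inl h
    · exact Or.inr (Or.inl h)
    · exact Or.inr (Or.inr h)
  · have e : n * phiG K m q * n⁻¹ = phiG K m (s * q * s⁻¹) := by
      rw [hs, map_mul, map_mul, map_inv]
      have hc := (aG_comm hK q).eq
      have hc' := (aG_comm hK s).eq
      calc aG K m * phiG K m s * phiG K m q * (aG K m * phiG K m s)⁻¹
          = aG K m * (phiG K m s * phiG K m q * (phiG K m s)⁻¹) * (aG K m)⁻¹ := by group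
        _ = aG K m * phiG K m (s * q * s⁻¹) * (aG K m)⁻¹ := by
            rw [map_mul, map_mul, map_inv]
        _ = phiG K m (s * q * s⁻¹) * aG K m * (aG K m)⁻¹ := by
            rw [(aG_comm hK (s * q * s⁻¹)).eq]
        _ = phiG K m s * phiG K m q * (phiG K m s)⁻¹ := by
            rw [mul_inv_cancel_right, map_mul, map_mul, map_inv]
    rw [e] at hmem hne ⊢
    rcases phiG_mem_E8 hK _ hmem with h | h | h | h
    · exact absurd h hne
    · exact Or.inl h
    · exact Or.inr (Or.inl h)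
    · exact Or.inr (Or.inr h)

end

end Cfsg.Agent.Lib.Helper5.Ree
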