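import Cfsg.Agent.Lib.Helper5.Ree.BN
import Mathlib

/-!
# The order of the small Ree group (helper5)
-/

set_option autoImplicit false

namespace Cfsg.Agent.Lib.Helper5.Ree

open Cfsg.Lie Cfsg.Agent.Lib.Helper5.Chev Cfsg.Agent.Lib.Helper5.GA Cfsg.Agent.Lib.Helper5.Tw
open Cfsg.Agent.Lib.Helper5.Frob
open scoped Matrix

section

variable {K : Type*} [Field K] [Fintype K] [CharP K 3] {m : ℕ}

/-- for `h ∈ H¹` the group `U_{n₁ h}⁻` is all of `U` -/
theorem pos_le_uneg (hK : Fintype.card K = 3 ^ (2 * m + 1)) (h : GL chevG2.Idx K)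
    (hh : h ∈ chevG2.diagonalSubgroup K) (hf : h ∈ fixR hK) :
    chevG2.posUnipotent K ≤ Subgroup.closure (unegSet K chevG2 (n1 hK * h)) := by
  have hHN : chevG2.diagonalSubgroup K ≤ chevG2.monomialSubgroup K := le_sup_left
  have hcases := mono_fix_cases hK (n1 hK * h) (Subgroup.mul_mem _ (n1_mono hK) (hHN hh))
    (Subgroup.mul_mem _ (n1_fix hK) hf)
  have hall : ∀ r < chevG2.nroots, 6 ≤ r →
      (chevG2.rootSubgroup K r).map (MulAut.conj (n1 hK * h)).toMonoidHom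
        ≤ chevG2.negUnipotent K := by
    rcases hcases with h1 | h1
    · exfalso
      apply n1_not_diag hK
      have e : n1 hK = n1 hK * h * h⁻¹ := by group
      rw [e]
      exact Subgroup.mul_mem _ h1 (Subgroup.inv_mem _ hh)
    · exact h1.2
  unfold ChevalleyDatum.posUnipotent
  apply Subgroup.closure_mono
  rintro x ⟨r, t, hr, hx⟩
  exact ⟨r, t, hr, hall r hr.1 ((pos_iff6 r hr.1).1 hr), hx⟩

/-- the parametrisation of the twisted group by the two double cosets -/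
noncomputable def cellMap (hK : Fintype.card K = 3 ^ (2 * m + 1)) :
    (↥(chevG2.posUnipotent K ⊓ twistedG2 K (3 ^ m)) ×
        ↥(chevG2.diagonalSubgroup K ⊓ twistedG2 K (3 ^ m))) ⊕
      (↥(chevG2.posUnipotent K ⊓ twistedG2 K (3 ^ m)) ×
        ↥(chevG2.diagonalSubgroup K ⊓ twistedG2 K (3 ^ m)) ×
        ↥(chevG2.posUnipotent K ⊓ twistedG2 K (3 ^ m))) → ↥(twistedG2 K (3 ^ m))
  | Sum.inl p => ⟨(p.1 : GL chevG2.Idx K) * (p.2 : GL chevG2.Idx K),
      Subgroup.mul_mem _ p.1.2.2 p.2.2.2⟩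
  | Sum.inr p => ⟨(p.1 : GL chevG2.Idx K) * n1 hK * (p.2.1 : GL chevG2.Idx K)
      * (p.2.2 : GL chevG2.Idx K),
      Subgroup.mul_mem _ (Subgroup.mul_mem _ (Subgroup.mul_mem _ p.1.2.2 (n1_twisted hK))
        p.2.1.2.2) p.2.2.2.2⟩

theorem cellMap_bijective (hK : Fintype.card K = 3 ^ (2 * m + 1)) :
    Function.Bijective (cellMap hK) := by
  have hUB : chevG2.posUnipotent K ≤ chevG2.borelSubgroup K := le_sup_left
  have hHB : chevG2.diagonalSubgroup K ≤ chevG2.borelSubgroup K := le_sup_right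
  have hHN : chevG2.diagonalSubgroup K ≤ chevG2.monomialSubgroup K := le_sup_left
  have hmix : ∀ (u h v k v' : GL chevG2.Idx K), u ∈ chevG2.posUnipotent K →
      h ∈ chevG2.diagonalSubgroup K → v ∈ chevG2.posUnipotent K →
      k ∈ chevG2.diagonalSubgroup K → v' ∈ chevG2.posUnipotent K →
      u * h = v * n1 hK * k * v' → False := by
    intro u h v k v' hu hh hv hk hv' e
    apply n1_not_diag hK
    rw [← borel_inf_mono]
    refine ⟨?_, n1_mono hK⟩
    have e' : n1 hK = v⁻¹ * (u * h) * v'⁻¹ * k⁻¹ := by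
      rw [e]
      group
    rw [e']
    exact Subgroup.mul_mem _ (Subgroup.mul_mem _ (Subgroup.mul_mem _
      (Subgroup.inv_mem _ (hUB hv)) (Subgroup.mul_mem _ (hUB hu) (hHB hh)))
      (Subgroup.inv_mem _ (hUB hv'))) (Subgroup.inv_mem _ (hHB hk))
  constructor
  · rintro (⟨u, h⟩ | ⟨u, h, u'⟩) (⟨v, k⟩ | ⟨v, k, v'⟩) e
    · have e' : (u : GL chevG2.Idx K) * (h : GL chevG2.Idx K)
          = (v : GL chevG2.Idx K) * (k : GL chevG2.Idx K) := congrArg Subtype.val e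
      obtain ⟨e1, e2⟩ := borel_mul_unique hD2 _ _ _ _ u.2.1 v.2.1 h.2.1 k.2.1 e'
      rw [Subtype.ext e1, Subtype.ext e2]
    · exfalso
      have e' : (u : GL chevG2.Idx K) * (h : GL chevG2.Idx K)
          = (v : GL chevG2.Idx K) * n1 hK * (k : GL chevG2.Idx K) * (v' : GL chevG2.Idx K) :=
        congrArg Subtype.val e
      exact hmix _ _ _ _ _ u.2.1 h.2.1 v.2.1 k.2.1 v'.2.1 e'
    · exfalso
      have e' : (u : GL chevG2.Idx K) * n1 hK * (h : GL chevG2.Idx K) * (u' : GL chevG2.Idx K)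
          = (v : GL chevG2.Idx K) * (k : GL chevG2.Idx K) := congrArg Subtype.val e
      exact hmix _ _ _ _ _ v.2.1 k.2.1 u.2.1 h.2.1 u'.2.1 e'.symm
    · have e' : (u : GL chevG2.Idx K) * n1 hK * (h : GL chevG2.Idx K) * (u' : GL chevG2.Idx K)
          = (v : GL chevG2.Idx K) * n1 hK * (k : GL chevG2.Idx K) * (v' : GL chevG2.Idx K) :=
        congrArg Subtype.val e
      have e2 : (u : GL chevG2.Idx K) * (n1 hK * (h : GL chevG2.Idx K)) * (u' : GL chevG2.Idx K)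
          = (v : GL chevG2.Idx K) * (n1 hK * (k : GL chevG2.Idx K)) * (v' : GL chevG2.Idx K) := by
        rw [← mul_assoc, ← mul_assoc]
        exact e'
      have hn : n1 hK * (h : GL chevG2.Idx K) ∈ chevG2.monomialSubgroup K :=
        Subgroup.mul_mem _ (n1_mono hK) (hHN h.2.1)
      have hn' : n1 hK * (k : GL chevG2.Idx K) ∈ chevG2.monomialSubgroup K :=
        Subgroup.mul_mem _ (n1_mono hK) (hHN k.2.1)
      have hu' := pos_le_uneg hK h h.2.1 (twisted_le_fixR hK h.2.2) u'.2.1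
      have hv' := pos_le_uneg hK k k.2.1 (twisted_le_fixR hK k.2.2) v'.2.1
      have hnn := bruhat_sharp_unique chevG2 hD2 _ _ _ _ _ _ u.2.1 v.2.1 hn hn' hu' hv' e2
      have huu := (bruhat_unique_all chevG2 hD2 _ _ _ _ _ _ (hUB u.2.1) (hUB v.2.1) hn hn' hu' hv'
        e2).2 hnn
      have hhk : (h : GL chevG2.Idx K) = k := mul_left_cancel hnn
      rw [Subtype.ext huu.1, Subtype.ext hhk, Subtype.ext huu.2]
  · intro x
    rcases twisted_cases hK x x.2 with ⟨u, hu, h, hh, e⟩ | ⟨u, hu, h, hh, u', hu', e⟩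
    · exact ⟨Sum.inl (⟨u, hu⟩, ⟨h, hh⟩), Subtype.ext e.symm⟩
    · exact ⟨Sum.inr (⟨u, hu⟩, ⟨h, hh⟩, ⟨u', hu'⟩), Subtype.ext e.symm⟩

/-- the order of the small Ree group -/
theorem card_twisted (hK : Fintype.card K = 3 ^ (2 * m + 1)) :
    Nat.card ↥(twistedG2 K (3 ^ m))
      = (3 ^ (2 * m + 1)) ^ 3 * (3 ^ (2 * m + 1) - 1) * ((3 ^ (2 * m + 1)) ^ 3 + 1) := by
  have hU := card_pos_twisted hK
  have hH := card_diag_twisted hK
  have h3 : 3 ^ 1 ≤ 3 ^ (2 * m + 1) := Nat.pow_le_pow_right (by norm_num) (by omega)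
  have : Finite ↥(chevG2.posUnipotent K ⊓ twistedG2 K (3 ^ m)) :=
    Nat.finite_of_card_ne_zero (by rw [hU]; positivity)
  have : Finite ↥(chevG2.diagonalSubgroup K ⊓ twistedG2 K (3 ^ m)) :=
    Nat.finite_of_card_ne_zero (by rw [hH]; omega)
  rw [← Nat.card_congr (Equiv.ofBijective (cellMap hK) (cellMap_bijective hK)), Nat.card_sum,
    Nat.card_prod, Nat.card_prod, Nat.card_prod, hU, hH]
  ring

end

end Cfsg.Agent.Lib.Helper5.Ree
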