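import Cfsg.Agent.Lib.Helper5.Ree.Perfect
import Cfsg.Agent.Lib.Helper5.Ree.Order
import Mathlib

/-!
# The stabilisers of three points in the small Ree group (helper5)
-/

set_option autoImplicit false

namespace Cfsg.Agent.Lib.Helper5.Ree

open Cfsg.Lie Cfsg.Agent.Lib.Helper5.Chev Cfsg.Agent.Lib.Helper5.GA Cfsg.Agent.Lib.Helper5.Tw
open Cfsg.Agent.Lib.Helper5.Frob
open scoped Matrix

section abstract

variable {G α : Type*} [Group G] [MulAction G α]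

/-- translating three points does not change the order of their stabiliser -/
theorem card_stab3_smul (g : G) (x y z : α) :
    Nat.card ↥(MulAction.stabilizer G (g • x) ⊓ MulAction.stabilizer G (g • y) ⊓
      MulAction.stabilizer G (g • z))
      = Nat.card ↥(MulAction.stabilizer G x ⊓ MulAction.stabilizer G y ⊓
        MulAction.stabilizer G z) := by
  rw [MulAction.stabilizer_smul_eq_stabilizer_map_conj,
    MulAction.stabilizer_smul_eq_stabilizer_map_conj,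
    MulAction.stabilizer_smul_eq_stabilizer_map_conj]
  have hf : Function.Injective (MulAut.conj g).toMonoidHom := (MulAut.conj g).injective
  rw [← Subgroup.map_inf _ _ _ hf, ← Subgroup.map_inf _ _ _ hf]
  exact (Nat.card_congr (Subgroup.equivMapOfInjective _ _ hf).toEquiv).symm

end abstract

section

variable {K : Type*} [Field K] [Fintype K] [CharP K 3] {m : ℕ}

/-- `B¹` as a subgroup of the twisted group -/
abbrev B1 (K : Type*) [Field K] (m : ℕ) : Subgroup ↥(twistedG2 K (3 ^ m)) :=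
  (chevG2.borelSubgroup K ⊓ twistedG2 K (3 ^ m)).subgroupOf (twistedG2 K (3 ^ m))

omit [Fintype K] [CharP K 3] in
theorem mem_B1 (x : ↥(twistedG2 K (3 ^ m))) :
    x ∈ B1 K m ↔ (x : GL chevG2.Idx K) ∈ chevG2.borelSubgroup K := by
  rw [Subgroup.mem_subgroupOf]
  exact ⟨fun h => h.1, fun h => ⟨h, x.2⟩⟩

/-- the point `g B¹` -/
def pt (g : ↥(twistedG2 K (3 ^ m))) : ↥(twistedG2 K (3 ^ m)) ⧸ B1 K m := QuotientGroup.mk g

omit [Fintype K] [CharP K 3] in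
theorem pt_eq_iff (a b : ↥(twistedG2 K (3 ^ m))) :
    pt a = pt b ↔ (a : GL chevG2.Idx K)⁻¹ * (b : GL chevG2.Idx K) ∈ chevG2.borelSubgroup K := by
  unfold pt
  rw [QuotientGroup.eq, mem_B1]
  rfl

omit [Fintype K] [CharP K 3] in
theorem smul_pt (g a : ↥(twistedG2 K (3 ^ m))) : g • pt a = pt (g * a) := rfl

omit [Fintype K] [CharP K 3] in
theorem pt_surj (x : ↥(twistedG2 K (3 ^ m)) ⧸ B1 K m) : ∃ a, x = pt a := by
  obtain ⟨a, rfl⟩ := QuotientGroup.mk_surjective x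
  exact ⟨a, rfl⟩

omit [Fintype K] [CharP K 3] in
theorem mem_stab_pt (t a : ↥(twistedG2 K (3 ^ m))) :
    t ∈ MulAction.stabilizer ↥(twistedG2 K (3 ^ m)) (pt a) ↔
      (a : GL chevG2.Idx K)⁻¹ * (t : GL chevG2.Idx K) * (a : GL chevG2.Idx K)
        ∈ chevG2.borelSubgroup K := by
  rw [MulAction.mem_stabilizer_iff, smul_pt, pt_eq_iff, ← Subgroup.inv_mem_iff]
  have e : (((t * a : ↥(twistedG2 K (3 ^ m))) : GL chevG2.Idx K)⁻¹ * (a : GL chevG2.Idx K))⁻¹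
      = (a : GL chevG2.Idx K)⁻¹ * (t : GL chevG2.Idx K) * (a : GL chevG2.Idx K) := by
    rw [Subgroup.coe_mul]
    group
  rw [e]

/-- an element of `U¹`, in the twisted group -/
def uT (u : GL chevG2.Idx K) (hu : u ∈ chevG2.posUnipotent K ⊓ twistedG2 K (3 ^ m)) :
    ↥(twistedG2 K (3 ^ m)) := ⟨u, hu.2⟩

/-- the points other than `B¹` -/
theorem pt_cases (hK : Fintype.card K = 3 ^ (2 * m + 1)) (g : ↥(twistedG2 K (3 ^ m)))
    (hg : pt g ≠ pt 1) :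
    ∃ (u : GL chevG2.Idx K) (hu : u ∈ chevG2.posUnipotent K ⊓ twistedG2 K (3 ^ m)),
      pt g = pt (uT u hu * (s1 hK)⁻¹) := by
  have hHB : chevG2.diagonalSubgroup K ≤ chevG2.borelSubgroup K := le_sup_right
  have hUB : chevG2.posUnipotent K ≤ chevG2.borelSubgroup K := le_sup_left
  rcases twisted_cases hK g g.2 with ⟨u, hu, h, hh, e⟩ | ⟨u, hu, h, hh, u', hu', e⟩
  · exfalso
    apply hg
    rw [pt_eq_iff, ← Subgroup.inv_mem_iff]
    have e1 : ((g : GL chevG2.Idx K)⁻¹ * ((1 : ↥(twistedG2 K (3 ^ m))) : GL chevG2.Idx K))⁻¹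
        = g := by
      rw [Subgroup.coe_one]
      group
    rw [e1, e]
    exact Subgroup.mul_mem _ (hUB hu.1) (hHB hh.1)
  · refine ⟨u, hu, ?_⟩
    rw [pt_eq_iff, ← Subgroup.inv_mem_iff]
    have e1 : ((g : GL chevG2.Idx K)⁻¹ * ((uT u hu * (s1 hK)⁻¹ : ↥(twistedG2 K (3 ^ m)))
        : GL chevG2.Idx K))⁻¹ = n1 hK * (u⁻¹ * (g : GL chevG2.Idx K)) := by
      show ((g : GL chevG2.Idx K)⁻¹ * (u * (n1 hK)⁻¹))⁻¹ = _
      group
    have e3 : n1 hK * (u⁻¹ * (u * n1 hK * h * u')) = (n1 hK * n1 hK) * h * u' := by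
      simp only [mul_assoc, inv_mul_cancel_left]
    rw [e1, e, e3]
    exact Subgroup.mul_mem _ (Subgroup.mul_mem _ (hHB (n1_sq hK)) (hHB hh.1)) (hUB hu'.1)

/-- three distinct points can be moved to `B¹`, `n₁⁻¹ B¹`, `u n₁⁻¹ B¹` with `u ≠ 1` -/
theorem normalize3 (hK : Fintype.card K = 3 ^ (2 * m + 1))
    (x y z : ↥(twistedG2 K (3 ^ m)) ⧸ B1 K m) (hxy : x ≠ y) (hxz : x ≠ z) (hyz : y ≠ z) :
    ∃ (g : ↥(twistedG2 K (3 ^ m))) (u : GL chevG2.Idx K)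
      (hu : u ∈ chevG2.posUnipotent K ⊓ twistedG2 K (3 ^ m)), u ≠ 1 ∧
      g • x = pt 1 ∧ g • y = pt (s1 hK)⁻¹ ∧ g • z = pt (uT u hu * (s1 hK)⁻¹) := by
  have hUB : chevG2.posUnipotent K ≤ chevG2.borelSubgroup K := le_sup_left
  obtain ⟨a, rfl⟩ := pt_surj x
  obtain ⟨b, rfl⟩ := pt_surj y
  obtain ⟨c, rfl⟩ := pt_surj z
  have h1 : pt (a⁻¹ * b) ≠ pt 1 := by
    intro h
    apply hxy
    have : a⁻¹ • pt b = a⁻¹ • pt a := by
      rw [smul_pt, smul_pt, h, inv_mul_cancel]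
    exact (smul_left_cancel _ this).symm
  obtain ⟨u1, hu1, e1⟩ := pt_cases hK _ h1
  have h2 : pt ((uT u1 hu1)⁻¹ * a⁻¹ * c) ≠ pt 1 := by
    intro h
    apply hxz
    have : ((uT u1 hu1)⁻¹ * a⁻¹) • pt c = ((uT u1 hu1)⁻¹ * a⁻¹) • pt a := by
      rw [smul_pt, smul_pt, h, mul_assoc, inv_mul_cancel, mul_one, pt_eq_iff]
      have e : ((1 : ↥(twistedG2 K (3 ^ m))) : GL chevG2.Idx K)⁻¹ *
          (((uT u1 hu1)⁻¹ : ↥(twistedG2 K (3 ^ m))) : GL chevG2.Idx K) = u1⁻¹ := by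
        show (1 : GL chevG2.Idx K)⁻¹ * u1⁻¹ = u1⁻¹
        group
      rw [e]
      exact Subgroup.inv_mem _ (hUB hu1.1)
    exact (smul_left_cancel _ this).symm
  obtain ⟨u, hu, e2⟩ := pt_cases hK _ h2
  have ey : ((uT u1 hu1)⁻¹ * a⁻¹) • pt b = pt (s1 hK)⁻¹ := by
    rw [mul_smul, smul_pt a⁻¹ b, e1, smul_pt]
    congr 1
    group
  refine ⟨(uT u1 hu1)⁻¹ * a⁻¹, u, hu, ?_, ?_, ey, ?_⟩
  · intro hu1'
    apply hyz
    have : ((uT u1 hu1)⁻¹ * a⁻¹) • pt b = ((uT u1 hu1)⁻¹ * a⁻¹) • pt c := by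
      rw [ey, smul_pt, e2]
      congr 1
      have : uT u hu = 1 := Subtype.ext hu1'
      rw [this, one_mul]
    exact smul_left_cancel _ this
  · rw [smul_pt, mul_assoc, inv_mul_cancel, mul_one, pt_eq_iff]
    have e : (((uT u1 hu1)⁻¹ : ↥(twistedG2 K (3 ^ m))) : GL chevG2.Idx K)⁻¹ *
        ((1 : ↥(twistedG2 K (3 ^ m))) : GL chevG2.Idx K) = u1 := by
      show (u1⁻¹)⁻¹ * 1 = u1
      group
    rw [e]
    exact hUB hu1.1
  · rw [smul_pt]
    exact e2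

/-- an element fixing `B¹`, `n₁⁻¹ B¹` and `u n₁⁻¹ B¹` lies in `H` and commutes with `u` -/
theorem stab3_sub (hK : Fintype.card K = 3 ^ (2 * m + 1)) (u : GL chevG2.Idx K)
    (hu : u ∈ chevG2.posUnipotent K ⊓ twistedG2 K (3 ^ m)) (t : ↥(twistedG2 K (3 ^ m)))
    (ht : t ∈ MulAction.stabilizer ↥(twistedG2 K (3 ^ m)) (pt (1 : ↥(twistedG2 K (3 ^ m)))) ⊓
      MulAction.stabilizer ↥(twistedG2 K (3 ^ m)) (pt (s1 hK)⁻¹) ⊓
      MulAction.stabilizer ↥(twistedG2 K (3 ^ m)) (pt (uT u hu * (s1 hK)⁻¹))) :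
    (t : GL chevG2.Idx K) ∈ chevG2.diagonalSubgroup K ∧
      (t : GL chevG2.Idx K) * u = u * (t : GL chevG2.Idx K) := by
  have hHB : chevG2.diagonalSubgroup K ≤ chevG2.borelSubgroup K := le_sup_right
  rw [Subgroup.mem_inf, Subgroup.mem_inf] at ht
  obtain ⟨⟨h1, h2⟩, h3⟩ := ht
  rw [mem_stab_pt] at h1 h2 h3
  have h1' : (t : GL chevG2.Idx K) ∈ chevG2.borelSubgroup K := by
    have e : ((1 : ↥(twistedG2 K (3 ^ m))) : GL chevG2.Idx K)⁻¹ * (t : GL chevG2.Idx K) *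
        ((1 : ↥(twistedG2 K (3 ^ m))) : GL chevG2.Idx K) = t := by
      rw [Subgroup.coe_one]
      group
    rwa [e] at h1
  have h2' : n1 hK * (t : GL chevG2.Idx K) * (n1 hK)⁻¹ ∈ chevG2.borelSubgroup K := by
    have e : (((s1 hK)⁻¹ : ↥(twistedG2 K (3 ^ m))) : GL chevG2.Idx K)⁻¹ * (t : GL chevG2.Idx K) *
        (((s1 hK)⁻¹ : ↥(twistedG2 K (3 ^ m))) : GL chevG2.Idx K)
        = n1 hK * (t : GL chevG2.Idx K) * (n1 hK)⁻¹ := by
      show ((n1 hK)⁻¹)⁻¹ * (t : GL chevG2.Idx K) * (n1 hK)⁻¹ = _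
      group
    rwa [e] at h2
  have h3' : n1 hK * (u⁻¹ * (t : GL chevG2.Idx K) * u) * (n1 hK)⁻¹
      ∈ chevG2.borelSubgroup K := by
    have e : ((uT u hu * (s1 hK)⁻¹ : ↥(twistedG2 K (3 ^ m))) : GL chevG2.Idx K)⁻¹ *
        (t : GL chevG2.Idx K) * ((uT u hu * (s1 hK)⁻¹ : ↥(twistedG2 K (3 ^ m))) : GL chevG2.Idx K)
        = n1 hK * (u⁻¹ * (t : GL chevG2.Idx K) * u) * (n1 hK)⁻¹ := by
      show (u * (n1 hK)⁻¹)⁻¹ * (t : GL chevG2.Idx K) * (u * (n1 hK)⁻¹) = _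
      group
    rwa [e] at h3
  -- `t ∈ H`
  obtain ⟨u', hu', h, hh, e, fu, fh⟩ := borel_fixR hK _ h1' (twisted_le_fixR hK t.2)
  have hu1 : u' = 1 := by
    apply n1_conj_not_borel hK u' hu'
    have e2 : n1 hK * u' * (n1 hK)⁻¹
        = (n1 hK * (u' * h) * (n1 hK)⁻¹) * (n1 hK * h * (n1 hK)⁻¹)⁻¹ := by group
    rw [e2, ← e]
    exact Subgroup.mul_mem _ h2' (Subgroup.inv_mem _
      (hHB (mono_conj_diag _ _ (n1_mono hK) hh).1))
  have htH : (t : GL chevG2.Idx K) ∈ chevG2.diagonalSubgroup K := by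
    rw [e, hu1, one_mul]
    exact hh
  refine ⟨htH, ?_⟩
  -- the commutator lies in `U` and is conjugated into `B` by `n₁`
  have hnorm := (borel_semidirect_all (F := K) chevG2 hD2).1 (Subgroup.inv_mem _ htH)
  have hc : (t : GL chevG2.Idx K)⁻¹ * u⁻¹ * (t : GL chevG2.Idx K) * u
      ∈ chevG2.posUnipotent K := by
    have := (Subgroup.mem_normalizer_iff.1 hnorm u⁻¹).1 (Subgroup.inv_mem _ hu.1)
    rw [inv_inv] at this
    exact Subgroup.mul_mem _ this hu.1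
  have hc1 : (t : GL chevG2.Idx K)⁻¹ * u⁻¹ * (t : GL chevG2.Idx K) * u = 1 := by
    apply n1_conj_not_borel hK _ hc
    have e2 : n1 hK * ((t : GL chevG2.Idx K)⁻¹ * u⁻¹ * (t : GL chevG2.Idx K) * u) * (n1 hK)⁻¹
        = (n1 hK * (t : GL chevG2.Idx K) * (n1 hK)⁻¹)⁻¹ *
          (n1 hK * (u⁻¹ * (t : GL chevG2.Idx K) * u) * (n1 hK)⁻¹) := by group
    rw [e2]
    exact Subgroup.mul_mem _ (Subgroup.inv_mem _ h2') h3'
  calc (t : GL chevG2.Idx K) * u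
      = u * (t : GL chevG2.Idx K) * ((t : GL chevG2.Idx K)⁻¹ * u⁻¹ * (t : GL chevG2.Idx K) * u) := by
        group
    _ = u * (t : GL chevG2.Idx K) := by rw [hc1, mul_one]

end

end Cfsg.Agent.Lib.Helper5.Ree
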