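import Cfsg.Agent.Lib.Helper5.Ree.AutA
import Cfsg.Agent.Lib.Helper5.Ree.Three
import Cfsg.Agent.Lib.Helper5.Ree.Norm2
import Cfsg.Agent.Lib.Helper5.Ree.Core
import Cfsg.Agent.Lib.Helper5.Ree.N3
import Cfsg.Agent.Lib.Helper5.AutBN.Core
import Mathlib

/-!
# Automorphisms of the small Ree groups: the subgroups `U¹`, `V¹`, `H¹` (helper5)
-/

set_option autoImplicit false

namespace Cfsg.Agent.Lib.Helper5.Ree

open Cfsg.Lie Cfsg.Agent.Lib.Helper5.Chev Cfsg.Agent.Lib.Helper5.GA Cfsg.Agent.Lib.Helper5.Tw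
open Cfsg.Agent.Lib.Helper5.Frob Cfsg.Agent.Lib.Helper5.AutBN
open scoped Matrix

section

variable {K : Type*} [Field K] [Fintype K] [CharP K 3] {m : ℕ}

/-- `U¹` as a subgroup of the twisted group -/
abbrev UU1 (K : Type*) [Field K] (m : ℕ) : Subgroup ↥(twistedG2 K (3 ^ m)) :=
  (chevG2.posUnipotent K ⊓ twistedG2 K (3 ^ m)).subgroupOf (twistedG2 K (3 ^ m))

/-- `V¹` as a subgroup of the twisted group -/
abbrev VV1 (K : Type*) [Field K] (m : ℕ) : Subgroup ↥(twistedG2 K (3 ^ m)) :=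
  (chevG2.negUnipotent K ⊓ twistedG2 K (3 ^ m)).subgroupOf (twistedG2 K (3 ^ m))

/-- `H¹` as a subgroup of the twisted group -/
abbrev HH1 (K : Type*) [Field K] (m : ℕ) : Subgroup ↥(twistedG2 K (3 ^ m)) :=
  (chevG2.diagonalSubgroup K ⊓ twistedG2 K (3 ^ m)).subgroupOf (twistedG2 K (3 ^ m))

omit [Fintype K] [CharP K 3] in
theorem mem_UU1 (x : ↥(twistedG2 K (3 ^ m))) :
    x ∈ UU1 K m ↔ (x : GL chevG2.Idx K) ∈ chevG2.posUnipotent K := by
  rw [Subgroup.mem_subgroupOf]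
  exact ⟨fun h => h.1, fun h => ⟨h, x.2⟩⟩

omit [Fintype K] [CharP K 3] in
theorem mem_VV1 (x : ↥(twistedG2 K (3 ^ m))) :
    x ∈ VV1 K m ↔ (x : GL chevG2.Idx K) ∈ chevG2.negUnipotent K := by
  rw [Subgroup.mem_subgroupOf]
  exact ⟨fun h => h.1, fun h => ⟨h, x.2⟩⟩

omit [Fintype K] [CharP K 3] in
theorem mem_HH1 (x : ↥(twistedG2 K (3 ^ m))) :
    x ∈ HH1 K m ↔ (x : GL chevG2.Idx K) ∈ chevG2.diagonalSubgroup K := by
  rw [Subgroup.mem_subgroupOf]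
  exact ⟨fun h => h.1, fun h => ⟨h, x.2⟩⟩

/-- the elements of `U¹`, in the twisted group -/
noncomputable def Xg (K : Type*) [Field K] [CharP K 3] (m : ℕ) (t u v : K) :
    ↥(twistedG2 K (3 ^ m)) := ⟨uu K m t u v, uu_mem_twisted t u v⟩

/-- the elements of `H¹`, in the twisted group -/
noncomputable def Tg (hK : Fintype.card K = 3 ^ (2 * m + 1)) (ν : Kˣ) :
    ↥(twistedG2 K (3 ^ m)) := ⟨tauT K m ν, tauT_mem hK ν⟩

/-- the data of `U¹H¹` -/
noncomputable def uhData (hK : Fintype.card K = 3 ^ (2 * m + 1)) :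
    UHData K m ↥(twistedG2 K (3 ^ m)) where
  X := Xg K m
  T := Tg hK
  X_mul := by
    intro t u v t' u' v'
    apply Subtype.ext
    exact uu_mul_full hK t u v t' u' v'
  X_inj := by
    intro t u v t' u' v' h
    exact uu_injective _ _ _ _ _ _ (congrArg Subtype.val h)
  T_conj := by
    intro ν t u v
    apply Subtype.ext
    exact tauT_conj_uu' hK ν t u v

theorem uhData_X (hK : Fintype.card K = 3 ^ (2 * m + 1)) (t u v : K) :
    (uhData hK).X t u v = Xg K m t u v := rfl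

theorem uhData_T (hK : Fintype.card K = 3 ^ (2 * m + 1)) (ν : Kˣ) :
    (uhData hK).T ν = Tg hK ν := rfl

omit [Fintype K] in
theorem uu_eq_wordU (t u v : K) :
    uu K m t u v = (hadd2 K).wordU (reeWordU (3 ^ m) t u v) := by
  unfold uu
  rw [posSide_rw]

theorem mem_UU1_iff (hK : Fintype.card K = 3 ^ (2 * m + 1)) (x : ↥(twistedG2 K (3 ^ m))) :
    x ∈ UU1 K m ↔ ∃ t u v : K, x = Xg K m t u v := by
  rw [Subgroup.mem_subgroupOf, pos_twisted_iff hK]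
  constructor
  · rintro ⟨t, u, v, e⟩
    exact ⟨t, u, v, Subtype.ext (by rw [e]; exact (uu_eq_wordU t u v).symm)⟩
  · rintro ⟨t, u, v, rfl⟩
    exact ⟨t, u, v, uu_eq_wordU t u v⟩

theorem mem_HH1_iff (hK : Fintype.card K = 3 ^ (2 * m + 1)) (x : ↥(twistedG2 K (3 ^ m))) :
    x ∈ HH1 K m ↔ ∃ ν : Kˣ, x = Tg hK ν := by
  rw [Subgroup.mem_subgroupOf, diag_twisted_eq hK, diag_fixed_iff hK]
  constructor
  · rintro ⟨ν, e⟩
    exact ⟨ν, Subtype.ext e.symm⟩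
  · rintro ⟨ν, rfl⟩
    exact ⟨ν, rfl⟩

theorem Xg_mem (hK : Fintype.card K = 3 ^ (2 * m + 1)) (t u v : K) : Xg K m t u v ∈ UU1 K m :=
  (mem_UU1_iff hK _).2 ⟨t, u, v, rfl⟩

theorem Tg_mem (hK : Fintype.card K = 3 ^ (2 * m + 1)) (ν : Kˣ) : Tg hK ν ∈ HH1 K m :=
  (mem_HH1_iff hK _).2 ⟨ν, rfl⟩

omit [Fintype K] [CharP K 3] in
theorem UU1_le_B1 : UU1 K m ≤ B1 K m := by
  intro x hx
  rw [mem_B1]
  exact Subgroup.mem_sup_left ((mem_UU1 x).1 hx)

omit [Fintype K] [CharP K 3] in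
theorem HH1_le_B1 : HH1 K m ≤ B1 K m := by
  intro x hx
  rw [mem_B1]
  exact Subgroup.mem_sup_right ((mem_HH1 x).1 hx)

omit [Fintype K] [CharP K 3] in
/-- `B¹` normalises `U¹` -/
theorem B1_le_normalizer : B1 K m ≤ Subgroup.normalizer (UU1 K m : Set ↥(twistedG2 K (3 ^ m))) := by
  intro b hb
  rw [mem_B1] at hb
  have hn := borel_le_normalizer_all (F := K) chevG2 hD2 hb
  rw [Subgroup.mem_normalizer_iff]
  intro x
  rw [mem_UU1, mem_UU1]
  exact Subgroup.mem_normalizer_iff.1 hn x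

omit [Fintype K] [CharP K 3] in
/-- `H¹` normalises `V¹` -/
theorem HH1_le_normalizer : HH1 K m ≤ Subgroup.normalizer (VV1 K m : Set ↥(twistedG2 K (3 ^ m))) := by
  intro h hh
  rw [mem_HH1] at hh
  have hn := diagonal_le_normalizer (F := K) hD2 (fun r => chevG2.IsNegRoot r) (fun r hr => hr.1) hh
  rw [Subgroup.mem_normalizer_iff]
  intro x
  rw [mem_VV1, mem_VV1]
  exact Subgroup.mem_normalizer_iff.1 hn x

/-- `s₁ U¹ s₁⁻¹ ≤ V¹` -/
theorem cj_s1_UU1_le (hK : Fintype.card K = 3 ^ (2 * m + 1)) :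
    cj (s1 hK) (UU1 K m) ≤ VV1 K m := by
  intro x hx
  rw [mem_cj, mem_UU1] at hx
  rw [mem_VV1]
  have h := n1_conj_pos hK _ hx
  have e : n1 hK * (((s1 hK)⁻¹ * x * s1 hK : ↥(twistedG2 K (3 ^ m))) : GL chevG2.Idx K)
      * (n1 hK)⁻¹ = x := by
    show n1 hK * ((n1 hK)⁻¹ * (x : GL chevG2.Idx K) * n1 hK) * (n1 hK)⁻¹ = x
    group
  rwa [e] at h

/-- `s₁ V¹ s₁⁻¹ ≤ U¹` -/
theorem cj_s1_VV1_le (hK : Fintype.card K = 3 ^ (2 * m + 1)) :
    cj (s1 hK) (VV1 K m) ≤ UU1 K m := by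
  intro x hx
  rw [mem_cj, mem_VV1] at hx
  rw [mem_UU1]
  have h := n1_conj_neg hK _ hx
  have e : n1 hK * (((s1 hK)⁻¹ * x * s1 hK : ↥(twistedG2 K (3 ^ m))) : GL chevG2.Idx K)
      * (n1 hK)⁻¹ = x := by
    show n1 hK * ((n1 hK)⁻¹ * (x : GL chevG2.Idx K) * n1 hK) * (n1 hK)⁻¹ = x
    group
  rwa [e] at h

theorem cj_s1_UU1 (hK : Fintype.card K = 3 ^ (2 * m + 1)) :
    cj (s1 hK) (UU1 K m) = VV1 K m := by
  have := finite_twisted hK
  have h1 := Subgroup.card_le_of_le (cj_s1_UU1_le hK)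
  have h2 := Subgroup.card_le_of_le (cj_s1_VV1_le hK)
  rw [card_cj] at h1 h2
  apply Subgroup.eq_of_le_of_card_ge (cj_s1_UU1_le hK)
  rw [card_cj]
  exact h2

theorem cj_s1_VV1 (hK : Fintype.card K = 3 ^ (2 * m + 1)) :
    cj (s1 hK) (VV1 K m) = UU1 K m := by
  have := finite_twisted hK
  have h1 := Subgroup.card_le_of_le (cj_s1_UU1_le hK)
  have h2 := Subgroup.card_le_of_le (cj_s1_VV1_le hK)
  rw [card_cj] at h1 h2
  apply Subgroup.eq_of_le_of_card_ge (cj_s1_VV1_le hK)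
  rw [card_cj]
  exact h1

/-- the Bruhat decomposition in the twisted group -/
theorem bruhat_G (hK : Fintype.card K = 3 ^ (2 * m + 1)) (g : ↥(twistedG2 K (3 ^ m))) :
    g ∈ B1 K m ∨ ∃ u ∈ UU1 K m, ∃ b ∈ B1 K m, g = u * s1 hK * b := by
  rcases twisted_cases hK g g.2 with ⟨u, hu, h, hh, e⟩ | ⟨u, hu, h, hh, u', hu', e⟩
  · left
    rw [mem_B1, e]
    exact Subgroup.mul_mem _ (Subgroup.mem_sup_left hu.1) (Subgroup.mem_sup_right hh.1)
  · right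
    refine ⟨⟨u, hu.2⟩, ?_, ⟨h * u', Subgroup.mul_mem _ hh.2 hu'.2⟩, ?_, ?_⟩
    · rw [mem_UU1]
      exact hu.1
    · rw [mem_B1]
      exact Subgroup.mul_mem _ (Subgroup.mem_sup_right hh.1) (Subgroup.mem_sup_left hu'.1)
    · apply Subtype.ext
      show (g : GL chevG2.Idx K) = u * n1 hK * (h * u')
      rw [e]
      group

/-- `B¹ = U¹ H¹` -/
theorem B1_eq_mul (hK : Fintype.card K = 3 ^ (2 * m + 1)) (b : ↥(twistedG2 K (3 ^ m)))
    (hb : b ∈ B1 K m) : ∃ u ∈ UU1 K m, ∃ h ∈ HH1 K m, b = u * h := by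
  rw [mem_B1] at hb
  obtain ⟨u, hu, h, hh, e, fu, fh⟩ := borel_fixR hK _ hb (twisted_le_fixR hK b.2)
  refine ⟨⟨u, pos_fix_mem_twisted hK u hu fu⟩, ?_, ⟨h, diag_fix_mem_twisted hK h hh fh⟩, ?_, ?_⟩
  · rw [mem_UU1]
    exact hu
  · rw [mem_HH1]
    exact hh
  · exact Subtype.ext e

omit [Fintype K] [CharP K 3] in
theorem B1_inf_VV1 : B1 K m ⊓ VV1 K m = ⊥ := by
  rw [eq_bot_iff]
  intro x hx
  obtain ⟨h1, h2⟩ := Subgroup.mem_inf.1 hx
  rw [mem_B1] at h1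
  rw [mem_VV1] at h2
  have h3 : (x : GL chevG2.Idx K) ∈ chevG2.borelSubgroup K ⊓ chevG2.negUnipotent K := ⟨h1, h2⟩
  rw [(borel_inf_neg_all chevG2 hD2).1, Subgroup.mem_bot] at h3
  rw [Subgroup.mem_bot]
  exact Subtype.ext h3

theorem exists_UU1_ne_one (hK : Fintype.card K = 3 ^ (2 * m + 1)) :
    ∃ u ∈ UU1 K m, u ≠ 1 := by
  obtain ⟨u, hu, hne⟩ := exists_pos_ne_one hK
  refine ⟨⟨u, hu.2⟩, ?_, ?_⟩
  · rw [mem_UU1]
    exact hu.1
  · intro h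
    exact hne (congrArg Subtype.val h)

/-- `s₁` does not normalise `U¹` -/
theorem s1_not_normalizer (hK : Fintype.card K = 3 ^ (2 * m + 1)) :
    s1 hK ∉ Subgroup.normalizer (UU1 K m : Set ↥(twistedG2 K (3 ^ m))) := by
  intro hs
  obtain ⟨u, hu, hne⟩ := exists_UU1_ne_one hK
  have h1 := (Subgroup.mem_normalizer_iff.1 hs u).1 hu
  rw [mem_UU1] at h1 hu
  have h2 : n1 hK * (u : GL chevG2.Idx K) * (n1 hK)⁻¹ ∈ chevG2.borelSubgroup K :=
    Subgroup.mem_sup_left h1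
  exact hne (Subtype.ext (n1_conj_not_borel hK _ hu h2))

/-- the normaliser of `U¹` is `B¹` -/
theorem normalizer_UU1 (hK : Fintype.card K = 3 ^ (2 * m + 1)) :
    Subgroup.normalizer (UU1 K m : Set ↥(twistedG2 K (3 ^ m))) = B1 K m := by
  apply le_antisymm _ B1_le_normalizer
  intro g hg
  rcases bruhat_G hK g with h | ⟨u, hu, b, hb, e⟩
  · exact h
  · exfalso
    apply s1_not_normalizer hK
    have e' : s1 hK = u⁻¹ * g * b⁻¹ := by rw [e]; group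
    rw [e']
    exact Subgroup.mul_mem _ (Subgroup.mul_mem _
      (Subgroup.inv_mem _ (B1_le_normalizer (UU1_le_B1 hu))) hg)
      (Subgroup.inv_mem _ (B1_le_normalizer hb))

/-- the elements normalising `U¹` and `V¹` are those of `H¹` -/
theorem normalizer_inf_le (hK : Fintype.card K = 3 ^ (2 * m + 1)) :
    Subgroup.normalizer (UU1 K m : Set ↥(twistedG2 K (3 ^ m)))
      ⊓ Subgroup.normalizer (VV1 K m : Set ↥(twistedG2 K (3 ^ m))) ≤ HH1 K m := by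
  intro x hx
  obtain ⟨hx1, hx2⟩ := Subgroup.mem_inf.1 hx
  rw [normalizer_UU1 hK] at hx1
  obtain ⟨u, hu, h, hh, e⟩ := B1_eq_mul hK x hx1
  have hu2 : u ∈ Subgroup.normalizer (VV1 K m : Set ↥(twistedG2 K (3 ^ m))) := by
    have e' : u = x * h⁻¹ := by rw [e]; group
    rw [e']
    exact Subgroup.mul_mem _ hx2 (Subgroup.inv_mem _ (HH1_le_normalizer hh))
  have h3 : s1 hK * u * (s1 hK)⁻¹ ∈ cj (s1 hK)
      (Subgroup.normalizer (VV1 K m : Set ↥(twistedG2 K (3 ^ m)))) := by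
    rw [mem_cj]
    have : (s1 hK)⁻¹ * (s1 hK * u * (s1 hK)⁻¹) * s1 hK = u := by group
    rwa [this]
  rw [← normalizer_cj, cj_s1_VV1 hK, normalizer_UU1 hK, mem_B1] at h3
  rw [mem_UU1] at hu
  have h4 : (u : GL chevG2.Idx K) = 1 := n1_conj_not_borel hK _ hu h3
  have h5 : u = 1 := Subtype.ext h4
  rw [e, h5, one_mul]
  exact hh

end

end Cfsg.Agent.Lib.Helper5.Ree
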