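import Cfsg.Agent.Lib.Helper5.Ree.AutC
import Mathlib

/-!
# Automorphisms of the small Ree groups: field automorphisms and the outer automorphism group
(helper5)
-/

set_option autoImplicit false

namespace Cfsg.Agent.Lib.Helper5.Ree

open Cfsg.Lie Cfsg.Agent.Lib.Helper5.Chev Cfsg.Agent.Lib.Helper5.GA Cfsg.Agent.Lib.Helper5.Tw
open Cfsg.Agent.Lib.Helper5.Frob Cfsg.Agent.Lib.Helper5.AutBN Cfsg.Agent.Lib.Helper8.FA
open scoped Matrix

section words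

variable {K : Type*} [Field K]

theorem mapWord_reeWordU (ψ : K ≃+* K) (e : ℕ) (t u v : K) :
    mapWord ψ (reeWordU e t u v) = reeWordU e (ψ t) (ψ u) (ψ v) := by
  simp [mapWord, reeWordU, map_pow, map_add]

theorem mapWord_negWord (ψ : K ≃+* K) (w : List (ℕ × K)) :
    mapWord ψ (chevG2.negWord w) = chevG2.negWord (mapWord ψ w) := by
  unfold mapWord ChevalleyDatum.negWord
  rw [List.map_map, List.map_map]
  apply List.map_congr_left
  intro p _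
  simp

theorem g2Words_stable (e : ℕ) : WordsStable (g2Words K e) := by
  rintro ψ w ⟨t, u, v, rfl | rfl⟩
  · exact ⟨ψ t, ψ u, ψ v, Or.inl (mapWord_reeWordU ψ e t u v)⟩
  · refine ⟨ψ t, ψ u, ψ v, Or.inr ?_⟩
    unfold reeWordV
    rw [mapWord_negWord, mapWord_reeWordU]

/-- the field automorphisms of `²G₂(q)` -/
noncomputable def fieldAutG2 (K : Type*) [Field K] (e : ℕ) :
    (K ≃+* K) →* MulAut ↥(twistedG2 K e) :=
  genAutHom (D := chevG2) (g2Words_stable (K := K) e)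

theorem fieldAutG2_val (e : ℕ) (ψ : K ≃+* K) (g : ↥(twistedG2 K e)) :
    ((fieldAutG2 K e ψ g : ↥(twistedG2 K e)) : GL chevG2.Idx K)
      = Matrix.GeneralLinearGroup.map (ψ : K →+* K) (g : GL chevG2.Idx K) :=
  genAut_val (D := chevG2) (g2Words_stable (K := K) e) ψ g

end words

section

variable {K : Type*} [Field K] [Fintype K] [CharP K 3] {m : ℕ}

omit [Fintype K] in
theorem fieldAutG2_Xg (ψ : K ≃+* K) (t u v : K) :
    fieldAutG2 K (3 ^ m) ψ (Xg K m t u v) = Xg K m (ψ t) (ψ u) (ψ v) := by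
  apply Subtype.ext
  rw [fieldAutG2_val]
  show Matrix.GeneralLinearGroup.map (ψ : K →+* K) (uu K m t u v) = uu K m (ψ t) (ψ u) (ψ v)
  rw [uu_eq_wordU, uu_eq_wordU, map_wordU, mapWord_reeWordU]

theorem fieldAutG2_UU1 (hK : Fintype.card K = 3 ^ (2 * m + 1)) (ψ : K ≃+* K) :
    (UU1 K m).map (fieldAutG2 K (3 ^ m) ψ).toMonoidHom = UU1 K m := by
  have := finite_twisted hK
  apply map_eq_of_forall_mem
  intro x hx
  obtain ⟨t, u, v, rfl⟩ := (mem_UU1_iff hK x).1 hx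
  rw [fieldAutG2_Xg]
  exact Xg_mem hK _ _ _

theorem fieldAutG2_VV1 (hK : Fintype.card K = 3 ^ (2 * m + 1)) (ψ : K ≃+* K) :
    (VV1 K m).map (fieldAutG2 K (3 ^ m) ψ).toMonoidHom = VV1 K m := by
  have := finite_twisted hK
  apply map_eq_of_forall_mem
  intro x hx
  rw [mem_VV1] at hx ⊢
  rw [fieldAutG2_val]
  exact glMap_roots_le (hadd2 K) ψ (fun r => chevG2.IsNegRoot r) hx

/-- conjugation by an element of `H¹` fixes `U¹` and `V¹` -/
theorem conj_Tg_UU1 (hK : Fintype.card K = 3 ^ (2 * m + 1)) (ν : Kˣ) :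
    (UU1 K m).map (MulAut.conj (Tg hK ν)).toMonoidHom = UU1 K m :=
  cj_of_mem_normalizer (B1_le_normalizer (HH1_le_B1 (Tg_mem hK ν)))

theorem conj_Tg_VV1 (hK : Fintype.card K = 3 ^ (2 * m + 1)) (ν : Kˣ) :
    (VV1 K m).map (MulAut.conj (Tg hK ν)).toMonoidHom = VV1 K m :=
  cj_of_mem_normalizer (HH1_le_normalizer (Tg_mem hK ν))

/-- every automorphism is the product of an inner and a field automorphism -/
theorem aut_decomp (hK : Fintype.card K = 3 ^ (2 * m + 1)) (hm : 1 ≤ m)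
    (θ : MulAut ↥(twistedG2 K (3 ^ m))) :
    ∃ (x : ↥(twistedG2 K (3 ^ m))) (ψ : K ≃+* K),
      θ = MulAut.conj x * fieldAutG2 K (3 ^ m) ψ := by
  obtain ⟨x, hU, hV⟩ := exists_normal_form_ree hK θ
  set θ1 : MulAut ↥(twistedG2 K (3 ^ m)) := θ.trans (MulAut.conj x⁻¹) with hθ1
  obtain ⟨c, ψ, hc, h1⟩ := (uhData hK).stage1 θ1 hK (pres_X hK θ1 hU) (pres_T hK θ1 hU hV)
  obtain ⟨ν₀, hν₀⟩ := solve6 hK c hc
  set θ2 : MulAut ↥(twistedG2 K (3 ^ m)) :=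
    (MulAut.conj (Tg hK ν₀))⁻¹ * θ1 * (fieldAutG2 K (3 ^ m) ψ)⁻¹ with hθ2
  have h2U : (UU1 K m).map θ2.toMonoidHom = UU1 K m := by
    rw [hθ2, map_mul_aut, map_mul_aut, map_inv_aut _ _ (fieldAutG2_UU1 hK ψ), hU,
      map_inv_aut _ _ (conj_Tg_UU1 hK ν₀)]
  have h2V : (VV1 K m).map θ2.toMonoidHom = VV1 K m := by
    rw [hθ2, map_mul_aut, map_mul_aut, map_inv_aut _ _ (fieldAutG2_VV1 hK ψ), hV,
      map_inv_aut _ _ (conj_Tg_VV1 hK ν₀)]
  have hν0 : (ν₀ : K) ≠ 0 := ν₀.ne_zero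
  have hσν0 : ph3 K m (ν₀ : K) ≠ 0 := (map_ne_zero _).2 hν0
  have h2X : ∀ t u v : K, ∃ u' v' : K,
      θ2 ((uhData hK).X t u v) = (uhData hK).X t u' v' := by
    intro t u v
    have e1 : (fieldAutG2 K (3 ^ m) ψ)⁻¹ (Xg K m t u v)
        = Xg K m (ψ.symm t) (ψ.symm u) (ψ.symm v) := by
      rw [← map_inv]
      exact fieldAutG2_Xg ψ⁻¹ t u v
    obtain ⟨u', v', e2⟩ := h1 (ψ.symm t) (ψ.symm u) (ψ.symm v)
    rw [RingEquiv.apply_symm_apply] at e2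
    refine ⟨u' / (ph3 K m ν₀ / ν₀), v' / ν₀, ?_⟩
    have e3 := (uhData hK).T_conj ν₀ t (u' / (ph3 K m ν₀ / ν₀)) (v' / ν₀)
    rw [hν₀, mul_div_cancel₀ _ (div_ne_zero hσν0 hν0), mul_div_cancel₀ _ hν0] at e3
    show (MulAut.conj (Tg hK ν₀))⁻¹ (θ1 ((fieldAutG2 K (3 ^ m) ψ)⁻¹ (Xg K m t u v))) = _
    rw [e1]
    have e4 : θ1 (Xg K m (ψ.symm t) (ψ.symm u) (ψ.symm v)) = (uhData hK).X (c * t) u' v' := e2
    rw [e4, ← e3]
    show (Tg hK ν₀)⁻¹ * ((uhData hK).T ν₀ * _ * ((uhData hK).T ν₀)⁻¹) * (Tg hK ν₀)⁻¹⁻¹ = _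
    rw [uhData_T]
    group
  have h2T : ∀ ν : Kˣ, ∃ ν' : Kˣ, θ2 ((uhData hK).T ν) = (uhData hK).T ν' :=
    pres_T hK θ2 h2U h2V
  obtain ⟨h3, -⟩ := (uhData hK).stage2 θ2 hK hm h2X h2T
  have h4 : ∀ g, θ2 g = g := by
    apply eq_one_of_fix hK θ2 _ h2V
    intro y hy
    obtain ⟨t, u, v, rfl⟩ := (mem_UU1_iff hK y).1 hy
    exact h3 t u v
  have h5 : θ2 = 1 := MulEquiv.ext h4
  have h6 : θ1 = MulAut.conj (Tg hK ν₀) * fieldAutG2 K (3 ^ m) ψ := by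
    have : θ1 = MulAut.conj (Tg hK ν₀) * θ2 * fieldAutG2 K (3 ^ m) ψ := by
      rw [hθ2]
      group
    rw [this, h5, mul_one]
  have h7 : θ = MulAut.conj x * θ1 := by
    apply MulEquiv.ext
    intro y
    show θ y = x * (x⁻¹ * θ y * x⁻¹⁻¹) * x⁻¹
    group
  refine ⟨x * Tg hK ν₀, ψ, ?_⟩
  rw [h7, h6, map_mul, mul_assoc]

/-- a field automorphism which is inner is trivial -/
theorem fieldAutG2_inner (hK : Fintype.card K = 3 ^ (2 * m + 1)) (ψ : K ≃+* K)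
    (h : fieldAutG2 K (3 ^ m) ψ ∈ Cfsg.Inn ↥(twistedG2 K (3 ^ m))) : ψ = 1 := by
  obtain ⟨x, hx⟩ := h
  have hx' : MulAut.conj x = fieldAutG2 K (3 ^ m) ψ := hx
  have h1 : x ∈ Subgroup.normalizer (UU1 K m : Set ↥(twistedG2 K (3 ^ m))) := by
    apply mem_normalizer_of_cj_eq
    rw [← map_conj_eq_cj, hx']
    exact fieldAutG2_UU1 hK ψ
  have h2 : x ∈ Subgroup.normalizer (VV1 K m : Set ↥(twistedG2 K (3 ^ m))) := by
    apply mem_normalizer_of_cj_eq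
    rw [← map_conj_eq_cj, hx']
    exact fieldAutG2_VV1 hK ψ
  obtain ⟨ν, rfl⟩ := (mem_HH1_iff hK x).1 (normalizer_inf_le hK ⟨h1, h2⟩)
  have key : ∀ t : K, ψ t = (ν : K) ^ 2 / ph3 K m ν * t := by
    intro t
    have e1 := fieldAutG2_Xg (m := m) ψ t 0 0
    rw [← hx'] at e1
    have e2 := (uhData hK).T_conj ν t 0 0
    have e3 : MulAut.conj (Tg hK ν) (Xg K m t 0 0)
        = (uhData hK).T ν * (uhData hK).X t 0 0 * ((uhData hK).T ν)⁻¹ := rfl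
    rw [e3, e2] at e1
    exact ((uhData hK).X_inj _ _ _ _ _ _ e1).1.symm
  have k1 := key 1
  rw [map_one, mul_one] at k1
  apply RingEquiv.ext
  intro t
  rw [key t, ← k1, one_mul]
  rfl

/-- the order of the outer automorphism group of `²G₂(q)` -/
theorem card_out_ree (hK : Fintype.card K = 3 ^ (2 * m + 1)) (hm : 1 ≤ m) :
    Nat.card (Cfsg.Out ↥(twistedG2 K (3 ^ m))) = 2 * m + 1 := by
  have : Fact (Nat.Prime 3) := ⟨Nat.prime_three⟩
  rw [card_out_of_split (fieldAutG2 K (3 ^ m)) (aut_decomp hK hm) (fieldAutG2_inner hK)]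
  exact card_ringAut 3 (2 * m + 1) hK

end

end Cfsg.Agent.Lib.Helper5.Ree
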