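import Cfsg.Agent.Lib.Helper5.Ree.N3
import Mathlib

/-!
# The (B, N)-pair of the small Ree group (helper5)
-/

set_option autoImplicit false

namespace Cfsg.Agent.Lib.Helper5.Ree

open Cfsg.Lie Cfsg.Agent.Lib.Helper5.Chev Cfsg.Agent.Lib.Helper5.GA Cfsg.Agent.Lib.Helper5.Tw
open Cfsg.Agent.Lib.Helper5.Frob
open scoped Matrix

section

variable {K : Type*} [Field K] [Fintype K] [CharP K 3] {m : ℕ}

/-- `n₁ U n₁⁻¹ ≤ V` -/
theorem n1_conj_pos (hK : Fintype.card K = 3 ^ (2 * m + 1)) (u : GL chevG2.Idx K)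
    (hu : u ∈ chevG2.posUnipotent K) : n1 hK * u * (n1 hK)⁻¹ ∈ chevG2.negUnipotent K := by
  have hle : chevG2.posUnipotent K
      ≤ (chevG2.negUnipotent K).comap (MulAut.conj (n1 hK)).toMonoidHom := by
    unfold ChevalleyDatum.posUnipotent
    rw [Subgroup.closure_le]
    rintro x ⟨r, t, hr, hx⟩
    rw [SetLike.mem_coe, Subgroup.mem_comap]
    apply n1_conj_root hK r hr.1 ((pos_iff6 r hr.1).1 hr)
    exact Subgroup.mem_map_of_mem _ (Subgroup.subset_closure ⟨t, hx⟩)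
  exact hle hu

omit [Fintype K] [CharP K 3] in
theorem borel_inf_mono :
    chevG2.borelSubgroup K ⊓ chevG2.monomialSubgroup K = chevG2.diagonalSubgroup K :=
  (borel_inf_monomial_all chevG2 hD2).2

/-- the two double cosets of the twisted group -/
theorem twisted_cases (hK : Fintype.card K = 3 ^ (2 * m + 1)) (g : GL chevG2.Idx K)
    (hg : g ∈ twistedG2 K (3 ^ m)) :
    (∃ u ∈ chevG2.posUnipotent K ⊓ twistedG2 K (3 ^ m),
      ∃ h ∈ chevG2.diagonalSubgroup K ⊓ twistedG2 K (3 ^ m), g = u * h) ∨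
    (∃ u ∈ chevG2.posUnipotent K ⊓ twistedG2 K (3 ^ m),
      ∃ h ∈ chevG2.diagonalSubgroup K ⊓ twistedG2 K (3 ^ m),
      ∃ u' ∈ chevG2.posUnipotent K ⊓ twistedG2 K (3 ^ m), g = u * n1 hK * h * u') := by
  have hf := twisted_le_fixR hK hg
  obtain ⟨u1, hu1, n, hn, u2, hu2, e, f1, fn, f2⟩ := bruhat_fixR hK g hf
  have hu2U : u2 ∈ chevG2.posUnipotent K := uneg_le_pos chevG2 _ hu2
  rcases mono_fix_cases' hK n hn fn with h | h
  · left
    have hB : g ∈ chevG2.borelSubgroup K := by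
      rw [e]
      exact Subgroup.mul_mem _ (Subgroup.mul_mem _ (Subgroup.mem_sup_left hu1)
        (Subgroup.mem_sup_right h)) (Subgroup.mem_sup_left hu2U)
    obtain ⟨u, hu, k, hk, e', fu, fk⟩ := borel_fixR hK g hB hf
    exact ⟨u, ⟨hu, pos_fix_mem_twisted hK u hu fu⟩, k, ⟨hk, diag_fix_mem_twisted hK k hk fk⟩, e'⟩
  · right
    have hf' : (n1 hK)⁻¹ * n ∈ fixR hK :=
      Subgroup.mul_mem _ (Subgroup.inv_mem _ (n1_fix hK)) fn
    refine ⟨u1, ⟨hu1, pos_fix_mem_twisted hK u1 hu1 f1⟩, (n1 hK)⁻¹ * n,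
      ⟨h, diag_fix_mem_twisted hK _ h hf'⟩, u2, ⟨hu2U, pos_fix_mem_twisted hK u2 hu2U f2⟩, ?_⟩
    rw [e]
    group

/-- a nontrivial element of `U¹` -/
theorem exists_pos_ne_one (hK : Fintype.card K = 3 ^ (2 * m + 1)) :
    ∃ u ∈ chevG2.posUnipotent K ⊓ twistedG2 K (3 ^ m), u ≠ 1 := by
  by_contra hcon
  push Not at hcon
  have hbot : chevG2.posUnipotent K ⊓ twistedG2 K (3 ^ m) = ⊥ := by
    rw [eq_bot_iff]
    intro x hx
    rw [Subgroup.mem_bot]
    exact hcon x hx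
  have hc := card_pos_twisted hK
  rw [hbot, Subgroup.card_bot] at hc
  have h1 : 1 < 3 ^ (2 * m + 1) := Nat.one_lt_pow (by omega) (by norm_num)
  have h2 : 1 < (3 ^ (2 * m + 1)) ^ 3 := Nat.one_lt_pow (by norm_num) h1
  omega

/-- `n₁ u n₁⁻¹ ∈ B` only for `u = 1` -/
theorem n1_conj_not_borel (hK : Fintype.card K = 3 ^ (2 * m + 1)) (u : GL chevG2.Idx K)
    (hu : u ∈ chevG2.posUnipotent K) (hB : n1 hK * u * (n1 hK)⁻¹ ∈ chevG2.borelSubgroup K) :
    u = 1 := by
  have h1 : n1 hK * u * (n1 hK)⁻¹ ∈ chevG2.borelSubgroup K ⊓ chevG2.negUnipotent K :=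
    ⟨hB, n1_conj_pos hK u hu⟩
  rw [(borel_inf_neg_all chevG2 hD2).1, Subgroup.mem_bot] at h1
  have e : u = (n1 hK)⁻¹ * (n1 hK * u * (n1 hK)⁻¹) * n1 hK := by group
  rw [e, h1]
  group

/-- the generator of the Weyl group, in the twisted group -/
noncomputable def s1 (hK : Fintype.card K = 3 ^ (2 * m + 1)) : ↥(twistedG2 K (3 ^ m)) :=
  ⟨n1 hK, n1_twisted hK⟩

/-- every element of the twisted group lies in `B¹` or in `B¹ n₁ B¹` -/
theorem dc_cases (hK : Fintype.card K = 3 ^ (2 * m + 1)) (x : ↥(twistedG2 K (3 ^ m))) :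
    x ∈ (chevG2.borelSubgroup K ⊓ twistedG2 K (3 ^ m)).subgroupOf (twistedG2 K (3 ^ m)) ∨
    ∃ b1 ∈ (chevG2.borelSubgroup K ⊓ twistedG2 K (3 ^ m)).subgroupOf (twistedG2 K (3 ^ m)),
      ∃ b2 ∈ (chevG2.borelSubgroup K ⊓ twistedG2 K (3 ^ m)).subgroupOf (twistedG2 K (3 ^ m)),
        x = b1 * s1 hK * b2 := by
  rcases twisted_cases hK x x.2 with ⟨u, hu, h, hh, e⟩ | ⟨u, hu, h, hh, u', hu', e⟩
  · left
    rw [Subgroup.mem_subgroupOf, e]
    exact ⟨Subgroup.mul_mem _ (Subgroup.mem_sup_left hu.1) (Subgroup.mem_sup_right hh.1),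
      Subgroup.mul_mem _ hu.2 hh.2⟩
  · right
    refine ⟨⟨u, hu.2⟩, ?_, ⟨h * u', Subgroup.mul_mem _ hh.2 hu'.2⟩, ?_, ?_⟩
    · rw [Subgroup.mem_subgroupOf]
      exact ⟨Subgroup.mem_sup_left hu.1, hu.2⟩
    · rw [Subgroup.mem_subgroupOf]
      exact ⟨Subgroup.mul_mem _ (Subgroup.mem_sup_right hh.1) (Subgroup.mem_sup_left hu'.1),
        Subgroup.mul_mem _ hh.2 hu'.2⟩
    · apply Subtype.ext
      show (x : GL chevG2.Idx K) = u * n1 hK * (h * u')
      rw [e]
      group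

/-- the (B, N)-pair of the twisted group -/
theorem bnPair (hK : Fintype.card K = 3 ^ (2 * m + 1)) :
    ∃ P : Cfsg.BNPair ↥(twistedG2 K (3 ^ m)),
      P.B = (chevG2.borelSubgroup K ⊓ twistedG2 K (3 ^ m)).subgroupOf (twistedG2 K (3 ^ m)) ∧
      P.N = (chevG2.monomialSubgroup K ⊓ twistedG2 K (3 ^ m)).subgroupOf (twistedG2 K (3 ^ m)) ∧
      P.S = {s1 hK} := by
  have hHB : chevG2.diagonalSubgroup K ≤ chevG2.borelSubgroup K := le_sup_right
  have hHN : chevG2.diagonalSubgroup K ≤ chevG2.monomialSubgroup K := le_sup_left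
  refine ⟨{ B := (chevG2.borelSubgroup K ⊓ twistedG2 K (3 ^ m)).subgroupOf (twistedG2 K (3 ^ m))
            N := (chevG2.monomialSubgroup K ⊓ twistedG2 K (3 ^ m)).subgroupOf
              (twistedG2 K (3 ^ m))
            S := {s1 hK}
            sup_eq_top := ?_
            conj_mem := ?_
            subset := ?_
            sq_mem := ?_
            inj := ?_
            closure_sup := ?_
            mul_mem_union := ?_
            conj_ne := ?_ }, rfl, rfl, rfl⟩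
  · -- sup_eq_top
    rw [eq_top_iff]
    intro x _
    rcases dc_cases hK x with h | ⟨b1, hb1, b2, hb2, rfl⟩
    · exact Subgroup.mem_sup_left h
    · refine Subgroup.mul_mem _ (Subgroup.mul_mem _ (Subgroup.mem_sup_left hb1) ?_)
        (Subgroup.mem_sup_left hb2)
      apply Subgroup.mem_sup_right
      rw [Subgroup.mem_subgroupOf]
      exact ⟨n1_mono hK, n1_twisted hK⟩
  · -- conj_mem
    rintro n hn t ⟨ht1, ht2⟩
    have ht1' : t ∈ (chevG2.borelSubgroup K ⊓ twistedG2 K (3 ^ m)).subgroupOf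
      (twistedG2 K (3 ^ m)) := ht1
    have ht2' : t ∈ (chevG2.monomialSubgroup K ⊓ twistedG2 K (3 ^ m)).subgroupOf
      (twistedG2 K (3 ^ m)) := ht2
    rw [Subgroup.mem_subgroupOf] at hn ht1' ht2' ⊢
    have htH : (t : GL chevG2.Idx K) ∈ chevG2.diagonalSubgroup K := by
      rw [← borel_inf_mono]
      exact ⟨ht1'.1, ht2'.1⟩
    refine ⟨hHB ?_, (n * t * n⁻¹).2⟩
    exact (mono_conj_diag _ _ hn.1 htH).1
  · -- subset
    intro s hs
    rw [Set.mem_singleton_iff] at hs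
    rw [hs, SetLike.mem_coe, Subgroup.mem_subgroupOf]
    exact ⟨n1_mono hK, n1_twisted hK⟩
  · -- sq_mem
    intro s hs
    rw [Set.mem_singleton_iff] at hs
    rw [hs, Subgroup.mem_subgroupOf]
    exact ⟨hHB (n1_sq hK), (s1 hK * s1 hK).2⟩
  · -- inj
    intro s hs s' hs' _
    rw [Set.mem_singleton_iff] at hs hs'
    rw [hs, hs']
  · -- closure_sup
    apply le_antisymm
    · apply sup_le
      · rw [Subgroup.closure_le]
        intro s hs
        rw [Set.mem_singleton_iff] at hs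
        rw [hs, SetLike.mem_coe, Subgroup.mem_subgroupOf]
        exact ⟨n1_mono hK, n1_twisted hK⟩
      · exact inf_le_right
    · intro n hn
      rw [Subgroup.mem_subgroupOf] at hn
      by_cases hH : (n : GL chevG2.Idx K) ∈ chevG2.diagonalSubgroup K
      · apply Subgroup.mem_sup_right
        constructor
        · show n ∈ (chevG2.borelSubgroup K ⊓ twistedG2 K (3 ^ m)).subgroupOf
            (twistedG2 K (3 ^ m))
          rw [Subgroup.mem_subgroupOf]
          exact ⟨hHB hH, hn.2⟩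
        · show n ∈ (chevG2.monomialSubgroup K ⊓ twistedG2 K (3 ^ m)).subgroupOf
            (twistedG2 K (3 ^ m))
          rw [Subgroup.mem_subgroupOf]
          exact hn
      · have hk : (n1 hK)⁻¹ * (n : GL chevG2.Idx K) ∈ chevG2.diagonalSubgroup K :=
          (mono_fix_cases' hK _ hn.1 (twisted_le_fixR hK hn.2)).resolve_left hH
        have e : n = s1 hK * ((s1 hK)⁻¹ * n) := by group
        rw [e]
        apply Subgroup.mul_mem
        · exact Subgroup.mem_sup_left (Subgroup.subset_closure rfl)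
        · apply Subgroup.mem_sup_right
          constructor
          · show (s1 hK)⁻¹ * n ∈ (chevG2.borelSubgroup K ⊓ twistedG2 K (3 ^ m)).subgroupOf
              (twistedG2 K (3 ^ m))
            rw [Subgroup.mem_subgroupOf]
            exact ⟨hHB hk, ((s1 hK)⁻¹ * n).2⟩
          · show (s1 hK)⁻¹ * n ∈ (chevG2.monomialSubgroup K ⊓ twistedG2 K (3 ^ m)).subgroupOf
              (twistedG2 K (3 ^ m))
            rw [Subgroup.mem_subgroupOf]
            exact ⟨hHN hk, ((s1 hK)⁻¹ * n).2⟩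
  · -- mul_mem_union
    intro s hs n hn b hb
    rw [Set.mem_singleton_iff] at hs
    rw [hs]
    rw [Subgroup.mem_subgroupOf] at hn
    by_cases hH : (n : GL chevG2.Idx K) ∈ chevG2.diagonalSubgroup K
    · have hnB : n ∈ (chevG2.borelSubgroup K ⊓ twistedG2 K (3 ^ m)).subgroupOf
          (twistedG2 K (3 ^ m)) := by
        rw [Subgroup.mem_subgroupOf]
        exact ⟨hHB hH, hn.2⟩
      rcases dc_cases hK (s1 hK * b * n) with h | ⟨b1, hb1, b2, hb2, e⟩
      · right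
        rw [DoubleCoset.mem_doubleCoset]
        refine ⟨s1 hK * b * n * n⁻¹, Subgroup.mul_mem _ h (Subgroup.inv_mem _ hnB), 1,
          Subgroup.one_mem _, ?_⟩
        group
      · left
        rw [DoubleCoset.mem_doubleCoset]
        refine ⟨b1, hb1, n⁻¹ * b2, Subgroup.mul_mem _ (Subgroup.inv_mem _ hnB) hb2, ?_⟩
        rw [e]
        group
    · have hk : (n1 hK)⁻¹ * (n : GL chevG2.Idx K) ∈ chevG2.diagonalSubgroup K :=
        (mono_fix_cases' hK _ hn.1 (twisted_le_fixR hK hn.2)).resolve_left hH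
      have hkB : (s1 hK)⁻¹ * n ∈ (chevG2.borelSubgroup K ⊓ twistedG2 K (3 ^ m)).subgroupOf
          (twistedG2 K (3 ^ m)) := by
        rw [Subgroup.mem_subgroupOf]
        exact ⟨hHB hk, ((s1 hK)⁻¹ * n).2⟩
      have hsn : s1 hK * n ∈ (chevG2.borelSubgroup K ⊓ twistedG2 K (3 ^ m)).subgroupOf
          (twistedG2 K (3 ^ m)) := by
        rw [Subgroup.mem_subgroupOf]
        refine ⟨hHB ?_, (s1 hK * n).2⟩
        exact mono_fix_mul hK _ _ (n1_mono hK) (n1_fix hK) hn.1 (twisted_le_fixR hK hn.2)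
          (n1_not_diag hK) hH
      rcases dc_cases hK (s1 hK * b * n) with h | ⟨b1, hb1, b2, hb2, e⟩
      · left
        rw [DoubleCoset.mem_doubleCoset]
        refine ⟨s1 hK * b * n * (s1 hK * n)⁻¹, Subgroup.mul_mem _ h (Subgroup.inv_mem _ hsn), 1,
          Subgroup.one_mem _, ?_⟩
        group
      · right
        rw [DoubleCoset.mem_doubleCoset]
        refine ⟨b1, hb1, ((s1 hK)⁻¹ * n)⁻¹ * b2,
          Subgroup.mul_mem _ (Subgroup.inv_mem _ hkB) hb2, ?_⟩
        rw [e]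
        group
  · -- conj_ne
    intro s hs heq
    rw [Set.mem_singleton_iff] at hs
    rw [hs] at heq
    obtain ⟨u, hu, hu1⟩ := exists_pos_ne_one hK
    have huB : (⟨u, hu.2⟩ : ↥(twistedG2 K (3 ^ m))) ∈
        (chevG2.borelSubgroup K ⊓ twistedG2 K (3 ^ m)).subgroupOf (twistedG2 K (3 ^ m)) := by
      rw [Subgroup.mem_subgroupOf]
      exact ⟨Subgroup.mem_sup_left hu.1, hu.2⟩
    have hmem : s1 hK * ⟨u, hu.2⟩ * s1 hK ∈
        (((chevG2.borelSubgroup K ⊓ twistedG2 K (3 ^ m)).subgroupOf (twistedG2 K (3 ^ m)) :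
          Subgroup ↥(twistedG2 K (3 ^ m))) : Set ↥(twistedG2 K (3 ^ m))) := by
      rw [← heq]
      exact ⟨⟨u, hu.2⟩, huB, rfl⟩
    rw [SetLike.mem_coe, Subgroup.mem_subgroupOf] at hmem
    have hmem' : n1 hK * u * n1 hK ∈ chevG2.borelSubgroup K := hmem.1
    apply hu1
    apply n1_conj_not_borel hK u hu.1
    have e : n1 hK * u * (n1 hK)⁻¹ = (n1 hK * u * n1 hK) * (n1 hK * n1 hK)⁻¹ := by group
    rw [e]
    exact Subgroup.mul_mem _ hmem' (Subgroup.inv_mem _ (hHB (n1_sq hK)))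

end

end Cfsg.Agent.Lib.Helper5.Ree
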