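import Cfsg.Agent.Lib.Helper5.Ree.Stab
import Cfsg.Agent.Lib.Helper5.Tw.BruhatFix
import Mathlib

/-!
# The canonical form of the elements of `G₂` fixed by the twisting automorphism (helper5)
-/

set_option autoImplicit false

namespace Cfsg.Agent.Lib.Helper5.Ree

open Cfsg.Lie Cfsg.Agent.Lib.Helper5.Chev Cfsg.Agent.Lib.Helper5.GA Cfsg.Agent.Lib.Helper5.Tw
open Cfsg.Agent.Lib.Helper5.Frob
open scoped Matrix

section

variable {K : Type*} [Field K] [Fintype K] [CharP K 3] {m : ℕ}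

theorem hD2 : chevG2 ∈ [chevG2, chevB2, chevD4, chevF4, chevE6, chevE7, chevE8] := by simp

theorem mem_fixR_of_sg_eq (hK : Fintype.card K = 3 ^ (2 * m + 1)) (g : ↥(chevG2.group K))
    (h : ((sg hK g : ↥(chevG2.group K)) : GL chevG2.Idx K) = g) :
    (g : GL chevG2.Idx K) ∈ fixR hK :=
  (mem_fixR hK _).2 ⟨g.2, Subtype.ext h⟩

theorem sg_eq_of_mem_fixR (hK : Fintype.card K = 3 ^ (2 * m + 1)) (g : GL chevG2.Idx K)
    (hg : g ∈ fixR hK) (hG : g ∈ chevG2.group K) : sg hK ⟨g, hG⟩ = ⟨g, hG⟩ := by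
  obtain ⟨_, h⟩ := (mem_fixR hK g).1 hg
  exact h

/-- the factors of a fixed element of `B` are fixed -/
theorem borel_fixR (hK : Fintype.card K = 3 ^ (2 * m + 1)) (b : GL chevG2.Idx K)
    (hb : b ∈ chevG2.borelSubgroup K) (hf : b ∈ fixR hK) :
    ∃ u ∈ chevG2.posUnipotent K, ∃ h ∈ chevG2.diagonalSubgroup K,
      b = u * h ∧ u ∈ fixR hK ∧ h ∈ fixR hK := by
  obtain ⟨u, hu, h, hh, rfl⟩ := borel_eq_mul hD2 b hb
  have huG : u ∈ chevG2.group K := (hadd2 K).posUnipotent_le hu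
  have hhG : h ∈ chevG2.group K := (hadd2 K).diagonal_le hh
  have e := sg_eq_of_mem_fixR hK _ hf (Subgroup.mul_mem _ huG hhG)
  have e1 : (⟨u * h, Subgroup.mul_mem _ huG hhG⟩ : ↥(chevG2.group K)) = ⟨u, huG⟩ * ⟨h, hhG⟩ := rfl
  rw [e1, map_mul] at e
  have e2 : ((sg hK ⟨u, huG⟩ : ↥(chevG2.group K)) : GL chevG2.Idx K)
      * ((sg hK ⟨h, hhG⟩ : ↥(chevG2.group K)) : GL chevG2.Idx K) = u * h :=
    congrArg Subtype.val e
  obtain ⟨e3, e4⟩ := borel_mul_unique hD2 _ _ _ _ (sg_pos_mem hK ⟨u, huG⟩ hu) hu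
    (sg_diag_mem hK ⟨h, hhG⟩ hh) hh e2
  exact ⟨u, hu, h, hh, rfl, mem_fixR_of_sg_eq hK ⟨u, huG⟩ e3, mem_fixR_of_sg_eq hK ⟨h, hhG⟩ e4⟩

/-- the canonical form of a fixed element: all three factors are fixed -/
theorem bruhat_fixR (hK : Fintype.card K = 3 ^ (2 * m + 1)) (g : GL chevG2.Idx K)
    (hf : g ∈ fixR hK) :
    ∃ u1 ∈ chevG2.posUnipotent K, ∃ n ∈ chevG2.monomialSubgroup K,
      ∃ u ∈ Subgroup.closure (unegSet K chevG2 n), g = u1 * n * u ∧ u1 ∈ fixR hK ∧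
        n ∈ fixR hK ∧ u ∈ fixR hK := by
  have hg : g ∈ chevG2.group K := fixR_le_group hK hf
  have hUB : chevG2.posUnipotent K ≤ chevG2.borelSubgroup K := le_sup_left
  have hHN : chevG2.diagonalSubgroup K ≤ chevG2.monomialSubgroup K := le_sup_left
  obtain ⟨b, hb, n0, hn0, u, hu, rfl⟩ := bruhat_exists_all chevG2 hD2 g hg
  obtain ⟨u1, hu1, h, hh, rfl⟩ := borel_eq_mul hD2 b hb
  have hn : h * n0 ∈ chevG2.monomialSubgroup K := Subgroup.mul_mem _ (hHN hh) hn0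
  have hu' : u ∈ Subgroup.closure (unegSet K chevG2 (h * n0)) :=
    Subgroup.closure_mono (unegSet_diag_mul hD2 n0 h hh) hu
  have e0 : u1 * h * n0 * u = u1 * (h * n0) * u := by group
  rw [e0] at hf ⊢
  have hu1G : u1 ∈ chevG2.group K := (hadd2 K).posUnipotent_le hu1
  have hnG : h * n0 ∈ chevG2.group K := (hadd2 K).monomial_le hn
  have huG : u ∈ chevG2.group K := (hadd2 K).posUnipotent_le (uneg_le_pos chevG2 _ hu')
  have hall : u1 * (h * n0) * u ∈ chevG2.group K :=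
    Subgroup.mul_mem _ (Subgroup.mul_mem _ hu1G hnG) huG
  have e := sg_eq_of_mem_fixR hK _ hf hall
  have e1 : (⟨u1 * (h * n0) * u, hall⟩ : ↥(chevG2.group K))
      = ⟨u1, hu1G⟩ * ⟨h * n0, hnG⟩ * ⟨u, huG⟩ := rfl
  rw [e1, map_mul, map_mul] at e
  have e2 : ((sg hK ⟨u1, hu1G⟩ : ↥(chevG2.group K)) : GL chevG2.Idx K)
      * ((sg hK ⟨h * n0, hnG⟩ : ↥(chevG2.group K)) : GL chevG2.Idx K)
      * ((sg hK ⟨u, huG⟩ : ↥(chevG2.group K)) : GL chevG2.Idx K) = u1 * (h * n0) * u :=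
    congrArg Subtype.val e
  have hs1 := sg_pos_mem hK ⟨u1, hu1G⟩ hu1
  have hs2 := sg_mono_mem hK ⟨h * n0, hnG⟩ hn
  have hs3 := sg_uneg_mem hK ⟨h * n0, hnG⟩ ⟨u, huG⟩ hu'
  have hnn := bruhat_sharp_unique chevG2 hD2 _ _ _ _ _ _ hs1 hu1 hs2 hn hs3 hu' e2
  have huu := (bruhat_unique_all chevG2 hD2 _ _ _ _ _ _ (hUB hs1) (hUB hu1) hs2 hn hs3 hu' e2).2 hnn
  exact ⟨u1, hu1, h * n0, hn, u, hu', rfl, mem_fixR_of_sg_eq hK ⟨u1, hu1G⟩ huu.1,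
    mem_fixR_of_sg_eq hK ⟨_, hnG⟩ hnn, mem_fixR_of_sg_eq hK ⟨u, huG⟩ huu.2⟩

end

end Cfsg.Agent.Lib.Helper5.Ree
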