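import Cfsg.Agent.Lib.Helper5.Ree.ULaw
import Mathlib

/-!
# The small Ree groups over fields with more than three elements are perfect (helper5)
-/

set_option autoImplicit false

namespace Cfsg.Agent.Lib.Helper5.Ree

open Cfsg.Lie Cfsg.Agent.Lib.Helper5.Chev Cfsg.Agent.Lib.Helper5.GA Cfsg.Agent.Lib.Helper5.Tw
open Cfsg.Agent.Lib.Helper5.Frob
open scoped Matrix
open scoped commutatorElement

section

variable {K : Type*} [Field K] [Fintype K] [CharP K 3] {m : ℕ}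

omit [Fintype K] in
/-- the characters of an element of `H¹` on the roots `b`, `3a+b`, `3a+2b` -/
theorem tauT_char (μ : Kˣ) : ∃ χ : ℕ → Kˣ,
    (∀ s < chevG2.nroots, ∀ u : K, tauT K m μ * (hadd2 K).xU s u * (tauT K m μ)⁻¹
      = (hadd2 K).xU s ((χ s : K) * u)) ∧
    χ 6 = (Units.map (ph1 K m : K →* K) μ) ^ (-3 : ℤ) * μ ^ (2 : ℤ) ∧
    χ 10 = (Units.map (ph1 K m : K →* K) μ) ^ (3 : ℤ) * μ ^ (-1 : ℤ) ∧
    χ 11 = μ := by
  obtain ⟨χ, h1, h2⟩ := diag_conj_char chevG2 hD2 (tauT K m μ) (tauT_mem_diag μ)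
  have key : ∀ (v : ℕ) (hv : v < chevG2.nroots), χ v
      = zact (cartanM chevG2)
        (Pi.mulSingle j0 (Units.map (ph1 K m : K →* K) μ) * Pi.mulSingle j1 μ) ⟨v, hv⟩ := by
    intro v hv
    rw [tauT_apply, hU_apply, diagU_val] at h1
    unfold ChevalleyDatum.charDiag at h1
    have h3 := Matrix.diagonal_injective h1
    have h4 := congrFun h3 (Sum.inr ⟨v, hv⟩)
    simp only [Sum.elim_inr] at h4
    exact Units.ext h4.symm
  have c0 : (Pi.mulSingle j0 (Units.map (ph1 K m : K →* K) μ) * Pi.mulSingle j1 μ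
      : Fin chevG2.rank → Kˣ) j0 = Units.map (ph1 K m : K →* K) μ := by
    rw [Pi.mul_apply, Pi.mulSingle_eq_same, Pi.mulSingle_eq_of_ne (by decide), mul_one]
  have c1 : (Pi.mulSingle j0 (Units.map (ph1 K m : K →* K) μ) * Pi.mulSingle j1 μ
      : Fin chevG2.rank → Kˣ) j1 = μ := by
    rw [Pi.mul_apply, Pi.mulSingle_eq_same, Pi.mulSingle_eq_of_ne (by decide), one_mul]
  refine ⟨χ, h2, ?_, ?_, ?_⟩
  · rw [key 6 (by decide), zact_apply, prod_I2, c0, c1]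
    have a0 : cartanM chevG2 j0 ⟨6, by decide⟩ = -3 := by decide
    have a1 : cartanM chevG2 j1 ⟨6, by decide⟩ = 2 := by decide
    rw [a0, a1]
  · rw [key 10 (by decide), zact_apply, prod_I2, c0, c1]
    have a0 : cartanM chevG2 j0 ⟨10, by decide⟩ = 3 := by decide
    have a1 : cartanM chevG2 j1 ⟨10, by decide⟩ = -1 := by decide
    rw [a0, a1]
  · rw [key 11 (by decide), zact_apply, prod_I2, c0, c1]
    have a0 : cartanM chevG2 j0 ⟨11, by decide⟩ = 0 := by decide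
    have a1 : cartanM chevG2 j1 ⟨11, by decide⟩ = 1 := by decide
    rw [a0, a1, zpow_zero, one_mul, zpow_one]

theorem tauT_fix (hK : Fintype.card K = 3 ^ (2 * m + 1)) (μ : Kˣ) : tauT K m μ ∈ fixR hK :=
  ((diag_fixed_iff hK _).2 ⟨μ, rfl⟩).2

omit [Fintype K] in
theorem rw_lt (t u v : K) : ∀ p ∈ (posSide (hadd2 K)).rw m t u v, p.1 < chevG2.nroots := by
  intro p hp
  have h1 : p.1 ∈ ((posSide (hadd2 K)).rw m t u v).map Prod.fst := List.mem_map_of_mem hp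
  have h2 : ((posSide (hadd2 K)).rw m t u v).map Prod.fst = [7, 6, 8, 9, 10, 11] := rfl
  rw [h2] at h1
  simp only [List.mem_cons, List.not_mem_nil, or_false] at h1
  have : chevG2.nroots = 12 := rfl
  omega

/-- the action of `H¹` on `U¹` -/
theorem tauT_conj_uu (hK : Fintype.card K = 3 ^ (2 * m + 1)) (μ : Kˣ) (χ : ℕ → Kˣ)
    (h2 : ∀ s < chevG2.nroots, ∀ u : K, tauT K m μ * (hadd2 K).xU s u * (tauT K m μ)⁻¹
      = (hadd2 K).xU s ((χ s : K) * u)) (t u v : K) :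
    tauT K m μ * uu K m t u v * (tauT K m μ)⁻¹
      = uu K m ((χ 6 : K) * t) ((χ 10 : K) * u) ((χ 11 : K) * v) := by
  have hU : tauT K m μ * uu K m t u v * (tauT K m μ)⁻¹ ∈ chevG2.posUnipotent K :=
    (Subgroup.mem_normalizer_iff.1
      ((borel_semidirect_all chevG2 hD2).1 (tauT_mem_diag μ)) _).1 (uu_mem_pos t u v)
  have hf : tauT K m μ * uu K m t u v * (tauT K m μ)⁻¹ ∈ fixR hK :=
    Subgroup.mul_mem _ (Subgroup.mul_mem _ (tauT_fix hK μ) (uu_mem_fix hK t u v))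
      (Subgroup.inv_mem _ (tauT_fix hK μ))
  obtain ⟨t', u', v', e⟩ := pos_fixed' hK _ hU hf
  have e2 : tauT K m μ * uu K m t u v * (tauT K m μ)⁻¹
      = (hadd2 K).wordU (((posSide (hadd2 K)).rw m t u v).map fun p => (p.1, (χ p.1 : K) * p.2)) :=
    diag_conj_word _ χ h2 _ (rw_lt t u v)
  have e3 : (hadd2 K).wordU ((posSide (hadd2 K)).rw m t' u' v')
      = (hadd2 K).wordU ((posSide (hadd2 K)).w6 ((χ 7 : K) * ph1 K m t) ((χ 6 : K) * t)
        ((χ 8 : K) * (ph1 K m u + 1 * (ph1 K m t * t)))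
        ((χ 9 : K) * (ph1 K m v + 1 * ((ph1 K m t) ^ 2 * t))) ((χ 10 : K) * u)
        ((χ 11 : K) * v)) := e.symm.trans e2
  unfold Side.rw at e3
  obtain ⟨-, e6, -, -, e10, e11⟩ := w6_injective _ _ _ _ _ _ _ _ _ _ _ _ e3
  rw [e, e6, e10, e11]

/-- `n₁ V n₁⁻¹ ≤ U` -/
theorem n1_conj_neg (hK : Fintype.card K = 3 ^ (2 * m + 1)) (g : GL chevG2.Idx K)
    (hg : g ∈ chevG2.negUnipotent K) : n1 hK * g * (n1 hK)⁻¹ ∈ chevG2.posUnipotent K := by
  have hle : chevG2.negUnipotent K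
      ≤ (chevG2.posUnipotent K).comap (MulAut.conj (n1 hK)).toMonoidHom := by
    unfold ChevalleyDatum.negUnipotent
    rw [Subgroup.closure_le]
    rintro x ⟨r, t, hr, hx⟩
    have hx' : x = (hadd2 K).xU r t := Units.ext hx
    rw [SetLike.mem_coe, Subgroup.mem_comap, hx']
    show n1 hK * (hadd2 K).xU r t * (n1 hK)⁻¹ ∈ _
    obtain ⟨t', e⟩ := conj_word_diag hD2 DataG2.agrees (hadd2 K) BsG2.Bs HsG2.reflBs' Lw0 Lw0_lt
      ((n0 K)⁻¹ * n1 hK) (n0_inv_n1 hK) r hr.1 t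
    have e0 : nWordU DataG2.agrees (hadd2 K) Lw0 * ((n0 K)⁻¹ * n1 hK) = n1 hK := by
      show n0 K * ((n0 K)⁻¹ * n1 hK) = n1 hK
      group
    rw [e0] at e
    rw [e]
    have hlt := wW_lt DataG2.agrees BsG2.Bs HsG2.reflBs' Lw0 Lw0_lt r hr.1
    have h6 := Lw0_neg r ((neg_iff6 r hr.1).1 hr)
    exact Subgroup.subset_closure ⟨_, t', (pos_iff6 _ hlt).2 h6, rfl⟩
  exact hle hg

/-- the derived subgroup of the twisted group, as a subgroup of the general linear group -/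
noncomputable def Cm (K : Type*) [Field K] (m : ℕ) : Subgroup (GL chevG2.Idx K) :=
  (commutator ↥(twistedG2 K (3 ^ m))).map (twistedG2 K (3 ^ m)).subtype

omit [Fintype K] [CharP K 3] in
theorem comm_mem_Cm {a b : GL chevG2.Idx K} (ha : a ∈ twistedG2 K (3 ^ m))
    (hb : b ∈ twistedG2 K (3 ^ m)) : a * b * a⁻¹ * b⁻¹ ∈ Cm K m := by
  refine ⟨⁅(⟨a, ha⟩ : ↥(twistedG2 K (3 ^ m))), ⟨b, hb⟩⁆, ?_, rfl⟩
  exact Subgroup.commutator_mem_commutator (Subgroup.mem_top _) (Subgroup.mem_top _)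

omit [Fintype K] [CharP K 3] in
theorem conj_mem_Cm {g x : GL chevG2.Idx K} (hg : g ∈ twistedG2 K (3 ^ m)) (hx : x ∈ Cm K m) :
    g * x * g⁻¹ ∈ Cm K m := by
  obtain ⟨y, hy, rfl⟩ := hx
  have hn : (commutator ↥(twistedG2 K (3 ^ m))).Normal := inferInstance
  exact ⟨(⟨g, hg⟩ : ↥(twistedG2 K (3 ^ m))) * y * (⟨g, hg⟩ : ↥(twistedG2 K (3 ^ m)))⁻¹,
    hn.conj_mem y hy _, rfl⟩

omit [Fintype K] [CharP K 3] in
theorem perfect_of_le (h : twistedG2 K (3 ^ m) ≤ Cm K m) :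
    commutator ↥(twistedG2 K (3 ^ m)) = ⊤ := by
  rw [eq_top_iff]
  rintro ⟨x, hx⟩ -
  obtain ⟨y, hy, hyx⟩ := h hx
  have : y = ⟨x, hx⟩ := Subtype.ext hyx
  rw [← this]
  exact hy

/-- an element of the torus acting without fixed points on the three layers of `U¹` -/
theorem exists_gen (hK : Fintype.card K = 3 ^ (2 * m + 1)) (hm : 1 ≤ m) :
    ∃ μ : Kˣ, μ ≠ 1 ∧ (Units.map (ph1 K m : K →* K) μ) ^ (-3 : ℤ) * μ ^ (2 : ℤ) ≠ 1 ∧
      (Units.map (ph1 K m : K →* K) μ) ^ (3 : ℤ) * μ ^ (-1 : ℤ) ≠ 1 := by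
  classical
  obtain ⟨μ, hμ⟩ := IsCyclic.exists_ofOrder_eq_natCard (α := Kˣ)
  rw [Nat.card_eq_fintype_card, Fintype.card_units, hK] at hμ
  have hθ : 3 ≤ 3 ^ m := by
    calc 3 = 3 ^ 1 := by norm_num
      _ ≤ 3 ^ m := Nat.pow_le_pow_right (by norm_num) hm
  have hq : 3 ^ (2 * m + 1) = 3 * (3 ^ m) ^ 2 := by
    rw [pow_succ, pow_mul', mul_comm]
  have hph : Units.map (ph1 K m : K →* K) μ = μ ^ (3 ^ m) := by
    apply Units.ext
    rw [Units.coe_map, Units.val_pow_eq_pow_val]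
    exact ph1_apply _
  have hord : ((3 * (3 ^ m) ^ 2 - 1 : ℕ) : ℤ) = 3 * ((3 : ℤ) ^ m) ^ 2 - 1 := by
    have : 1 ≤ 3 * (3 ^ m) ^ 2 := by nlinarith
    push_cast [Nat.cast_sub this]
    ring
  have hθ' : (3 : ℤ) ≤ (3 : ℤ) ^ m := by exact_mod_cast hθ
  refine ⟨μ, ?_, ?_, ?_⟩
  · intro h
    rw [h, orderOf_one, hq] at hμ
    have : 27 ≤ 3 * (3 ^ m) ^ 2 := by nlinarith
    omega
  · intro h
    rw [hph, ← zpow_natCast μ (3 ^ m), ← zpow_mul, ← zpow_add] at h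
    have hdvd := (orderOf_dvd_iff_zpow_eq_one).2 h
    rw [hμ, hq, hord] at hdvd
    have hdvd' : (3 * ((3 : ℤ) ^ m) ^ 2 - 1) ∣ 3 * (3 : ℤ) ^ m - 2 := by
      have := (dvd_neg (a := 3 * ((3 : ℤ) ^ m) ^ 2 - 1)).2 hdvd
      have e : -(((3 ^ m : ℕ) : ℤ) * (-3) + 2) = 3 * (3 : ℤ) ^ m - 2 := by
        push_cast
        ring
      rwa [e] at this
    have hle := Int.le_of_dvd (by nlinarith) hdvd'
    nlinarith
  · intro h
    rw [hph, ← zpow_natCast μ (3 ^ m), ← zpow_mul, ← zpow_add] at h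
    have hdvd := (orderOf_dvd_iff_zpow_eq_one).2 h
    rw [hμ, hq, hord] at hdvd
    have hdvd' : (3 * ((3 : ℤ) ^ m) ^ 2 - 1) ∣ 3 * (3 : ℤ) ^ m - 1 := by
      have e : ((3 ^ m : ℕ) : ℤ) * 3 + -1 = 3 * (3 : ℤ) ^ m - 1 := by
        push_cast
        ring
      rwa [e] at hdvd
    have hle := Int.le_of_dvd (by nlinarith) hdvd'
    nlinarith

/-- the small Ree groups over fields with more than three elements are perfect -/
theorem twisted_perfect (hK : Fintype.card K = 3 ^ (2 * m + 1)) (hm : 1 ≤ m) :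
    commutator ↥(twistedG2 K (3 ^ m)) = ⊤ := by
  obtain ⟨μ, hμ1, hμ6, hμ10⟩ := exists_gen hK hm
  obtain ⟨χ, h2, e6, e10, e11⟩ := tauT_char (m := m) μ
  have hH : tauT K m μ ∈ twistedG2 K (3 ^ m) := tauT_mem hK μ
  have a6 : (χ 6 : K) - 1 ≠ 0 := by
    intro h
    apply hμ6
    rw [← e6]
    apply Units.ext
    rw [Units.val_one]
    exact sub_eq_zero.1 h
  have a10 : (χ 10 : K) - 1 ≠ 0 := by
    intro h
    apply hμ10
    rw [← e10]
    apply Units.ext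
    rw [Units.val_one]
    exact sub_eq_zero.1 h
  have a11 : (χ 11 : K) - 1 ≠ 0 := by
    intro h
    apply hμ1
    rw [← e11]
    apply Units.ext
    rw [Units.val_one]
    exact sub_eq_zero.1 h
  -- the second and third layers
  have hU2 : ∀ u v : K, uu K m 0 u v ∈ Cm K m := by
    intro u v
    have hc := comm_mem_Cm hH (uu_mem_twisted (m := m) 0 (u / ((χ 10 : K) - 1))
      (v / ((χ 11 : K) - 1)))
    rw [tauT_conj_uu hK μ χ h2, uu_zero_inv, mul_zero, uu_zero_mul] at hc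
    have e1 : (χ 10 : K) * (u / ((χ 10 : K) - 1)) + -(u / ((χ 10 : K) - 1)) = u := by
      field_simp
      ring
    have e2 : (χ 11 : K) * (v / ((χ 11 : K) - 1)) + -(v / ((χ 11 : K) - 1)) = v := by
      field_simp
      ring
    rwa [e1, e2] at hc
  -- the first layer
  have hU1 : ∀ s : K, uu K m s 0 0 ∈ Cm K m := by
    intro s
    set t : K := s / ((χ 6 : K) - 1) with ht
    have hc := comm_mem_Cm hH (uu_mem_twisted (m := m) t 0 0)
    rw [tauT_conj_uu hK μ χ h2, mul_zero, mul_zero] at hc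
    obtain ⟨u'', v'', e⟩ := uu_mul hK s 0 0 t 0 0
    have est : s + t = (χ 6 : K) * t := by
      rw [ht]
      field_simp
      ring
    rw [est, uu_split ((χ 6 : K) * t) u'' v''] at e
    have e' : uu K m s 0 0 = (uu K m ((χ 6 : K) * t) 0 0 * (uu K m t 0 0)⁻¹) *
        (uu K m t 0 0 * uu K m 0 u'' v'' * (uu K m t 0 0)⁻¹) := by
      have : uu K m s 0 0 = (uu K m s 0 0 * uu K m t 0 0) * (uu K m t 0 0)⁻¹ := by group
      rw [this, e]
      group
    rw [e']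
    exact Subgroup.mul_mem _ hc (conj_mem_Cm (uu_mem_twisted t 0 0) (hU2 u'' v''))
  have hU : ∀ g ∈ chevG2.posUnipotent K, g ∈ twistedG2 K (3 ^ m) → g ∈ Cm K m := by
    intro g hg hgG
    obtain ⟨t, u, v, rfl⟩ := pos_fixed' hK g hg (twisted_le_fixR hK hgG)
    rw [uu_split]
    exact Subgroup.mul_mem _ (hU1 t) (hU2 u v)
  have hV : ∀ g ∈ chevG2.negUnipotent K, g ∈ twistedG2 K (3 ^ m) → g ∈ Cm K m := by
    intro g hg hgG
    have h1 := hU _ (n1_conj_neg hK g hg)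
      (Subgroup.mul_mem _ (Subgroup.mul_mem _ (n1_twisted hK) hgG)
        (Subgroup.inv_mem _ (n1_twisted hK)))
    have h3 := conj_mem_Cm (Subgroup.inv_mem _ (n1_twisted hK)) h1
    have e : (n1 hK)⁻¹ * (n1 hK * g * (n1 hK)⁻¹) * (n1 hK)⁻¹⁻¹ = g := by group
    rwa [e] at h3
  apply perfect_of_le
  unfold twistedG2 ChevalleyDatum.genSubgroup
  rw [Subgroup.closure_le]
  rintro g ⟨w, ⟨t, u, v, hw | hw⟩, hg⟩
  · have e : g = (hadd2 K).wordU (reeWordU (3 ^ m) t u v) := by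
      apply Units.ext
      rw [hg, hw, (hadd2 K).wordU_val]
    rw [SetLike.mem_coe, e]
    exact hU _ ((pos_twisted_iff hK _).2 ⟨t, u, v, rfl⟩).1 (reeU_mem_twisted _ t u v)
  · have e : g = (hadd2 K).wordU (reeWordV (3 ^ m) t u v) := by
      apply Units.ext
      rw [hg, hw, (hadd2 K).wordU_val]
    rw [SetLike.mem_coe, e]
    exact hV _ (reeV_mem_neg _ t u v) (reeV_mem_twisted _ t u v)

end

end Cfsg.Agent.Lib.Helper5.Ree
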