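import Cfsg.Agent.Lib.Helper5.Ree.BN
import Cfsg.Agent.Lib.Helper5.Ree.Order
import Cfsg.Agent.Lib.Helper5.Ree.Perfect
import Cfsg.Agent.Lib.Helper5.SL2P.PairProd
import Cfsg.Agent.Lib.Helper5.SL2P.ChevPair
import Mathlib

/-!
# The subgroup `PSL₂(q)` of the small Ree group centralising the involution of `H¹` (helper5)

The pair `x(t) = x_{a+b}(t^θ) x_{3a+b}(t)`, `y(t) = x_{-a-b}(t^θ) x_{-3a-b}(t)` defines a
homomorphism from `SL₂(K)` to the twisted group, with kernel `{±1}`, whose image centralises the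
involution `τ(-1)` of `H¹` and does not contain it.
-/

set_option autoImplicit false
set_option maxRecDepth 100000

namespace Cfsg.Agent.Lib.Helper5.Ree

open Cfsg.Lie Cfsg.Agent.Lib.Helper5.Chev Cfsg.Agent.Lib.Helper5.GA Cfsg.Agent.Lib.Helper5.Tw
open Cfsg.Agent.Lib.Helper5.Frob Cfsg.Agent.Lib.Helper5.SL2P

section

variable {K : Type*} [Field K]

/-- the pair of the root `a + b` -/
noncomputable def P8 (K : Type*) [Field K] : Pair K (GL chevG2.Idx K) :=
  chevPair chevG2 hD2 8 (by decide)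

/-- the pair of the root `3a + b` -/
noncomputable def P10 (K : Type*) [Field K] : Pair K (GL chevG2.Idx K) :=
  chevPair chevG2 hD2 10 (by decide)

theorem P8_x (t : K) : (P8 K).x t = (hadd2 K).xU 8 t := rfl

theorem P8_y (t : K) : (P8 K).y t = (hadd2 K).xU 3 t := rfl

theorem P10_x (t : K) : (P10 K).x t = (hadd2 K).xU 10 t := rfl

theorem P10_y (t : K) : (P10 K).y t = (hadd2 K).xU 1 t := rfl

theorem P8_w (t : K) : (P8 K).w t = nUt (hadd2 K) 8 t := rfl

theorem P10_w (t : K) : (P10 K).w t = nUt (hadd2 K) 10 t := rfl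

variable [CharP K 3]

theorem pairComm : PairComm (P8 K) (P10 K) where
  xx a b := (commute_of_check 3 DataG2.agrees (hadd2 K) 10 8 ck_orth.1 b a).symm
  xy a b := (commute_of_check 3 DataG2.agrees (hadd2 K) 1 8 ck_orth.2.2 b a).symm
  yx a b := (commute_of_check 3 DataG2.agrees (hadd2 K) 10 3 ck_orth.2.1 b a).symm
  yy a b := commute_of_check 3 DataG2.agrees (hadd2 K) 3 1 (ck_neg 3 (by simp) 1 (by simp)) a b

/-- the pair of the subgroup `PSL₂(q)` -/
noncomputable def PP (K : Type*) [Field K] [CharP K 3] (m : ℕ) : Pair K (GL chevG2.Idx K) :=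
  (P8 K).prodT (P10 K) (ph1 K m) pairComm

variable {m : ℕ}

theorem PP_x_eq (t : K) : (PP K m).x t = (hadd2 K).xU 8 (ph1 K m t) * (hadd2 K).xU 10 t := rfl

theorem PP_y_eq (t : K) : (PP K m).y t = (hadd2 K).xU 3 (ph1 K m t) * (hadd2 K).xU 1 t := rfl

theorem PP_x (t : K) : (PP K m).x t = uu K m 0 t 0 := by
  unfold uu
  rw [posSide_rw, yU_eq, PP_x_eq]

theorem PP_y (t : K) : (PP K m).y t = (hadd2 K).wordU (reeWordV (3 ^ m) 0 (-t) 0) := by
  rw [yV_eq, map_neg, neg_neg, neg_neg, PP_y_eq]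

theorem PP_x_mem (t : K) : (PP K m).x t ∈ twistedG2 K (3 ^ m) := by
  rw [PP_x]
  exact uu_mem_twisted 0 t 0

theorem PP_y_mem (t : K) : (PP K m).y t ∈ twistedG2 K (3 ^ m) := by
  rw [PP_y]
  exact reeV_mem _ _ _ _

theorem PP_x_pos (t : K) : (PP K m).x t ∈ chevG2.posUnipotent K := by
  rw [PP_x]
  exact uu_mem_pos 0 t 0

theorem PP_y_neg (t : K) : (PP K m).y t ∈ chevG2.negUnipotent K := by
  rw [PP_y_eq]
  exact Subgroup.mul_mem _ (Subgroup.subset_closure ⟨3, _, by decide, rfl⟩)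
    (Subgroup.subset_closure ⟨1, _, by decide, rfl⟩)

theorem PP_w (t : K) : (PP K m).w t = nUt (hadd2 K) 8 (ph1 K m t) * nUt (hadd2 K) 10 t := by
  unfold PP
  rw [Pair.prodT_w, P8_w, P10_w]

theorem PP_w_mem (t : K) : (PP K m).w t ∈ twistedG2 K (3 ^ m) := by
  rw [PP_w]
  exact nn_mem t

theorem nUt_one_mono (r : ℕ) (hr : r < chevG2.nroots) :
    nUt (hadd2 K) r 1 ∈ chevG2.monomialSubgroup K := by
  apply Subgroup.mem_sup_right
  exact Subgroup.subset_closure ⟨r, hr, nUt_val (hadd2 K) r 1⟩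

theorem PP_w_one_mono : (PP K m).w 1 ∈ chevG2.monomialSubgroup K := by
  rw [PP_w, map_one]
  exact Subgroup.mul_mem _ (nUt_one_mono 8 (by decide)) (nUt_one_mono 10 (by decide))

variable [Fintype K]

theorem PP_x_injective (t : K) (h : (PP K m).x t = 1) : t = 0 := by
  rw [PP_x, ← uu_zero_zero (K := K) (m := m)] at h
  exact (uu_injective _ _ _ _ _ _ h).2.1

/-- the element `w` of the pair does not lie in the Borel subgroup -/
theorem PP_w_not_borel : (PP K m).w 1 ∉ chevG2.borelSubgroup K := by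
  intro hB
  have hnorm : chevG2.borelSubgroup K
      ≤ Subgroup.normalizer (chevG2.posUnipotent K : Set (GL chevG2.Idx K)) := by
    apply sup_le
    · exact Subgroup.le_normalizer
    · exact (borel_semidirect_all chevG2 hD2).1
  have h1 := (PP K m).conj_x 1 1 one_ne_zero
  have hU : (PP K m).w 1 * (PP K m).x 1 * ((PP K m).w 1)⁻¹ ∈ chevG2.posUnipotent K :=
    (Subgroup.mem_normalizer_iff.1 (hnorm hB) _).1 (PP_x_pos 1)
  rw [h1] at hU
  have hV := PP_y_neg (K := K) (m := m) (-(1⁻¹ ^ 2) * 1)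
  have hbot : (PP K m).y (-(1⁻¹ ^ 2) * 1)
      ∈ chevG2.borelSubgroup K ⊓ chevG2.negUnipotent K :=
    ⟨Subgroup.mem_sup_left hU, hV⟩
  rw [(borel_inf_neg_all chevG2 hD2).1, Subgroup.mem_bot] at hbot
  rw [hbot] at h1
  have h2 : (PP K m).x 1 = 1 := by
    have e : (PP K m).x 1
        = ((PP K m).w 1)⁻¹ * ((PP K m).w 1 * (PP K m).x 1 * ((PP K m).w 1)⁻¹) * (PP K m).w 1 := by
      group
    rw [e, h1]
    group
  exact one_ne_zero (PP_x_injective 1 h2)

end

end Cfsg.Agent.Lib.Helper5.Ree
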