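import Cfsg.Agent.Lib.Helper5.Ree.ULaw2
import Cfsg.Agent.Lib.Helper5.Ree.Perfect
import Mathlib

/-!
# The small Ree groups are generated by two elements (helper5)

Generators: a generator `h` of the torus `H¹` and `x = U(1,0,0) n₁`.  The subgroup generated
contains `[h', U(1,0,0)]` for a generator `h'` of `H¹`, an element of `U¹` with non-zero first
coordinate; its conjugates under `H¹` and their commutators fill the three layers of `U¹`.
-/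

set_option autoImplicit false

namespace Cfsg.Agent.Lib.Helper5.Ree

open Cfsg.Lie Cfsg.Agent.Lib.Helper5.Chev Cfsg.Agent.Lib.Helper5.GA Cfsg.Agent.Lib.Helper5.Tw
open Cfsg.Agent.Lib.Helper5.Frob

section

variable {K : Type*} [Field K] [Fintype K] [CharP K 3] {m : ℕ}

theorem ph3_ph3 (hK : Fintype.card K = 3 ^ (2 * m + 1)) (x : K) :
    ph3 K m (ph3 K m x) = x ^ 3 := by
  rw [← ph1_pow3 (ph3 K m x), ph1_ph3 hK]

/-- the action of `H¹` on `U¹`, with explicit characters -/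
theorem tauT_conj_uu' (hK : Fintype.card K = 3 ^ (2 * m + 1)) (ν : Kˣ) (t u v : K) :
    tauT K m ν * uu K m t u v * (tauT K m ν)⁻¹
      = uu K m ((ν : K) ^ 2 / ph3 K m ν * t) (ph3 K m ν / ν * u) (ν * v) := by
  obtain ⟨χ, h2, e6, e10, e11⟩ := tauT_char (m := m) ν
  rw [tauT_conj_uu hK ν χ h2]
  have h0 : (ν : K) ≠ 0 := ν.ne_zero
  have hp : ph1 K m (ν : K) ≠ 0 := (map_ne_zero _).2 h0
  have c6 : (χ 6 : K) = (ν : K) ^ 2 / ph3 K m ν := by
    rw [e6, Units.val_mul, Units.val_zpow_eq_zpow_val, Units.val_zpow_eq_zpow_val, Units.coe_map,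
      ← ph1_pow3]
    show (ph1 K m (ν : K)) ^ (-3 : ℤ) * (ν : K) ^ (2 : ℤ) = _
    rw [zpow_neg, div_eq_inv_mul]
    norm_cast
  have c10 : (χ 10 : K) = ph3 K m ν / ν := by
    rw [e10, Units.val_mul, Units.val_zpow_eq_zpow_val, Units.val_zpow_eq_zpow_val, Units.coe_map,
      ← ph1_pow3]
    show (ph1 K m (ν : K)) ^ (3 : ℤ) * (ν : K) ^ (-1 : ℤ) = _
    rw [zpow_neg, zpow_one, div_eq_mul_inv]
    norm_cast
  rw [c6, c10, e11]

theorem solve6 (hK : Fintype.card K = 3 ^ (2 * m + 1)) (s : K) (hs : s ≠ 0) :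
    ∃ ν : Kˣ, (ν : K) ^ 2 / ph3 K m ν = s := by
  have h3 : ph3 K m s ≠ 0 := (map_ne_zero _).2 hs
  refine ⟨Units.mk0 (s ^ 2 * ph3 K m s) (mul_ne_zero (pow_ne_zero 2 hs) h3), ?_⟩
  rw [Units.val_mk0, map_mul, map_pow, ph3_ph3 hK]
  field_simp

theorem solve10 (hK : Fintype.card K = 3 ^ (2 * m + 1)) (a : K) (ha : a ≠ 0) :
    ∃ ν : Kˣ, ph3 K m ν / ν = a ^ 2 := by
  have h3 : ph3 K m a ≠ 0 := (map_ne_zero _).2 ha
  refine ⟨Units.mk0 (a * ph3 K m a) (mul_ne_zero ha h3), ?_⟩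
  rw [Units.val_mk0, map_mul, ph3_ph3 hK]
  field_simp

theorem chi6_ne_one (hK : Fintype.card K = 3 ^ (2 * m + 1)) (ν : Kˣ) (hν : ν ≠ 1) :
    (ν : K) ^ 2 / ph3 K m ν ≠ 1 := by
  intro h
  have h0 : (ν : K) ≠ 0 := ν.ne_zero
  have h3 : ph3 K m (ν : K) ≠ 0 := (map_ne_zero _).2 h0
  have h1 : ph3 K m (ν : K) = (ν : K) ^ 2 := ((div_eq_one_iff_eq h3).1 h).symm
  have h2 : ph3 K m (ph3 K m (ν : K)) = (ν : K) ^ 3 := ph3_ph3 hK _
  rw [h1, map_pow, h1] at h2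
  have h4 : (ν : K) ^ 3 * ((ν : K) - 1) = 0 := by linear_combination h2
  rcases mul_eq_zero.1 h4 with h | h
  · exact h0 (pow_eq_zero_iff (by norm_num) |>.1 h)
  · exact hν (Units.ext (sub_eq_zero.1 h))

theorem exists_ph3_ne (hK : Fintype.card K = 3 ^ (2 * m + 1)) (hm : 1 ≤ m) :
    ∃ s : K, ph3 K m s ≠ s := by
  classical
  by_contra hall
  push Not at hall
  obtain ⟨μ, hμ⟩ := IsCyclic.exists_ofOrder_eq_natCard (α := Kˣ)
  rw [Nat.card_eq_fintype_card, Fintype.card_units, hK] at hμ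
  have h1 := hall (μ : K)
  rw [ph3_apply] at h1
  have h2 : μ ^ (3 ^ (m + 1)) = μ ^ 1 := by
    apply Units.ext
    rw [Units.val_pow_eq_pow_val, pow_one]
    exact h1
  rw [pow_eq_pow_iff_modEq, hμ] at h2
  have h6 : 1 ≤ 3 ^ (m + 1) := Nat.one_le_pow _ _ (by norm_num)
  have h3 : 3 ^ (2 * m + 1) - 1 ∣ 3 ^ (m + 1) - 1 := (Nat.modEq_iff_dvd' h6).1 h2.symm
  have h7 : 3 ^ 1 ≤ 3 ^ (m + 1) := Nat.pow_le_pow_right (by norm_num) (by omega)
  have h4 := Nat.le_of_dvd (by omega) h3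
  have h5 : 3 ^ (m + 1) < 3 ^ (2 * m + 1) := Nat.pow_lt_pow_right (by norm_num) (by omega)
  omega

omit [CharP K 3] in
theorem sq_add_sq_field (hK : Fintype.card K = 3 ^ (2 * m + 1)) (x : K) :
    ∃ a b : K, a ^ 2 + b ^ 2 = x := by
  classical
  have hodd : Fintype.card K % 2 = 1 := by
    rw [hK]
    exact Nat.odd_iff.1 (Odd.pow (by decide))
  obtain ⟨a, b, hab⟩ := FiniteField.exists_root_sum_quadratic (R := K) (f := Polynomial.X ^ 2)
    (g := Polynomial.X ^ 2 - Polynomial.C x) (Polynomial.degree_X_pow 2)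
    (Polynomial.degree_X_pow_sub_C (by decide) _) hodd
  refine ⟨a, b, ?_⟩
  rw [← sub_eq_zero]
  simpa only [Polynomial.eval_C, Polynomial.eval_X, Polynomial.eval_pow, Polynomial.eval_sub,
    ← add_sub_assoc] using hab

/-- a subgroup containing `H¹` and an element of `U¹` with non-zero first coordinate contains
`U¹` -/
theorem fill_U (hK : Fintype.card K = 3 ^ (2 * m + 1)) (hm : 1 ≤ m)
    (S : Subgroup (GL chevG2.Idx K)) (hT : ∀ ν : Kˣ, tauT K m ν ∈ S) (a b c : K) (ha : a ≠ 0)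
    (hw : uu K m a b c ∈ S) : ∀ t u v : K, uu K m t u v ∈ S := by
  -- the first layer
  have step5 : ∀ s : K, ∃ u v : K, uu K m s u v ∈ S := by
    intro s
    by_cases hs : s = 0
    · refine ⟨0, 0, ?_⟩
      rw [hs, uu_zero_zero]
      exact S.one_mem
    · obtain ⟨ν, hν⟩ := solve6 hK (s / a) (div_ne_zero hs ha)
      have h := S.mul_mem (S.mul_mem (hT ν) hw) (S.inv_mem (hT ν))
      rw [tauT_conj_uu' hK, hν, div_mul_cancel₀ _ ha] at h
      exact ⟨_, _, h⟩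
  -- an element of the second layer
  have step6 : ∃ c2 c3 : K, c2 ≠ 0 ∧ uu K m 0 c2 c3 ∈ S := by
    obtain ⟨s0, hs0⟩ := exists_ph3_ne hK hm
    obtain ⟨p, r, h1⟩ := step5 1
    obtain ⟨p', r', h2⟩ := step5 s0
    obtain ⟨V1, hV1⟩ : ∃ V1 : K, uu K m 1 p r * uu K m s0 p' r'
        = uu K m (1 + s0) (p + p' - ph3 K m s0 * 1) V1 := ⟨_, uu_mul_full hK 1 p r s0 p' r'⟩
    obtain ⟨V2, hV2⟩ : ∃ V2 : K, uu K m s0 p' r' * uu K m 1 p r
        = uu K m (s0 + 1) (p' + p - ph3 K m 1 * s0) V2 := ⟨_, uu_mul_full hK s0 p' r' 1 p r⟩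
    have e3 : uu K m (s0 + 1) (p' + p - ph3 K m 1 * s0) V2 * uu K m 0 (s0 - ph3 K m s0) (V1 - V2)
        = uu K m (1 + s0) (p + p' - ph3 K m s0 * 1) V1 := by
      rw [uu_mul_zero hK, map_one]
      congr 1 <;> ring
    rw [← hV2, ← hV1] at e3
    refine ⟨s0 - ph3 K m s0, V1 - V2, ?_, ?_⟩
    · intro h
      exact hs0 (sub_eq_zero.1 h).symm
    · rw [eq_inv_mul_of_mul_eq e3]
      exact S.mul_mem (S.inv_mem (S.mul_mem h2 h1)) (S.mul_mem h1 h2)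
  -- the second layer
  have step7 : ∀ s : K, ∃ v : K, uu K m 0 s v ∈ S := by
    obtain ⟨c2, c3, hc2, hc⟩ := step6
    have hsq : ∀ x : K, ∃ v : K, uu K m 0 (x ^ 2 * c2) v ∈ S := by
      intro x
      by_cases hx : x = 0
      · refine ⟨0, ?_⟩
        rw [hx]
        have : (0 : K) ^ 2 * c2 = 0 := by ring
        rw [this, uu_zero_zero]
        exact S.one_mem
      · obtain ⟨ν, hν⟩ := solve10 hK x hx
        have h := S.mul_mem (S.mul_mem (hT ν) hc) (S.inv_mem (hT ν))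
        rw [tauT_conj_uu' hK, hν, mul_zero] at h
        exact ⟨_, h⟩
    intro s
    obtain ⟨x, y, hxy⟩ := sq_add_sq_field hK (s / c2)
    obtain ⟨v1, h1⟩ := hsq x
    obtain ⟨v2, h2⟩ := hsq y
    have h := S.mul_mem h1 h2
    rw [uu_zero_mul] at h
    have e : x ^ 2 * c2 + y ^ 2 * c2 = s := by
      rw [← add_mul, hxy, div_mul_cancel₀ _ hc2]
    rw [e] at h
    exact ⟨_, h⟩
  -- the third layer
  have step8 : ∀ v : K, uu K m 0 0 v ∈ S := by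
    intro v
    obtain ⟨p, r, h1⟩ := step5 1
    obtain ⟨r', h2⟩ := step7 v
    have e1 : uu K m 1 p r * uu K m 0 v r' = uu K m 1 (p + v) (r + r') := uu_mul_zero hK _ _ _ _ _
    have e2 : uu K m 0 v r' * uu K m 1 p r = uu K m 1 (v + p) (r' + r - 1 * v) :=
      uu_zero_mul' hK _ _ _ _ _
    have e3 : uu K m 1 (v + p) (r' + r - 1 * v) * uu K m 0 0 v = uu K m 1 (p + v) (r + r') := by
      rw [uu_mul_zero hK]
      congr 1 <;> ring
    rw [← e1, ← e2] at e3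
    rw [eq_inv_mul_of_mul_eq e3]
    exact S.mul_mem (S.inv_mem (S.mul_mem h2 h1)) (S.mul_mem h1 h2)
  have step9 : ∀ u v : K, uu K m 0 u v ∈ S := by
    intro u v
    obtain ⟨r', h⟩ := step7 u
    have e : uu K m 0 u v = uu K m 0 u r' * uu K m 0 0 (v - r') := by
      rw [uu_zero_mul]
      congr 1 <;> ring
    rw [e]
    exact S.mul_mem h (step8 _)
  intro t u v
  obtain ⟨p, r, h⟩ := step5 t
  have e : uu K m t u v = uu K m t p r * uu K m 0 (u - p) (v - r) := by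
    rw [uu_mul_zero hK]
    congr 1 <;> ring
  rw [e]
  exact S.mul_mem h (step9 _ _)

/-- the small Ree groups over fields with more than three elements are generated by two
elements -/
theorem twisted_two_gen (hK : Fintype.card K = 3 ^ (2 * m + 1)) (hm : 1 ≤ m) :
    ∃ a b : GL chevG2.Idx K, a ∈ twistedG2 K (3 ^ m) ∧ b ∈ twistedG2 K (3 ^ m) ∧
      twistedG2 K (3 ^ m) ≤ Subgroup.closure {a, b} := by
  classical
  obtain ⟨μ, hμ⟩ := IsCyclic.exists_generator (α := Kˣ)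
  refine ⟨tauT K m μ, uu K m 1 0 0 * n1 hK, tauT_mem hK μ,
    Subgroup.mul_mem _ (uu_mem_twisted 1 0 0) (n1_twisted hK), ?_⟩
  set S : Subgroup (GL chevG2.Idx K) := Subgroup.closure {tauT K m μ, uu K m 1 0 0 * n1 hK}
    with hS
  have hh : tauT K m μ ∈ S := Subgroup.subset_closure (Set.mem_insert _ _)
  have hx : uu K m 1 0 0 * n1 hK ∈ S :=
    Subgroup.subset_closure (Set.mem_insert_of_mem _ (Set.mem_singleton _))
  have hT : ∀ ν : Kˣ, tauT K m ν ∈ S := by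
    intro ν
    obtain ⟨k, rfl⟩ := Subgroup.mem_zpowers_iff.1 (hμ ν)
    rw [map_zpow]
    exact S.zpow_mem hh k
  -- `μ ≠ 1`
  have hμ1 : μ ≠ 1 := by
    intro h
    have hall : ∀ ν : Kˣ, ν = 1 := by
      intro ν
      obtain ⟨k, rfl⟩ := Subgroup.mem_zpowers_iff.1 (hμ ν)
      rw [h, one_zpow]
    have h2 : ((2 : ℕ) : K) ≠ 0 := by
      rw [Ne, CharP.cast_eq_zero_iff K 3]
      norm_num
    have h3 := congrArg Units.val (hall (Units.mk0 (-1 : K) (by simp)))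
    rw [Units.val_mk0, Units.val_one] at h3
    apply h2
    push_cast
    linear_combination -h3
  -- the conjugate of the torus generator
  have hd := (mono_conj_diag (n1 hK) (tauT K m μ) (n1_mono hK) (tauT_mem_diag μ)).1
  have hf : n1 hK * tauT K m μ * (n1 hK)⁻¹ ∈ fixR hK :=
    Subgroup.mul_mem _ (Subgroup.mul_mem _ (n1_fix hK) (tauT_fix hK μ))
      (Subgroup.inv_mem _ (n1_fix hK))
  obtain ⟨μ', hμ'⟩ := (diag_fixed_iff hK _).1 ⟨hd, hf⟩
  have hμ'1 : μ' ≠ 1 := by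
    intro h
    rw [h, map_one] at hμ'
    apply hμ1
    apply tauT_injective (K := K) (m := m)
    rw [map_one]
    have : tauT K m μ = (n1 hK)⁻¹ * (n1 hK * tauT K m μ * (n1 hK)⁻¹) * n1 hK := by group
    rw [this, ← hμ']
    group
  have hν0 : μ'⁻¹ ≠ 1 := fun h => hμ'1 (inv_eq_one.1 h)
  -- the commutator
  have hw : tauT K m μ'⁻¹ * uu K m 1 0 0 * (tauT K m μ'⁻¹)⁻¹ * (uu K m 1 0 0)⁻¹ ∈ S := by
    have e : tauT K m μ'⁻¹ * uu K m 1 0 0 * (tauT K m μ'⁻¹)⁻¹ * (uu K m 1 0 0)⁻¹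
        = (tauT K m μ')⁻¹ * ((uu K m 1 0 0 * n1 hK) * tauT K m μ * (uu K m 1 0 0 * n1 hK)⁻¹) := by
      rw [map_inv, hμ']
      group
    rw [e]
    exact S.mul_mem (S.inv_mem (hT μ')) (S.mul_mem (S.mul_mem hx hh) (S.inv_mem hx))
  rw [tauT_conj_uu' hK] at hw
  have hwU : uu K m (((μ'⁻¹ : Kˣ) : K) ^ 2 / ph3 K m ((μ'⁻¹ : Kˣ) : K) * 1)
      (ph3 K m ((μ'⁻¹ : Kˣ) : K) / ((μ'⁻¹ : Kˣ) : K) * 0) (((μ'⁻¹ : Kˣ) : K) * 0)
      * (uu K m 1 0 0)⁻¹ ∈ chevG2.posUnipotent K :=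
    Subgroup.mul_mem _ (uu_mem_pos _ _ _) (Subgroup.inv_mem _ (uu_mem_pos _ _ _))
  have hwf : uu K m (((μ'⁻¹ : Kˣ) : K) ^ 2 / ph3 K m ((μ'⁻¹ : Kˣ) : K) * 1)
      (ph3 K m ((μ'⁻¹ : Kˣ) : K) / ((μ'⁻¹ : Kˣ) : K) * 0) (((μ'⁻¹ : Kˣ) : K) * 0)
      * (uu K m 1 0 0)⁻¹ ∈ fixR hK :=
    Subgroup.mul_mem _ (uu_mem_fix hK _ _ _) (Subgroup.inv_mem _ (uu_mem_fix hK _ _ _))
  obtain ⟨a, b, c, e⟩ := pos_fixed' hK _ hwU hwf
  rw [e] at hw
  have ha : a ≠ 0 := by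
    have e2 := mul_inv_eq_iff_eq_mul.1 e
    rw [uu_mul_full hK] at e2
    obtain ⟨e6, -, -⟩ := uu_injective _ _ _ _ _ _ e2
    intro ha0
    rw [ha0, zero_add, mul_one] at e6
    exact chi6_ne_one hK _ hν0 e6
  have hU := fill_U hK hm S hT a b c ha hw
  have hn : n1 hK ∈ S := by
    have : n1 hK = (uu K m 1 0 0)⁻¹ * (uu K m 1 0 0 * n1 hK) := by group
    rw [this]
    exact S.mul_mem (S.inv_mem (hU 1 0 0)) hx
  have hU' : ∀ u ∈ chevG2.posUnipotent K ⊓ twistedG2 K (3 ^ m), u ∈ S := by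
    rintro u ⟨hu1, hu2⟩
    obtain ⟨t, u', v, rfl⟩ := pos_fixed' hK u hu1 (twisted_le_fixR hK hu2)
    exact hU _ _ _
  have hH' : ∀ h ∈ chevG2.diagonalSubgroup K ⊓ twistedG2 K (3 ^ m), h ∈ S := by
    rintro h ⟨hh1, hh2⟩
    obtain ⟨ν, rfl⟩ := (diag_fixed_iff hK h).1 ⟨hh1, twisted_le_fixR hK hh2⟩
    exact hT ν
  intro g hg
  rcases twisted_cases hK g hg with ⟨u, hu, h, hh', rfl⟩ | ⟨u, hu, h, hh', u', hu', rfl⟩
  · exact S.mul_mem (hU' u hu) (hH' h hh')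
  · exact S.mul_mem (S.mul_mem (S.mul_mem (hU' u hu) hn) (hH' h hh')) (hU' u' hu')

end

end Cfsg.Agent.Lib.Helper5.Ree
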