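import Cfsg.Agent.Lib.Helper5.Ree.Cent
import Cfsg.Agent.Lib.Helper5.Ree.Gen2
import Mathlib

/-!
# The homomorphism from `SL₂(q)` to the small Ree group (helper5)

The pair of `Cent.lean` defines a homomorphism `SL₂(K) →* G¹` whose kernel is `{±1}`.
-/

set_option autoImplicit false
set_option maxRecDepth 100000

namespace Cfsg.Agent.Lib.Helper5.Ree

open Cfsg.Lie Cfsg.Agent.Lib.Helper5.Chev Cfsg.Agent.Lib.Helper5.GA Cfsg.Agent.Lib.Helper5.Tw
open Cfsg.Agent.Lib.Helper5.Frob Cfsg.Agent.Lib.Helper5.SL2P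

section

variable {K : Type*} [Field K] [Fintype K] [CharP K 3] {m : ℕ}

/-- the homomorphism from `SL₂(K)` defined by the pair `PP` -/
noncomputable def phiL (K : Type*) [Field K] [CharP K 3] (m : ℕ) :
    Matrix.SpecialLinearGroup (Fin 2) K →* GL chevG2.Idx K :=
  Classical.choose (Pair.exists_hom (PP K m))

omit [Fintype K] in
theorem phiL_range : (phiL K m).range
    = Subgroup.closure (Set.range (PP K m).x ∪ Set.range (PP K m).y) :=
  (Classical.choose_spec (Pair.exists_hom (PP K m))).1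

omit [Fintype K] in
theorem phiL_sx (t : K) : phiL K m (sx K t) = (PP K m).x t :=
  (Classical.choose_spec (Pair.exists_hom (PP K m))).2.1 t

omit [Fintype K] in
theorem phiL_sy (t : K) : phiL K m (sy K t) = (PP K m).y t :=
  (Classical.choose_spec (Pair.exists_hom (PP K m))).2.2 t

theorem phiL_mem (g : Matrix.SpecialLinearGroup (Fin 2) K) :
    phiL K m g ∈ twistedG2 K (3 ^ m) := by
  have h : (phiL K m).range ≤ twistedG2 K (3 ^ m) := by
    rw [phiL_range, Subgroup.closure_le]
    rintro _ (⟨t, rfl⟩ | ⟨t, rfl⟩)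
    · exact PP_x_mem t
    · exact PP_y_mem t
  exact h ⟨g, rfl⟩

omit [Fintype K] in
theorem phiL_w (t : K) : phiL K m ((slPair K).w t) = (PP K m).w t := by
  unfold Pair.w
  rw [map_mul, map_mul, slPair_x, slPair_y, phiL_sx, phiL_sy]

omit [Fintype K] in
theorem phiL_h (t : K) : phiL K m ((slPair K).h t) = (PP K m).h t := by
  unfold Pair.h
  rw [map_mul, phiL_w, phiL_w]

/-- the diagonal elements of the pair, in the parametrisation of `H¹` -/
theorem PP_h (hK : Fintype.card K = 3 ^ (2 * m + 1)) (t : Kˣ) :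
    (PP K m).h (t : K) = tauT K m (muU K m t) := by
  unfold PP
  rw [Pair.prodT_h, tauT_muU hK]
  rfl

theorem PP_h' (hK : Fintype.card K = 3 ^ (2 * m + 1)) (t : K) (ht : t ≠ 0) :
    (PP K m).h t = tauT K m (muU K m (Units.mk0 t ht)) := by
  have := PP_h hK (Units.mk0 t ht)
  rw [Units.val_mk0] at this
  exact this

theorem PP_B_borel (hK : Fintype.card K = 3 ^ (2 * m + 1)) {b : GL chevG2.Idx K}
    (hb : b ∈ (PP K m).B) : b ∈ chevG2.borelSubgroup K := by
  obtain ⟨u, t, ht, rfl⟩ := hb
  rw [PP_h' hK t ht]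
  exact Subgroup.mul_mem _ (Subgroup.mem_sup_left (PP_x_pos u))
    (Subgroup.mem_sup_right (tauT_mem_diag _))

/-- `u^(3θ+1) = 1` only for `u = ±1` -/
theorem muU_eq_one (hK : Fintype.card K = 3 ^ (2 * m + 1)) (t : Kˣ) (h : muU K m t = 1) :
    t = 1 ∨ t = -1 := by
  have h1 : ph3 K m (t : K) * (t : K) = 1 := congrArg Units.val h
  have h0 : (t : K) ≠ 0 := t.ne_zero
  have h3 : ph3 K m (t : K) ≠ 0 := (map_ne_zero _).2 h0
  have h2 : (t : K) ^ 3 * ph3 K m (t : K) = 1 := by
    rw [← ph3_ph3 hK, ← map_mul, h1, map_one]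
  have h4 : ((t : K) - 1) * ((t : K) + 1) = 0 := by
    have : ph3 K m (t : K) * (t : K) * (((t : K) - 1) * ((t : K) + 1)) = 0 := by
      linear_combination h2 - h1
    rcases mul_eq_zero.1 this with h | h
    · exact absurd h (mul_ne_zero h3 h0)
    · exact h
  rcases mul_eq_zero.1 h4 with h | h
  · left
    exact Units.ext (sub_eq_zero.1 h)
  · right
    apply Units.ext
    rw [Units.val_neg, Units.val_one]
    linear_combination h

omit [Fintype K] in
theorem muU_neg_one : muU K m (-1) = 1 := by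
  apply Units.ext
  show ph3 K m ((-1 : Kˣ) : K) * ((-1 : Kˣ) : K) = 1
  rw [Units.val_neg, Units.val_one, map_neg, map_one]
  ring

omit [Fintype K] [CharP K 3] in
theorem slPair_h_one : (slPair K).h 1 = 1 := (slPair K).h_one

omit [Fintype K] [CharP K 3] in
theorem slPair_h_neg_one : (slPair K).h (-1) = -1 := by
  apply Subtype.ext
  rw [slPair_h_val (-1) (by norm_num)]
  ext i j
  fin_cases i <;> fin_cases j <;> simp

/-- `-1` lies in the kernel -/
theorem phiL_neg_one (hK : Fintype.card K = 3 ^ (2 * m + 1)) : phiL K m (-1) = 1 := by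
  rw [← slPair_h_neg_one, phiL_h]
  have := PP_h hK (-1 : Kˣ)
  rw [Units.val_neg, Units.val_one] at this
  rw [this, muU_neg_one, map_one]

/-- the kernel is `{±1}` -/
theorem phiL_ker (hK : Fintype.card K = 3 ^ (2 * m + 1))
    (g : Matrix.SpecialLinearGroup (Fin 2) K) (hg : phiL K m g = 1) : g = 1 ∨ g = -1 := by
  rcases Pair.hom_cases (PP K m) (phiL K m) phiL_sx phiL_sy g with
    ⟨u, t, ht, e, e'⟩ | ⟨b, hb, b', hb', e⟩
  · rw [hg, PP_h' hK t ht, PP_x] at e'
    have e2 : uu K m 0 u 0 * tauT K m (muU K m (Units.mk0 t ht)) = 1 * 1 := by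
      rw [← e', one_mul]
    obtain ⟨e3, e4⟩ := borel_mul_unique hD2 _ _ _ _ (uu_mem_pos 0 u 0) (Subgroup.one_mem _)
      (tauT_mem_diag _) (Subgroup.one_mem _) e2
    have hu : u = 0 := by
      rw [← uu_zero_zero (K := K) (m := m)] at e3
      exact (uu_injective _ _ _ _ _ _ e3).2.1
    have hμ : muU K m (Units.mk0 t ht) = 1 := by
      apply tauT_injective (K := K) (m := m)
      rw [e4, map_one]
    rcases muU_eq_one hK _ hμ with h | h
    · left
      have ht1 : t = 1 := by
        have := congrArg Units.val h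
        rwa [Units.val_mk0, Units.val_one] at this
      rw [e, hu, ht1, (slPair K).x_zero, slPair_h_one, one_mul]
    · right
      have ht1 : t = -1 := by
        have := congrArg Units.val h
        rwa [Units.val_mk0, Units.val_neg, Units.val_one] at this
      rw [e, hu, ht1, (slPair K).x_zero, slPair_h_neg_one, one_mul]
  · exfalso
    apply PP_w_not_borel (K := K) (m := m)
    rw [hg] at e
    have e2 : (PP K m).w 1 = b⁻¹ * b'⁻¹ := by
      have : b⁻¹ * (b * (PP K m).w 1 * b') * b'⁻¹ = (PP K m).w 1 := by group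
      rw [← this, ← e]
      group
    rw [e2]
    exact Subgroup.mul_mem _ (Subgroup.inv_mem _ (PP_B_borel hK hb))
      (Subgroup.inv_mem _ (PP_B_borel hK hb'))

end

end Cfsg.Agent.Lib.Helper5.Ree
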