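import Cfsg.Agent.Lib.Helper5.Ree.Cent2
import Mathlib

/-!
# The centraliser of the involution of `H¹` in the small Ree group (helper5)

The involution `z = τ(-1)` of `H¹` commutes with the image `L` of `SL₂(K)`, does not lie in it,
and every element of the twisted group commuting with `z` lies in `L ∪ zL`.
-/

set_option autoImplicit false
set_option maxRecDepth 100000

namespace Cfsg.Agent.Lib.Helper5.Ree

open Cfsg.Lie Cfsg.Agent.Lib.Helper5.Chev Cfsg.Agent.Lib.Helper5.GA Cfsg.Agent.Lib.Helper5.Tw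
open Cfsg.Agent.Lib.Helper5.Frob Cfsg.Agent.Lib.Helper5.SL2P

section

variable {K : Type*} [Field K] [Fintype K] [CharP K 3] {m : ℕ}

omit [Fintype K] in
theorem three_eq_zero : (3 : K) = 0 := by
  have := CharP.cast_eq_zero K 3
  exact_mod_cast this

omit [Fintype K] in
theorem one_ne_neg_one3 : (1 : K) ≠ -1 := by
  intro h
  have h3 := three_eq_zero (K := K)
  exact one_ne_zero (α := K) (by linear_combination h3 - h)

/-- the involution of `H¹` -/
noncomputable def zz (K : Type*) [Field K] [CharP K 3] (m : ℕ) : GL chevG2.Idx K :=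
  tauT K m (-1)

omit [Fintype K] in
theorem zz_mul_self : zz K m * zz K m = 1 := by
  unfold zz
  rw [← map_mul, neg_mul_neg, one_mul, map_one]

omit [Fintype K] in
theorem zz_inv : (zz K m)⁻¹ = zz K m := inv_eq_of_mul_eq_one_left zz_mul_self

theorem zz_ne_one : zz K m ≠ 1 := by
  intro h
  have h1 : (-1 : Kˣ) = 1 := tauT_injective (K := K) (m := m) (h.trans (map_one _).symm)
  have h2 : ((-1 : Kˣ) : K) = ((1 : Kˣ) : K) := congrArg Units.val h1
  rw [Units.val_neg, Units.val_one] at h2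
  exact one_ne_neg_one3 h2.symm

omit [Fintype K] in
theorem zz_mem_diag : zz K m ∈ chevG2.diagonalSubgroup K := tauT_mem_diag (-1)

omit [Fintype K] in
theorem zz_mem : zz K m ∈ twistedG2 K (3 ^ m) := tauT_neg_one_mem

theorem zz_conj_uu (hK : Fintype.card K = 3 ^ (2 * m + 1)) (t u v : K) :
    zz K m * uu K m t u v * (zz K m)⁻¹ = uu K m (-t) u (-v) := by
  unfold zz
  rw [tauT_conj_uu' hK]
  have e : ph3 K m ((-1 : Kˣ) : K) = -1 := by
    rw [Units.val_neg, Units.val_one, map_neg, map_one]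
  rw [e, Units.val_neg, Units.val_one]
  have e1 : (-1 : K) ^ 2 / -1 * t = -t := by
    rw [neg_one_sq, div_neg, div_one, neg_one_mul]
  have e2 : (-1 : K) / -1 * u = u := by
    rw [neg_div_neg_eq, div_one, one_mul]
  rw [e1, e2, neg_one_mul]

theorem zz_comm_x (hK : Fintype.card K = 3 ^ (2 * m + 1)) (t : K) :
    Commute (zz K m) ((PP K m).x t) := by
  have h := zz_conj_uu hK 0 t 0
  rw [neg_zero, ← PP_x] at h
  exact mul_inv_eq_iff_eq_mul.1 h

/-- the involution of `H¹` is unique -/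
theorem invol_unique (hK : Fintype.card K = 3 ^ (2 * m + 1)) (h : GL chevG2.Idx K)
    (hh : h ∈ chevG2.diagonalSubgroup K) (hG : h ∈ twistedG2 K (3 ^ m)) (h2 : h * h = 1)
    (h1 : h ≠ 1) : h = zz K m := by
  have hm : h ∈ chevG2.diagonalSubgroup K ⊓ fixR hK := by
    rw [← diag_twisted_eq hK]
    exact ⟨hh, hG⟩
  obtain ⟨μ, rfl⟩ := (diag_fixed_iff hK h).1 hm
  rw [← map_mul] at h2
  have hμ2 : μ * μ = 1 := tauT_injective (K := K) (m := m) (h2.trans (map_one _).symm)
  have hμ1 : μ ≠ 1 := fun e => h1 (by rw [e, map_one])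
  have e : ((μ : K) - 1) * ((μ : K) + 1) = 0 := by
    have := congrArg Units.val hμ2
    rw [Units.val_mul, Units.val_one] at this
    linear_combination this
  rcases mul_eq_zero.1 e with e | e
  · exact absurd (Units.ext (sub_eq_zero.1 e)) hμ1
  · have : μ = -1 := by
      apply Units.ext
      rw [Units.val_neg, Units.val_one]
      linear_combination e
    rw [this]
    rfl

/-- the monomial elements of the twisted group centralise the involution of `H¹` -/
theorem mono_conj_zz (hK : Fintype.card K = 3 ^ (2 * m + 1)) (n : GL chevG2.Idx K)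
    (hn : n ∈ chevG2.monomialSubgroup K) (hG : n ∈ twistedG2 K (3 ^ m)) :
    n * zz K m * n⁻¹ = zz K m := by
  apply invol_unique hK
  · exact (mono_conj_diag n _ hn zz_mem_diag).1
  · exact Subgroup.mul_mem _ (Subgroup.mul_mem _ hG zz_mem) (Subgroup.inv_mem _ hG)
  · have : n * zz K m * n⁻¹ * (n * zz K m * n⁻¹) = n * (zz K m * zz K m) * n⁻¹ := by group
    rw [this, zz_mul_self, mul_one, mul_inv_cancel]
  · intro h
    apply zz_ne_one (K := K) (m := m)
    have : zz K m = n⁻¹ * (n * zz K m * n⁻¹) * n := by group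
    rw [this, h]
    group

theorem zz_comm_w (hK : Fintype.card K = 3 ^ (2 * m + 1)) :
    Commute (zz K m) ((PP K m).w 1) := by
  have h := mono_conj_zz hK _ (PP_w_one_mono (K := K) (m := m)) (PP_w_mem 1)
  exact (mul_inv_eq_iff_eq_mul.1 h).symm

theorem zz_comm_y (hK : Fintype.card K = 3 ^ (2 * m + 1)) (t : K) :
    Commute (zz K m) ((PP K m).y t) := by
  have h := (PP K m).conj_x 1 (-t) one_ne_zero
  have e : -((1 : K)⁻¹ ^ 2) * -t = t := by
    rw [inv_one, one_pow, neg_mul_neg, one_mul]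
  rw [e] at h
  rw [← h]
  exact ((zz_comm_w hK).mul_right (zz_comm_x hK _)).mul_right (zz_comm_w hK).inv_right

/-- the involution of `H¹` centralises the image of `SL₂(K)` -/
theorem zz_comm_phiL (hK : Fintype.card K = 3 ^ (2 * m + 1))
    (g : Matrix.SpecialLinearGroup (Fin 2) K) : Commute (zz K m) (phiL K m g) := by
  have hle : (phiL K m).range ≤ Subgroup.centralizer {zz K m} := by
    rw [phiL_range, Subgroup.closure_le]
    rintro _ (⟨t, rfl⟩ | ⟨t, rfl⟩)
    · rw [SetLike.mem_coe, Subgroup.mem_centralizer_iff]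
      intro h hh
      rw [Set.mem_singleton_iff] at hh
      rw [hh]
      exact zz_comm_x hK t
    · rw [SetLike.mem_coe, Subgroup.mem_centralizer_iff]
      intro h hh
      rw [Set.mem_singleton_iff] at hh
      rw [hh]
      exact zz_comm_y hK t
  have h1 : phiL K m g ∈ Subgroup.centralizer {zz K m} := hle ⟨g, rfl⟩
  rw [Subgroup.mem_centralizer_iff] at h1
  exact h1 _ rfl

/-- the involution of `H¹` does not lie in the image of `SL₂(K)` -/
theorem zz_not_range (hK : Fintype.card K = 3 ^ (2 * m + 1))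
    (g : Matrix.SpecialLinearGroup (Fin 2) K) : phiL K m g ≠ zz K m := by
  intro hg
  rcases Pair.hom_cases (PP K m) (phiL K m) phiL_sx phiL_sy g with
    ⟨u, t, ht, e, e'⟩ | ⟨b, hb, b', hb', e⟩
  · rw [hg, PP_h' hK t ht, PP_x] at e'
    have e2 : uu K m 0 u 0 * tauT K m (muU K m (Units.mk0 t ht)) = 1 * zz K m := by
      rw [← e', one_mul]
    obtain ⟨-, e4⟩ := borel_mul_unique hD2 _ _ _ _ (uu_mem_pos 0 u 0) (Subgroup.one_mem _)
      (tauT_mem_diag _) zz_mem_diag e2
    have hμ : muU K m (Units.mk0 t ht) = -1 := tauT_injective (K := K) (m := m) e4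
    have h1 : ph3 K m ((Units.mk0 t ht : Kˣ) : K) * ((Units.mk0 t ht : Kˣ) : K)
        = ((-1 : Kˣ) : K) := congrArg Units.val hμ
    rw [Units.val_mk0, Units.val_neg, Units.val_one] at h1
    have h3 : ph3 K m t ≠ 0 := (map_ne_zero _).2 ht
    have h2 : t ^ 3 * ph3 K m t = -1 := by
      rw [← ph3_ph3 hK, ← map_mul, h1, map_neg, map_one]
    have h4 : (t - 1) * (t + 1) = 0 := by
      have : ph3 K m t * t * ((t - 1) * (t + 1)) = 0 := by
        linear_combination h2 - h1
      rcases mul_eq_zero.1 this with h | h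
      · exact absurd h (mul_ne_zero h3 ht)
      · exact h
    rcases mul_eq_zero.1 h4 with h | h
    · have ht1 : t = 1 := sub_eq_zero.1 h
      rw [ht1, map_one, one_mul] at h1
      exact one_ne_neg_one3 h1
    · have ht1 : t = -1 := by linear_combination h
      rw [ht1, map_neg, map_one, neg_mul_neg, one_mul] at h1
      exact one_ne_neg_one3 h1
  · apply PP_w_not_borel (K := K) (m := m)
    rw [hg] at e
    have e2 : (PP K m).w 1 = b⁻¹ * zz K m * b'⁻¹ := by
      rw [e]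
      group
    rw [e2]
    exact Subgroup.mul_mem _ (Subgroup.mul_mem _ (Subgroup.inv_mem _ (PP_B_borel hK hb))
      (Subgroup.mem_sup_right zz_mem_diag)) (Subgroup.inv_mem _ (PP_B_borel hK hb'))

/-- the elements of `L ∪ zL` -/
def InZL (K : Type*) [Field K] [CharP K 3] (m : ℕ) (g : GL chevG2.Idx K) : Prop :=
  ∃ s : Matrix.SpecialLinearGroup (Fin 2) K, g = phiL K m s ∨ g = zz K m * phiL K m s

theorem InZL.mul (hK : Fintype.card K = 3 ^ (2 * m + 1)) {g g' : GL chevG2.Idx K}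
    (h : InZL K m g) (h' : InZL K m g') : InZL K m (g * g') := by
  obtain ⟨s, hs⟩ := h
  obtain ⟨s', hs'⟩ := h'
  refine ⟨s * s', ?_⟩
  rcases hs with rfl | rfl <;> rcases hs' with rfl | rfl
  · left
    rw [map_mul]
  · right
    rw [map_mul, ← mul_assoc, ← (zz_comm_phiL hK s).eq, mul_assoc]
  · right
    rw [map_mul, mul_assoc]
  · left
    have hc := (zz_comm_phiL hK s).eq
    calc zz K m * phiL K m s * (zz K m * phiL K m s')
        = zz K m * (phiL K m s * zz K m) * phiL K m s' := by group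
      _ = zz K m * (zz K m * phiL K m s) * phiL K m s' := by rw [hc]
      _ = (zz K m * zz K m) * phiL K m s * phiL K m s' := by group
      _ = phiL K m (s * s') := by rw [zz_mul_self, one_mul, map_mul]

/-- the elements of `U¹` commuting with the involution -/
theorem pos_cent (hK : Fintype.card K = 3 ^ (2 * m + 1)) (u : GL chevG2.Idx K)
    (hu : u ∈ chevG2.posUnipotent K ⊓ twistedG2 K (3 ^ m))
    (hc : zz K m * u * (zz K m)⁻¹ = u) : ∃ t : K, u = (PP K m).x t := by
  obtain ⟨a, b, c, rfl⟩ := pos_fixed' hK u hu.1 (twisted_le_fixR hK hu.2)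
  rw [zz_conj_uu hK] at hc
  obtain ⟨ha, -, hc'⟩ := uu_injective _ _ _ _ _ _ hc
  have h3 := three_eq_zero (K := K)
  have ha0 : a = 0 := by linear_combination a * h3 + ha
  have hc0 : c = 0 := by linear_combination c * h3 + hc'
  exact ⟨b, by rw [ha0, hc0, PP_x]⟩

/-- `H¹` lies in `L ∪ zL` -/
theorem diag_InZL (hK : Fintype.card K = 3 ^ (2 * m + 1)) (h : GL chevG2.Idx K)
    (hh : h ∈ chevG2.diagonalSubgroup K ⊓ twistedG2 K (3 ^ m)) : InZL K m h := by
  rw [diag_twisted_eq hK] at hh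
  obtain ⟨μ, rfl⟩ := (diag_fixed_iff hK h).1 hh
  obtain ⟨y, hy | hy⟩ := exists_pm_sq hK μ
  · refine ⟨(slPair K).h ((Units.map (ph3 K m : K →* K) y * y⁻¹ : Kˣ) : K), Or.inl ?_⟩
    rw [phiL_h, PP_h hK, ← sq_eq_muU hK, hy]
  · refine ⟨(slPair K).h ((Units.map (ph3 K m : K →* K) y * y⁻¹ : Kˣ) : K), Or.inr ?_⟩
    rw [phiL_h, PP_h hK, ← sq_eq_muU hK, hy]
    unfold zz
    rw [← map_mul, neg_one_mul]

/-- `n₁` lies in `L ∪ zL` -/
theorem n1_InZL (hK : Fintype.card K = 3 ^ (2 * m + 1)) : InZL K m (n1 hK) := by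
  have hW : (PP K m).w 1 ∈ chevG2.monomialSubgroup K := PP_w_one_mono
  have hWG := PP_w_mem (K := K) (m := m) 1
  rcases mono_fix_cases' hK _ hW (twisted_le_fixR hK hWG) with h | h
  · exact absurd (Subgroup.mem_sup_right h) (PP_w_not_borel (K := K) (m := m))
  · have hk : (n1 hK)⁻¹ * (PP K m).w 1
        ∈ chevG2.diagonalSubgroup K ⊓ twistedG2 K (3 ^ m) :=
      ⟨h, Subgroup.mul_mem _ (Subgroup.inv_mem _ (n1_twisted hK)) hWG⟩
    have e : n1 hK = (PP K m).w 1 * ((n1 hK)⁻¹ * (PP K m).w 1)⁻¹ := by group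
    rw [e]
    apply InZL.mul hK
    · exact ⟨(slPair K).w 1, Or.inl (phiL_w 1).symm⟩
    · exact diag_InZL hK _ (Subgroup.inv_mem _ hk)

/-- the centraliser of the involution lies in `L ∪ zL` -/
theorem cent_cases (hK : Fintype.card K = 3 ^ (2 * m + 1)) (g : GL chevG2.Idx K)
    (hg : g ∈ twistedG2 K (3 ^ m)) (hc : zz K m * g * (zz K m)⁻¹ = g) : InZL K m g := by
  have hnorm := (borel_semidirect_all (F := K) chevG2 hD2).1 (zz_mem_diag (K := K) (m := m))
  have hconjU : ∀ u ∈ chevG2.posUnipotent K ⊓ twistedG2 K (3 ^ m),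
      zz K m * u * (zz K m)⁻¹ ∈ chevG2.posUnipotent K ⊓ twistedG2 K (3 ^ m) := by
    intro u hu
    exact ⟨(Subgroup.mem_normalizer_iff.1 hnorm _).1 hu.1,
      Subgroup.mul_mem _ (Subgroup.mul_mem _ zz_mem hu.2) (Subgroup.inv_mem _ zz_mem)⟩
  have hdiag : ∀ h ∈ chevG2.diagonalSubgroup K ⊓ twistedG2 K (3 ^ m),
      zz K m * h * (zz K m)⁻¹ = h := by
    intro h hh
    rw [diag_twisted_eq hK] at hh
    obtain ⟨μ, rfl⟩ := (diag_fixed_iff hK h).1 hh
    unfold zz
    rw [← map_inv, ← map_mul, ← map_mul, mul_inv_cancel_comm]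
  rcases twisted_cases hK g hg with ⟨u, hu, h, hh, rfl⟩ | ⟨u, hu, h, hh, u', hu', rfl⟩
  · have e : zz K m * (u * h) * (zz K m)⁻¹
        = (zz K m * u * (zz K m)⁻¹) * (zz K m * h * (zz K m)⁻¹) := by group
    rw [e, hdiag h hh] at hc
    have hu1 := mul_right_cancel hc
    obtain ⟨t, rfl⟩ := pos_cent hK u hu hu1
    exact InZL.mul hK ⟨sx K t, Or.inl (phiL_sx t).symm⟩ (diag_InZL hK h hh)
  · have e : zz K m * (u * n1 hK * h * u') * (zz K m)⁻¹
        = (zz K m * u * (zz K m)⁻¹) * (zz K m * n1 hK * (zz K m)⁻¹)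
          * (zz K m * h * (zz K m)⁻¹) * (zz K m * u' * (zz K m)⁻¹) := by group
    have hn : zz K m * n1 hK * (zz K m)⁻¹ = n1 hK := by
      have h0 := mono_conj_zz hK (n1 hK) (n1_mono hK) (n1_twisted hK)
      have h' : n1 hK * zz K m = zz K m * n1 hK := mul_inv_eq_iff_eq_mul.1 h0
      rw [← h']
      group
    rw [e, hn, hdiag h hh] at hc
    have hinj := (cellMap_bijective hK).1
    have h1 := @hinj
      (Sum.inr (⟨zz K m * u * (zz K m)⁻¹, hconjU u hu⟩, ⟨h, hh⟩,
        ⟨zz K m * u' * (zz K m)⁻¹, hconjU u' hu'⟩))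
      (Sum.inr (⟨u, hu⟩, ⟨h, hh⟩, ⟨u', hu'⟩)) (Subtype.ext hc)
    have h2 := Sum.inr.inj h1
    have hu1 : zz K m * u * (zz K m)⁻¹ = u :=
      congrArg (fun p => (p.1 : GL chevG2.Idx K)) h2
    have hu2 : zz K m * u' * (zz K m)⁻¹ = u' :=
      congrArg (fun p => (p.2.2 : GL chevG2.Idx K)) h2
    obtain ⟨t, rfl⟩ := pos_cent hK u hu hu1
    obtain ⟨t', rfl⟩ := pos_cent hK u' hu' hu2
    exact InZL.mul hK (InZL.mul hK (InZL.mul hK ⟨sx K t, Or.inl (phiL_sx t).symm⟩ (n1_InZL hK))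
      (diag_InZL hK h hh)) ⟨sx K t', Or.inl (phiL_sx t').symm⟩

end

end Cfsg.Agent.Lib.Helper5.Ree
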