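import Mathlib

/-!
# Generic group theory for the centraliser of an involution (helper5)

* a subgroup which is the internal direct product of the images of two homomorphisms;
* the homomorphism from the group of order two defined by an involution;
* an elementary abelian subgroup of order 8 and of odd index: the Sylow 2-subgroups.
-/

set_option autoImplicit false

namespace Cfsg.Agent.Lib.Helper5.Ree

/-- a subgroup which is the internal direct product of the images of two homomorphisms -/
theorem nonempty_equiv_of_hom {G A B : Type*} [Group G] [Group A] [Group B] (C : Subgroup G)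
    (ζ : A →* G) (ψ : B →* G) (comm : ∀ a b, Commute (ζ a) (ψ b))
    (hζ : ∀ a, ζ a ∈ C) (hψ : ∀ b, ψ b ∈ C)
    (hinj : ∀ a b, ζ a * ψ b = 1 → a = 1 ∧ b = 1)
    (hsurj : ∀ c ∈ C, ∃ a b, c = ζ a * ψ b) : Nonempty (↥C ≃* A × B) := by
  let Ψ : A × B →* G := ζ.noncommCoprod ψ comm
  have hΨ : ∀ p, Ψ p ∈ C := fun p => C.mul_mem (hζ _) (hψ _)
  let Ψ' : A × B →* ↥C := Ψ.codRestrict C hΨ
  have h1 : Function.Injective Ψ' := by
    rw [injective_iff_map_eq_one]
    rintro ⟨a, b⟩ h
    have h' : ζ a * ψ b = 1 := congrArg Subtype.val h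
    obtain ⟨rfl, rfl⟩ := hinj a b h'
    rfl
  have h2 : Function.Surjective Ψ' := by
    intro c
    obtain ⟨a, b, e⟩ := hsurj c c.2
    exact ⟨(a, b), Subtype.ext e.symm⟩
  exact ⟨(MulEquiv.ofBijective Ψ' ⟨h1, h2⟩).symm⟩

/-- the homomorphism from the group of order two defined by an involution -/
noncomputable def zetaHom {G : Type*} [Group G] (a : G) (ha : a * a = 1) :
    Multiplicative (ZMod 2) →* G where
  toFun i := a ^ (Multiplicative.toAdd i).val
  map_one' := by
    show a ^ (0 : ZMod 2).val = 1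
    rw [ZMod.val_zero, pow_zero]
  map_mul' i j := by
    show a ^ (Multiplicative.toAdd i + Multiplicative.toAdd j).val
      = a ^ (Multiplicative.toAdd i).val * a ^ (Multiplicative.toAdd j).val
    rw [ZMod.val_add, ← pow_add]
    exact (pow_eq_pow_mod _ (by rw [pow_two]; exact ha)).symm

theorem zetaHom_apply {G : Type*} [Group G] (a : G) (ha : a * a = 1)
    (i : Multiplicative (ZMod 2)) : zetaHom a ha i = a ^ (Multiplicative.toAdd i).val := rfl

theorem zetaHom_apply_one {G : Type*} [Group G] (a : G) (ha : a * a = 1) :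
    zetaHom a ha (Multiplicative.ofAdd 1) = a := by
  show a ^ (1 : ZMod 2).val = a
  have : (1 : ZMod 2).val = 1 := rfl
  rw [this, pow_one]

theorem zmod2_cases (i : Multiplicative (ZMod 2)) : i = 1 ∨ i = Multiplicative.ofAdd 1 := by
  have h : ∀ x : ZMod 2, x = 0 ∨ x = 1 := by decide
  rcases h (Multiplicative.toAdd i) with h | h
  · left
    rw [← ofAdd_toAdd i, h]
    rfl
  · right
    rw [← ofAdd_toAdd i, h]

theorem zmod2_mul_self (i : Multiplicative (ZMod 2)) : i * i = 1 := by
  rcases zmod2_cases i with rfl | rfl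
  · rfl
  · rfl

/-- an elementary abelian subgroup of order 8 of odd index: the Sylow 2-subgroups -/
theorem sylow_of_subgroup {G : Type*} [Group G] [Finite G] (E : Subgroup G) (k : ℕ) (hk : Odd k)
    (hG : Nat.card G = 8 * k) (hE : Nat.card E = 8) (hexp : ∀ x ∈ E, x * x = 1) :
    ∀ S : Sylow 2 G, Nat.card S = 8 ∧ ∀ x ∈ S, x * x = 1 := by
  have : Fact (Nat.Prime 2) := ⟨Nat.prime_two⟩
  have hP : IsPGroup 2 E := IsPGroup.of_card (n := 3) (by rw [hE]; norm_num)
  have hidx : ¬ 2 ∣ E.index := by
    have h1 := Subgroup.card_mul_index E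
    rw [hE, hG] at h1
    have h2 : E.index = k := Nat.eq_of_mul_eq_mul_left (by norm_num) h1
    rw [h2]
    intro h
    exact (Nat.not_even_iff_odd.2 hk) (even_iff_two_dvd.2 h)
  intro S
  obtain ⟨g, hg⟩ := MulAction.exists_smul_eq G S (hP.toSylow hidx)
  constructor
  · rw [Sylow.card_eq_multiplicity S, ← Sylow.card_eq_multiplicity (hP.toSylow hidx)]
    exact hE
  · intro x hx
    have hmem : g * x * g⁻¹ ∈ hP.toSylow hidx := by
      rw [← hg]
      have h1 := Subgroup.smul_mem_pointwise_smul x (MulAut.conj g) (S : Subgroup G) hx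
      rw [MulAut.smul_def, MulAut.conj_apply] at h1
      exact h1
    have hE' : g * x * g⁻¹ ∈ E := (IsPGroup.mem_toSylow hP hidx).1 hmem
    have h2 := hexp _ hE'
    have e : x * x = g⁻¹ * ((g * x * g⁻¹) * (g * x * g⁻¹)) * g := by group
    rw [e, h2]
    group

/-- three commuting independent involutions generate an elementary abelian group of order 8 -/
theorem exists_elem_abelian_8 {G : Type*} [Group G] (a b c : G) (ha : a * a = 1) (hb : b * b = 1)
    (hc : c * c = 1) (hab : Commute a b) (hac : Commute a c) (hbc : Commute b c)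
    (h1 : c ≠ 1) (h2 : b ≠ 1) (h3 : b * c ≠ 1) (h4 : a ≠ 1) (h5 : a * c ≠ 1) (h6 : a * b ≠ 1)
    (h7 : a * (b * c) ≠ 1) :
    ∃ E : Subgroup G, Nat.card E = 8 ∧ ∀ x ∈ E, x * x = 1 := by
  have cbc : ∀ j k, Commute (zetaHom b hb j) (zetaHom c hc k) := fun j k => hbc.pow_pow _ _
  let ψ : Multiplicative (ZMod 2) × Multiplicative (ZMod 2) →* G :=
    (zetaHom b hb).noncommCoprod (zetaHom c hc) cbc
  have ca : ∀ i p, Commute (zetaHom a ha i) (ψ p) := fun i p =>
    (hab.pow_pow _ _).mul_right (hac.pow_pow _ _)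
  let f : Multiplicative (ZMod 2) × (Multiplicative (ZMod 2) × Multiplicative (ZMod 2)) →* G :=
    (zetaHom a ha).noncommCoprod ψ ca
  have hf : ∀ i j k, f (i, (j, k)) = zetaHom a ha i * (zetaHom b hb j * zetaHom c hc k) :=
    fun _ _ _ => rfl
  have hinj : Function.Injective f := by
    rw [injective_iff_map_eq_one]
    rintro ⟨i, j, k⟩ h
    rw [hf] at h
    rcases zmod2_cases i with rfl | rfl <;> rcases zmod2_cases j with rfl | rfl <;>
      rcases zmod2_cases k with rfl | rfl <;>
      simp only [map_one, zetaHom_apply_one, one_mul, mul_one] at h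
    · rfl
    · exact absurd h h1
    · exact absurd h h2
    · exact absurd h h3
    · exact absurd h h4
    · exact absurd h h5
    · exact absurd h h6
    · exact absurd h h7
  refine ⟨f.range, ?_, ?_⟩
  · rw [← Nat.card_congr (MonoidHom.ofInjective hinj).toEquiv, Nat.card_prod, Nat.card_prod,
      Nat.card_eq_fintype_card, Fintype.card_multiplicative, ZMod.card]
  · rintro _ ⟨⟨i, j, k⟩, rfl⟩
    rw [← map_mul]
    have : ((i, (j, k)) : Multiplicative (ZMod 2) × (Multiplicative (ZMod 2) ×
        Multiplicative (ZMod 2))) * (i, (j, k)) = 1 := by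
      show (i * i, (j * j, k * k)) = 1
      rw [zmod2_mul_self, zmod2_mul_self, zmod2_mul_self]
      rfl
    rw [this, map_one]

end Cfsg.Agent.Lib.Helper5.Ree
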