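import Cfsg.Agent.Lib.Helper5.Ree.Cent3
import Cfsg.Agent.Lib.Helper5.Ree.GenIso
import Mathlib

/-!
# The centraliser of an involution of the small Ree group is `Z₂ × PSL₂(q)` (helper5)
-/

set_option autoImplicit false
set_option maxRecDepth 100000

namespace Cfsg.Agent.Lib.Helper5.Ree

open Cfsg.Lie Cfsg.Agent.Lib.Helper5.Chev Cfsg.Agent.Lib.Helper5.GA Cfsg.Agent.Lib.Helper5.Tw
open Cfsg.Agent.Lib.Helper5.Frob Cfsg.Agent.Lib.Helper5.SL2P

section

variable {K : Type*} [Field K] [Fintype K] [CharP K 3] {m : ℕ}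

/-- the homomorphism from `SL₂(K)` to the twisted group -/
noncomputable def phiG (K : Type*) [Field K] [Fintype K] [CharP K 3] (m : ℕ) :
    Matrix.SpecialLinearGroup (Fin 2) K →* ↥(twistedG2 K (3 ^ m)) :=
  (phiL K m).codRestrict (twistedG2 K (3 ^ m)) phiL_mem

theorem phiG_val (s : Matrix.SpecialLinearGroup (Fin 2) K) :
    ((phiG K m s : ↥(twistedG2 K (3 ^ m))) : GL chevG2.Idx K) = phiL K m s := rfl

theorem phiG_neg_one (hK : Fintype.card K = 3 ^ (2 * m + 1)) : phiG K m (-1) = 1 :=
  Subtype.ext (phiL_neg_one hK)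

theorem phiG_ker (hK : Fintype.card K = 3 ^ (2 * m + 1))
    (s : Matrix.SpecialLinearGroup (Fin 2) K) (hs : phiG K m s = 1) : s = 1 ∨ s = -1 :=
  phiL_ker hK s (congrArg Subtype.val hs)

theorem phiG_neg (hK : Fintype.card K = 3 ^ (2 * m + 1))
    (s : Matrix.SpecialLinearGroup (Fin 2) K) : phiG K m (-s) = phiG K m s := by
  have : -s = (-1) * s := by rw [neg_mul, one_mul]
  rw [this, map_mul, phiG_neg_one hK, one_mul]

omit [Fintype K] [CharP K 3] in
theorem center_cases (s : Matrix.SpecialLinearGroup (Fin 2) K)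
    (hs : s ∈ Subgroup.center (Matrix.SpecialLinearGroup (Fin 2) K)) : s = 1 ∨ s = -1 := by
  obtain ⟨r, hr, e⟩ := Matrix.SpecialLinearGroup.mem_center_iff.1 hs
  rw [Fintype.card_fin] at hr
  have h0 : (r - 1) * (r + 1) = 0 := by linear_combination hr
  rcases mul_eq_zero.1 h0 with h | h
  · left
    have hr1 : r = 1 := sub_eq_zero.1 h
    apply Subtype.ext
    rw [← e, hr1, map_one]
    rfl
  · right
    have hr1 : r = -1 := by linear_combination h
    apply Subtype.ext
    rw [← e, hr1, map_neg, map_one]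
    rfl

omit [Fintype K] [CharP K 3] in
theorem neg_one_mem_center :
    (-1 : Matrix.SpecialLinearGroup (Fin 2) K)
      ∈ Subgroup.center (Matrix.SpecialLinearGroup (Fin 2) K) := by
  rw [Subgroup.mem_center_iff]
  intro g
  rw [mul_neg, neg_mul, mul_one, one_mul]

theorem center_le_ker (hK : Fintype.card K = 3 ^ (2 * m + 1)) :
    Subgroup.center (Matrix.SpecialLinearGroup (Fin 2) K) ≤ (phiG K m).ker := by
  intro s hs
  rw [MonoidHom.mem_ker]
  rcases center_cases s hs with rfl | rfl
  · exact map_one _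
  · exact phiG_neg_one hK

/-- the induced homomorphism from `PSL₂(K)` -/
noncomputable def phiBar (hK : Fintype.card K = 3 ^ (2 * m + 1)) :
    Matrix.ProjectiveSpecialLinearGroup (Fin 2) K →* ↥(twistedG2 K (3 ^ m)) :=
  QuotientGroup.lift _ (phiG K m) (center_le_ker hK)

theorem phiBar_mk (hK : Fintype.card K = 3 ^ (2 * m + 1))
    (s : Matrix.SpecialLinearGroup (Fin 2) K) :
    phiBar hK (QuotientGroup.mk s) = phiG K m s := rfl

theorem phiBar_eq_one (hK : Fintype.card K = 3 ^ (2 * m + 1))
    (x : Matrix.ProjectiveSpecialLinearGroup (Fin 2) K) (hx : phiBar hK x = 1) : x = 1 := by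
  obtain ⟨s, rfl⟩ := QuotientGroup.mk_surjective x
  rw [phiBar_mk] at hx
  rw [QuotientGroup.eq_one_iff]
  rcases phiG_ker hK s hx with rfl | rfl
  · exact Subgroup.one_mem _
  · exact neg_one_mem_center

/-- the centraliser of an involution of `H¹` in the small Ree group -/
theorem cent_iso (hK : Fintype.card K = 3 ^ (2 * m + 1)) (a : ↥(twistedG2 K (3 ^ m)))
    (haH : (a : GL chevG2.Idx K) ∈ chevG2.diagonalSubgroup K) (ha1 : a ≠ 1) (ha2 : a * a = 1) :
    Nonempty (↥(Subgroup.centralizer {a}) ≃*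
      Multiplicative (ZMod 2) × Matrix.ProjectiveSpecialLinearGroup (Fin 2) K) := by
  have haz : (a : GL chevG2.Idx K) = zz K m :=
    invol_unique hK _ haH a.2 (congrArg Subtype.val ha2) (fun h => ha1 (Subtype.ext h))
  have hcs : ∀ s, Commute a (phiG K m s) := by
    intro s
    apply Subtype.ext
    show (a : GL chevG2.Idx K) * phiL K m s = phiL K m s * (a : GL chevG2.Idx K)
    rw [haz]
    exact (zz_comm_phiL hK s).eq
  have hnot : ∀ s, a * phiG K m s ≠ 1 := by
    intro s h
    have h' : (a : GL chevG2.Idx K) * phiL K m s = 1 := congrArg Subtype.val h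
    have : phiL K m s⁻¹ = zz K m := by
      rw [← haz, map_inv]
      exact (eq_inv_of_mul_eq_one_left h').symm
    exact zz_not_range hK _ this
  apply nonempty_equiv_of_hom (Subgroup.centralizer {a}) (zetaHom a ha2) (phiBar hK)
  · intro i x
    obtain ⟨s, rfl⟩ := QuotientGroup.mk_surjective x
    rw [phiBar_mk, zetaHom_apply]
    exact (hcs s).pow_left _
  · intro i
    rw [Subgroup.mem_centralizer_iff]
    intro h hh
    rw [Set.mem_singleton_iff] at hh
    rw [hh, zetaHom_apply]
    exact ((Commute.refl a).pow_right _).eq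
  · intro x
    obtain ⟨s, rfl⟩ := QuotientGroup.mk_surjective x
    rw [phiBar_mk, Subgroup.mem_centralizer_iff]
    intro h hh
    rw [Set.mem_singleton_iff] at hh
    rw [hh]
    exact (hcs s).eq
  · intro i x h
    obtain ⟨s, rfl⟩ := QuotientGroup.mk_surjective x
    rcases zmod2_cases i with rfl | rfl
    · rw [map_one, one_mul] at h
      exact ⟨rfl, phiBar_eq_one hK _ h⟩
    · exfalso
      rw [zetaHom_apply_one, phiBar_mk] at h
      exact hnot s h
  · intro c hc
    rw [Subgroup.mem_centralizer_iff] at hc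
    have hc' : a * c = c * a := hc a rfl
    have hc2 : zz K m * (c : GL chevG2.Idx K) * (zz K m)⁻¹ = (c : GL chevG2.Idx K) := by
      rw [← haz]
      have : (a : GL chevG2.Idx K) * (c : GL chevG2.Idx K)
          = (c : GL chevG2.Idx K) * (a : GL chevG2.Idx K) := congrArg Subtype.val hc'
      rw [this]
      group
    obtain ⟨s, hs | hs⟩ := cent_cases hK c c.2 hc2
    · refine ⟨1, QuotientGroup.mk s, ?_⟩
      rw [map_one, one_mul, phiBar_mk]
      exact Subtype.ext hs
    · refine ⟨Multiplicative.ofAdd 1, QuotientGroup.mk s, ?_⟩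
      rw [zetaHom_apply_one, phiBar_mk]
      apply Subtype.ext
      rw [hs, ← haz]
      rfl

end

end Cfsg.Agent.Lib.Helper5.Ree
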