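import Cfsg.Agent.Lib.Helper5.Ree.GenIso
import Mathlib

/-!
# Generic group theory for the normaliser of an elementary abelian Sylow subgroup (helper5)

* an isolated involution of an abelian subgroup of odd index gives a non-trivial transfer;
* the orbit-stabiliser theorem for the conjugation action of a subgroup;
* the elementary abelian group of order 8 generated by three independent commuting involutions.
-/

set_option autoImplicit false

namespace Cfsg.Agent.Lib.Helper5.Ree

open scoped IsMulCommutative in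
/-- an involution of an abelian subgroup `E` of odd index, not conjugate to any other element of
`E`, is not killed by the transfer into `E`: the group is not perfect -/
theorem not_perfect_of_isolated {G : Type*} [Group G] [Finite G] (E : Subgroup G)
    (hE : ∀ x ∈ E, ∀ y ∈ E, x * y = y * x) (hodd : Odd E.index) (a : G)
    (ha2 : a * a = 1) (ha1 : a ≠ 1) (hiso : ∀ g : G, g⁻¹ * a * g ∈ E → g⁻¹ * a * g = a) :
    commutator G ≠ ⊤ := by
  intro hperf
  have : IsMulCommutative E := ⟨⟨fun x y => Subtype.ext (hE x x.2 y y.2)⟩⟩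
  have hpow' : ∀ k : ℕ, Even k → a ^ k = 1 := by
    rintro k ⟨r, rfl⟩
    rw [← two_mul, pow_mul, pow_two, ha2, one_pow]
  have hpow : ∀ k : ℕ, Odd k → a ^ k = a := by
    rintro k ⟨r, rfl⟩
    rw [pow_succ, pow_mul, pow_two, ha2, one_pow, one_mul]
  have key : ∀ (k : ℕ) (g₀ : G), g₀⁻¹ * a ^ k * g₀ ∈ E → g₀⁻¹ * a ^ k * g₀ = a ^ k := by
    intro k g₀ h
    rcases Nat.even_or_odd k with hk | hk
    · rw [hpow' k hk]
      group
    · rw [hpow k hk] at h ⊢
      exact hiso g₀ h
  have hT := MonoidHom.transfer_eq_pow (MonoidHom.id ↥E) a key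
  have hker : a ∈ (MonoidHom.transfer (MonoidHom.id ↥E)).ker := by
    have h := Abelianization.commutator_subset_ker (MonoidHom.transfer (MonoidHom.id ↥E))
    rw [hperf] at h
    exact h (Subgroup.mem_top a)
  rw [MonoidHom.mem_ker, hT] at hker
  have h1 : a ^ E.index = 1 := congrArg Subtype.val hker
  rw [hpow _ hodd] at h1
  exact ha1 h1

/-- the orbit-stabiliser theorem for the conjugation action of a subgroup -/
theorem card_conj_orbit {G : Type*} [Group G] [Finite G] (H : Subgroup G) (x : G) :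
    Nat.card H = Set.ncard {y : G | ∃ h ∈ H, y = h * x * h⁻¹}
      * Nat.card ↥(H ⊓ Subgroup.centralizer {x}) := by
  classical
  have hrep : ∀ y : ↥{y : G | ∃ h ∈ H, y = h * x * h⁻¹}, ∃ h : G, h ∈ H ∧ (y : G) = h * x * h⁻¹ :=
    fun y => y.2
  choose r hrH hr using hrep
  have hKmem : ∀ k ∈ H ⊓ Subgroup.centralizer {x}, k * x * k⁻¹ = x := by
    intro k hk
    have h1 : x * k = k * x := (Subgroup.mem_centralizer_iff.1 hk.2) x rfl
    rw [← h1]
    group
  have hconj : ∀ (g k : G), k ∈ H ⊓ Subgroup.centralizer {x} →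
      g * x * g⁻¹ = (g * k) * x * (g * k)⁻¹ := by
    intro g k hk
    have h1 := hKmem k hk
    calc g * x * g⁻¹ = g * (k * x * k⁻¹) * g⁻¹ := by rw [h1]
      _ = _ := by group
  let F : ↥{y : G | ∃ h ∈ H, y = h * x * h⁻¹} × ↥(H ⊓ Subgroup.centralizer {x}) → ↥H :=
    fun p => ⟨r p.1 * (p.2 : G), H.mul_mem (hrH p.1) p.2.2.1⟩
  have hF : Function.Bijective F := by
    constructor
    · rintro ⟨y, k⟩ ⟨y', k'⟩ e
      have e' : r y * (k : G) = r y' * (k' : G) := congrArg Subtype.val e
      have hy : (y : G) = y' := by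
        rw [hr y, hr y', hconj (r y) k k.2, hconj (r y') k' k'.2, e']
      have hy' : y = y' := Subtype.ext hy
      subst hy'
      have hk : (k : G) = k' := mul_left_cancel e'
      rw [Subtype.ext hk]
    · intro h
      have hy : (h : G) * x * (h : G)⁻¹ ∈ {y : G | ∃ h ∈ H, y = h * x * h⁻¹} := ⟨h, h.2, rfl⟩
      have hk : (r ⟨_, hy⟩)⁻¹ * (h : G) ∈ H ⊓ Subgroup.centralizer {x} := by
        refine ⟨H.mul_mem (H.inv_mem (hrH _)) h.2, ?_⟩
        show _ ∈ Subgroup.centralizer {x}
        rw [Subgroup.mem_centralizer_iff]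
        intro z hz
        rw [Set.mem_singleton_iff] at hz
        subst hz
        have h1 : (h : G) * z * (h : G)⁻¹ = r ⟨_, hy⟩ * z * (r ⟨_, hy⟩)⁻¹ := hr ⟨_, hy⟩
        calc z * ((r ⟨_, hy⟩)⁻¹ * (h : G))
            = (r ⟨_, hy⟩)⁻¹ * (r ⟨_, hy⟩ * z * (r ⟨_, hy⟩)⁻¹) * (h : G) := by group
          _ = (r ⟨_, hy⟩)⁻¹ * ((h : G) * z * (h : G)⁻¹) * (h : G) := by rw [← h1]
          _ = (r ⟨_, hy⟩)⁻¹ * (h : G) * z := by group
      refine ⟨(⟨_, hy⟩, ⟨_, hk⟩), Subtype.ext ?_⟩
      show r ⟨_, hy⟩ * ((r ⟨_, hy⟩)⁻¹ * (h : G)) = h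
      group
  rw [← Nat.card_congr (Equiv.ofBijective F hF), Nat.card_prod, Nat.card_coe_set_eq]

/-- subgroups containing a subgroup of order 8 in a group of order `8 · odd` -/
theorem card_eq_eight_mul_odd {G : Type*} [Group G] [Finite G] (E H : Subgroup G) (hEH : E ≤ H)
    (k : ℕ) (hk : Odd k) (hG : Nat.card G = 8 * k) (hE : Nat.card E = 8) :
    ∃ j, Odd j ∧ Nat.card H = 8 * j := by
  have h1 : 8 ∣ Nat.card H := hE ▸ Subgroup.card_dvd_of_le hEH
  obtain ⟨j, hj⟩ := h1
  have h2 : Nat.card H ∣ Nat.card G := Subgroup.card_subgroup_dvd_card H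
  rw [hj, hG] at h2
  have h3 : j ∣ k := Nat.dvd_of_mul_dvd_mul_left (by norm_num) h2
  exact ⟨j, Odd.of_dvd_nat hk h3, hj⟩

/-- three commuting independent involutions generate an elementary abelian group of order 8 -/
theorem elem_abelian_8_closure {G : Type*} [Group G] (a b c : G) (ha : a * a = 1)
    (hb : b * b = 1) (hc : c * c = 1) (hab : Commute a b) (hac : Commute a c) (hbc : Commute b c)
    (h1 : c ≠ 1) (h2 : b ≠ 1) (h3 : b * c ≠ 1) (h4 : a ≠ 1) (h5 : a * c ≠ 1) (h6 : a * b ≠ 1)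
    (h7 : a * (b * c) ≠ 1) :
    Nat.card (Subgroup.closure {a, b, c}) = 8 ∧
    (∀ x ∈ Subgroup.closure {a, b, c}, x = 1 ∨ x = c ∨ x = b ∨ x = b * c ∨ x = a ∨ x = a * c
      ∨ x = a * b ∨ x = a * (b * c)) ∧
    (∀ x ∈ Subgroup.closure {a, b, c}, ∀ y ∈ Subgroup.closure {a, b, c}, x * y = y * x) ∧
    (∀ x ∈ Subgroup.closure {a, b, c}, x * x = 1) := by
  have cbc : ∀ j k, Commute (zetaHom b hb j) (zetaHom c hc k) := fun j k => hbc.pow_pow _ _
  let ψ : Multiplicative (ZMod 2) × Multiplicative (ZMod 2) →* G :=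
    (zetaHom b hb).noncommCoprod (zetaHom c hc) cbc
  have ca : ∀ i p, Commute (zetaHom a ha i) (ψ p) := fun i p =>
    (hab.pow_pow _ _).mul_right (hac.pow_pow _ _)
  let f : Multiplicative (ZMod 2) × (Multiplicative (ZMod 2) × Multiplicative (ZMod 2)) →* G :=
    (zetaHom a ha).noncommCoprod ψ ca
  have hf : ∀ i j k, f (i, (j, k)) = zetaHom a ha i * (zetaHom b hb j * zetaHom c hc k) :=
    fun _ _ _ => rfl
  have hinj : Function.Injective f := by
    rw [injective_iff_map_eq_one]
    rintro ⟨i, j, k⟩ h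
    rw [hf] at h
    rcases zmod2_cases i with rfl | rfl <;> rcases zmod2_cases j with rfl | rfl <;>
      rcases zmod2_cases k with rfl | rfl <;>
      simp only [map_one, zetaHom_apply_one, one_mul, mul_one] at h
    · rfl
    · exact absurd h h1
    · exact absurd h h2
    · exact absurd h h3
    · exact absurd h h4
    · exact absurd h h5
    · exact absurd h h6
    · exact absurd h h7
  have hrange : Subgroup.closure {a, b, c} = f.range := by
    apply le_antisymm
    · rw [Subgroup.closure_le]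
      rintro x (rfl | rfl | rfl)
      · refine ⟨(Multiplicative.ofAdd 1, (1, 1)), ?_⟩
        rw [hf, zetaHom_apply_one, map_one, map_one, mul_one, mul_one]
      · refine ⟨(1, (Multiplicative.ofAdd 1, 1)), ?_⟩
        rw [hf, zetaHom_apply_one, map_one, map_one, mul_one, one_mul]
      · refine ⟨(1, (1, Multiplicative.ofAdd 1)), ?_⟩
        rw [hf, zetaHom_apply_one, map_one, map_one, one_mul, one_mul]
    · rintro _ ⟨⟨i, j, k⟩, rfl⟩
      rw [hf, zetaHom_apply, zetaHom_apply, zetaHom_apply]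
      have haM : a ∈ Subgroup.closure {a, b, c} := Subgroup.subset_closure (by simp)
      have hbM : b ∈ Subgroup.closure {a, b, c} := Subgroup.subset_closure (by simp)
      have hcM : c ∈ Subgroup.closure {a, b, c} := Subgroup.subset_closure (by simp)
      exact Subgroup.mul_mem _ (Subgroup.pow_mem _ haM _)
        (Subgroup.mul_mem _ (Subgroup.pow_mem _ hbM _) (Subgroup.pow_mem _ hcM _))
  rw [hrange]
  refine ⟨?_, ?_, ?_, ?_⟩
  · rw [← Nat.card_congr (MonoidHom.ofInjective hinj).toEquiv, Nat.card_prod, Nat.card_prod,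
      Nat.card_eq_fintype_card, Fintype.card_multiplicative, ZMod.card]
  · rintro _ ⟨⟨i, j, k⟩, rfl⟩
    rw [hf]
    rcases zmod2_cases i with rfl | rfl <;> rcases zmod2_cases j with rfl | rfl <;>
      rcases zmod2_cases k with rfl | rfl <;>
      simp only [map_one, zetaHom_apply_one, one_mul, mul_one, true_or, or_true]
  · rintro _ ⟨p, rfl⟩ _ ⟨p', rfl⟩
    rw [← map_mul, ← map_mul, mul_comm]
  · rintro _ ⟨⟨i, j, k⟩, rfl⟩
    rw [← map_mul]
    have : ((i, (j, k)) : Multiplicative (ZMod 2) × (Multiplicative (ZMod 2) ×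
        Multiplicative (ZMod 2))) * (i, (j, k)) = 1 := by
      show (i * i, (j * j, k * k)) = 1
      rw [zmod2_mul_self, zmod2_mul_self, zmod2_mul_self]
      rfl
    rw [this, map_one]

end Cfsg.Agent.Lib.Helper5.Ree
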