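import Cfsg.Agent.Lib.Helper5.Ree.H1
import Mathlib

/-!
# The diagonal subgroup of the small Ree group, continued (helper5)
-/

set_option autoImplicit false

namespace Cfsg.Agent.Lib.Helper5.Ree

open Cfsg.Lie Cfsg.Agent.Lib.Helper5.Chev Cfsg.Agent.Lib.Helper5.GA Cfsg.Agent.Lib.Helper5.Tw
open Cfsg.Agent.Lib.Helper5.Frob
open scoped Matrix

section

variable {K : Type*} [Field K] [Fintype K] [CharP K 3] {m : ℕ}

omit [Fintype K] in
theorem tauT_apply (μ : Kˣ) : tauT K m μ = Tw.hU K chevG2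
    (Pi.mulSingle j0 (Units.map (ph1 K m : K →* K) μ) * Pi.mulSingle j1 μ) := rfl

omit [Fintype K] in
theorem tauT_neg_one :
    tauT K m (-1) = (nUt (hadd2 K) 7 (-1) * nUt (hadd2 K) 7 (-1)) *
        (nUt (hadd2 K) 6 (-1) * nUt (hadd2 K) 6 (-1)) := by
  have h1 : Units.map (ph1 K m : K →* K) (-1) = -1 := by
    apply Units.ext
    show ph1 K m (-1) = -1
    rw [map_neg, map_one]
  have s0 : chevG2.simple (j0 : ℕ) = 7 := by decide
  have s1 : chevG2.simple (j1 : ℕ) = 6 := by decide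
  rw [tauT_apply, h1, map_mul, hU_single (by simp) (hadd2 K), hU_single (by simp) (hadd2 K),
    Units.val_neg, Units.val_one, s0, s1]

omit [Fintype K] in
theorem tauT_neg_one_mem : tauT K m (-1) ∈ twistedG2 K (3 ^ m) := by
  have p1 := posSide_rw (K := K) (m := m) 0 0 1
  have p2 := negSide_rw (K := K) (m := m) 0 0 1
  have p3 := posSide_rw (K := K) (m := m) 1 1 1
  have p4 := negSide_rw (K := K) (m := m) (-1) 1 (-1)
  rw [neg_zero] at p2
  rw [neg_neg] at p4
  have e := inv_word (K := K) (m := m)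
  rw [p1, p2, p3, p4] at e
  rw [tauT_neg_one, ← e]
  exact Subgroup.mul_mem _ (Subgroup.mul_mem _ (Subgroup.mul_mem _ (reeU_mem _ _ _ _)
    (reeV_mem _ _ _ _)) (reeU_mem _ _ _ _)) (reeV_mem _ _ _ _)

/-- the fixed points of the diagonal subgroup lie in the twisted group -/
theorem tauT_mem (hK : Fintype.card K = 3 ^ (2 * m + 1)) (μ : Kˣ) :
    tauT K m μ ∈ twistedG2 K (3 ^ m) := by
  have hsq : ∀ y : Kˣ, tauT K m (y ^ 2) ∈ twistedG2 K (3 ^ m) := by
    intro y
    rw [sq_eq_muU hK y, tauT_muU hK]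
    set u : Kˣ := Units.map (ph3 K m : K →* K) y * y⁻¹
    have e : nUt (hadd2 K) 8 (ph1 K m ↑u) * nUt (hadd2 K) 8 (-1) *
        (nUt (hadd2 K) 10 ↑u * nUt (hadd2 K) 10 (-1))
        = (nUt (hadd2 K) 8 (ph1 K m ↑u) * nUt (hadd2 K) 10 ↑u) *
          (nUt (hadd2 K) 8 (ph1 K m (-1)) * nUt (hadd2 K) 10 (-1)) := by
      have h1 := commute_of_check 3 DataG2.agrees (hadd2 K) 10 8 ck_orth.1
      have h2 := commute_of_check 3 DataG2.agrees (hadd2 K) 10 3 ck_orth.2.1
      have h3 := commute_of_check 3 DataG2.agrees (hadd2 K) 1 8 ck_orth.2.2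
      have hc : Commute (nUt (hadd2 K) 10 (u : K)) (nUt (hadd2 K) 8 (-1)) := by
        unfold nUt
        show Commute ((hadd2 K).xU 10 _ * (hadd2 K).xU 1 _ * (hadd2 K).xU 10 _)
          ((hadd2 K).xU 8 _ * (hadd2 K).xU 3 _ * (hadd2 K).xU 8 _)
        have c1 : ∀ A B : K, Commute ((hadd2 K).xU 1 A) ((hadd2 K).xU 3 B) := by
          intro A B
          exact commute_of_check 3 DataG2.agrees (hadd2 K) 1 3
            (ck_neg 1 (by simp) 3 (by simp)) A B
        apply Commute.mul_left (Commute.mul_left _ _) _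
        · exact Commute.mul_right (Commute.mul_right (h1 _ _) (h2 _ _)) (h1 _ _)
        · exact Commute.mul_right (Commute.mul_right (h3 _ _) (c1 _ _)) (h3 _ _)
        · exact Commute.mul_right (Commute.mul_right (h1 _ _) (h2 _ _)) (h1 _ _)
      rw [map_neg, map_one]
      simp only [mul_assoc]
      rw [hc.symm.left_comm]
    rw [e]
    exact Subgroup.mul_mem _ (nn_mem _) (nn_mem _)
  obtain ⟨y, hy | hy⟩ := exists_pm_sq hK μ
  · rw [hy]
    exact hsq y
  · have : μ = (-1) * y ^ 2 := by rw [hy]; simp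
    rw [this, map_mul]
    exact Subgroup.mul_mem _ tauT_neg_one_mem (hsq y)

/-- the diagonal subgroup of the twisted group is the group of fixed points -/
theorem diag_twisted_eq (hK : Fintype.card K = 3 ^ (2 * m + 1)) :
    chevG2.diagonalSubgroup K ⊓ twistedG2 K (3 ^ m) = chevG2.diagonalSubgroup K ⊓ fixR hK := by
  apply le_antisymm
  · exact inf_le_inf_left _ (twisted_le_fixR hK)
  · intro h hh
    refine ⟨hh.1, ?_⟩
    obtain ⟨μ, rfl⟩ := (diag_fixed_iff hK h).1 hh
    exact tauT_mem hK μ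

theorem card_diag_twisted (hK : Fintype.card K = 3 ^ (2 * m + 1)) :
    Nat.card ↥(chevG2.diagonalSubgroup K ⊓ twistedG2 K (3 ^ m)) = 3 ^ (2 * m + 1) - 1 := by
  rw [diag_twisted_eq hK]
  exact card_diag_fixed hK

end

end Cfsg.Agent.Lib.Helper5.Ree
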