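import Cfsg.Agent.Lib.Helper5.Ree.Mono
import Cfsg.Agent.Lib.Helper5.Chev.DataG2
import Cfsg.Agent.Lib.Helper5.Chev.UProd
import Cfsg.Agent.Lib.Helper5.Tw.Fixed
import Mathlib

/-!
# Identities between root elements of `G₂` in characteristic 3 (helper5)

The unipotent subgroups `U`, `V` of `G₂` in characteristic 3: the commutator of `x_b`, `x_a` and
the abelian normal subgroup of the other four root subgroups.
-/

set_option autoImplicit false

namespace Cfsg.Agent.Lib.Helper5.Ree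

open Cfsg.Lie Cfsg.Agent.Lib.Helper5.Chev Cfsg.Agent.Lib.Helper5.GA Cfsg.Agent.Lib.Helper5.Tw
open scoped Matrix

/-- the check that two root subgroups commute modulo `p` -/
def commb (p : ℕ) (T : FD) (r s : ℕ) : Bool :=
  mlEqb p T [(r, 1, 1, 0, 0), (s, 1, 0, 1, 0)] [(s, 1, 0, 1, 0), (r, 1, 1, 0, 0)]

section

variable {K : Type*} [Field K] {T : FD} {D : ChevalleyDatum}

theorem wordU_eq_of_ml (p : ℕ) [CharP K p] (hA : T.Agrees D) (hadd : AllAdd K D) (W₁ W₂ : List ML)
    (h : mlEqb p T W₁ W₂ = true) (t u v : K) :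
    hadd.wordU (mlEval W₁ t u v) = hadd.wordU (mlEval W₂ t u v) :=
  Units.ext ((hadd.wordU_val _).trans ((ml_sound p hA W₁ W₂ h t u v).trans (hadd.wordU_val _).symm))

theorem commute_of_check (p : ℕ) [CharP K p] (hA : T.Agrees D) (hadd : AllAdd K D) (r s : ℕ)
    (h : commb p T r s = true) (A B : K) : Commute (hadd.xU r A) (hadd.xU s B) := by
  have e := wordU_eq_of_ml p hA hadd _ _ h A B (1 : K)
  simp only [mlEval, List.map_cons, List.map_nil, wordU_cons, wordU_nil, Int.cast_one, one_mul,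
    pow_zero, mul_one, pow_one] at e
  exact e

end

theorem ck_ba : mlEqb 3 DataG2.fd [(6, 1, 0, 1, 0), (7, 1, 1, 0, 0)]
    [(7, 1, 1, 0, 0), (6, 1, 0, 1, 0), (8, 1, 1, 1, 0), (9, 1, 2, 1, 0), (10, -1, 3, 1, 0),
      (11, -1, 3, 2, 0)] = true := by decide +kernel

theorem ck_nba : mlEqb 3 DataG2.fd [(5, 1, 0, 1, 0), (4, 1, 1, 0, 0)]
    [(4, 1, 1, 0, 0), (5, 1, 0, 1, 0), (3, -1, 1, 1, 0), (2, 1, 2, 1, 0), (1, 1, 3, 1, 0),
      (0, -1, 3, 2, 0)] = true := by decide +kernel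

theorem ck_pos : ∀ r ∈ [8, 9, 10, 11], ∀ s ∈ [8, 9, 10, 11], commb 3 DataG2.fd r s = true := by
  decide +kernel

theorem ck_neg : ∀ r ∈ [3, 2, 1, 0], ∀ s ∈ [3, 2, 1, 0], commb 3 DataG2.fd r s = true := by
  decide +kernel

section side

variable {K : Type*} [Field K]

/-- one of the two unipotent subgroups `U`, `V` of `G₂` in characteristic 3: the roots `±a`, `±b`,
`±(a+b)`, `±(2a+b)`, `±(3a+b)`, `±(3a+2b)` and the signs in the commutator formula -/
structure Side (K : Type*) [Field K] (hadd : AllAdd K chevG2) where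
  ra : ℕ
  rb : ℕ
  r1 : ℕ
  r2 : ℕ
  r3 : ℕ
  r4 : ℕ
  e1 : K
  e2 : K
  e3 : K
  e4 : K
  hcomm : ∀ A B : K, hadd.xU rb B * hadd.xU ra A = hadd.xU ra A * hadd.xU rb B *
    (hadd.xU r1 (e1 * (A * B)) * hadd.xU r2 (e2 * (A ^ 2 * B)) * hadd.xU r3 (e3 * (A ^ 3 * B)) *
      hadd.xU r4 (e4 * (A ^ 3 * B ^ 2)))
  c12 : ∀ A B : K, Commute (hadd.xU r1 A) (hadd.xU r2 B)
  c13 : ∀ A B : K, Commute (hadd.xU r1 A) (hadd.xU r3 B)
  c14 : ∀ A B : K, Commute (hadd.xU r1 A) (hadd.xU r4 B)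
  c23 : ∀ A B : K, Commute (hadd.xU r2 A) (hadd.xU r3 B)
  c24 : ∀ A B : K, Commute (hadd.xU r2 A) (hadd.xU r4 B)
  c34 : ∀ A B : K, Commute (hadd.xU r3 A) (hadd.xU r4 B)

theorem mul4_comm {G : Type*} [Group G] (a b c d a' b' c' d' : G) (hba : Commute b a')
    (hca : Commute c a') (hda : Commute d a') (hcb : Commute c b') (hdb : Commute d b')
    (hdc : Commute d c') :
    (a * b * c * d) * (a' * b' * c' * d') = (a * a') * (b * b') * (c * c') * (d * d') := by
  simp only [mul_assoc]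
  rw [hda.left_comm, hca.left_comm, hba.left_comm, hdb.left_comm, hcb.left_comm, hdc.left_comm]

variable {hadd : AllAdd K chevG2} (S : Side K hadd)

theorem xU_add (r : ℕ) (t u : K) : hadd.xU r t * hadd.xU r u = hadd.xU r (t + u) := by
  apply Units.ext
  rw [Units.val_mul]
  exact hadd.x_add r t u

/-- the elements of the abelian normal subgroup -/
def Side.z (c1 c2 c3 c4 : K) : GL chevG2.Idx K :=
  hadd.xU S.r1 c1 * hadd.xU S.r2 c2 * hadd.xU S.r3 c3 * hadd.xU S.r4 c4

theorem Side.z_mul (c1 c2 c3 c4 d1 d2 d3 d4 : K) :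
    S.z c1 c2 c3 c4 * S.z d1 d2 d3 d4 = S.z (c1 + d1) (c2 + d2) (c3 + d3) (c4 + d4) := by
  unfold Side.z
  rw [mul4_comm _ _ _ _ _ _ _ _ (S.c12 d1 c2).symm (S.c13 d1 c3).symm (S.c14 d1 c4).symm
    (S.c23 d2 c3).symm (S.c24 d2 c4).symm (S.c34 d3 c4).symm, xU_add, xU_add, xU_add, xU_add]

/-- the product of six root elements in the order of the image of the canonical order under the
graph automorphism, in the canonical order -/
theorem Side.reorder (A B C E F G : K) :
    hadd.xU S.rb B * hadd.xU S.ra A * hadd.xU S.r3 C * hadd.xU S.r4 E * hadd.xU S.r1 F *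
        hadd.xU S.r2 G
      = hadd.xU S.ra A * hadd.xU S.rb B *
        S.z (F + S.e1 * (A * B)) (G + S.e2 * (A ^ 2 * B)) (C + S.e3 * (A ^ 3 * B))
          (E + S.e4 * (A ^ 3 * B ^ 2)) := by
  have h1 : hadd.xU S.r3 C * hadd.xU S.r4 E * (hadd.xU S.r1 F * hadd.xU S.r2 G)
      = S.z F G C E := by
    have hc : Commute (hadd.xU S.r3 C * hadd.xU S.r4 E) (hadd.xU S.r1 F * hadd.xU S.r2 G) :=
      Commute.mul_left (Commute.mul_right (S.c13 F C).symm (S.c23 G C).symm)
        (Commute.mul_right (S.c14 F E).symm (S.c24 G E).symm)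
    rw [hc.eq]
    unfold Side.z
    simp only [mul_assoc]
  calc hadd.xU S.rb B * hadd.xU S.ra A * hadd.xU S.r3 C * hadd.xU S.r4 E * hadd.xU S.r1 F *
        hadd.xU S.r2 G
      = (hadd.xU S.rb B * hadd.xU S.ra A) *
        (hadd.xU S.r3 C * hadd.xU S.r4 E * (hadd.xU S.r1 F * hadd.xU S.r2 G)) := by
        simp only [mul_assoc]
    _ = hadd.xU S.ra A * hadd.xU S.rb B *
        (S.z (S.e1 * (A * B)) (S.e2 * (A ^ 2 * B)) (S.e3 * (A ^ 3 * B)) (S.e4 * (A ^ 3 * B ^ 2)) *
          S.z F G C E) := by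
        rw [h1, S.hcomm A B]
        unfold Side.z
        simp only [mul_assoc]
    _ = _ := by
        rw [S.z_mul, add_comm (S.e1 * _), add_comm (S.e2 * _), add_comm (S.e3 * _),
          add_comm (S.e4 * _)]

end side

section sides

variable {K : Type*} [Field K] [CharP K 3] (hadd : AllAdd K chevG2)

/-- the positive side -/
def posSide : Side K hadd where
  ra := 7
  rb := 6
  r1 := 8
  r2 := 9
  r3 := 10
  r4 := 11
  e1 := 1
  e2 := 1
  e3 := -1
  e4 := -1
  hcomm := by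
    intro A B
    have e := wordU_eq_of_ml 3 DataG2.agrees hadd _ _ ck_ba A B (1 : K)
    simp only [mlEval, List.map_cons, List.map_nil, wordU_cons, wordU_nil, Int.cast_one, one_mul,
      pow_zero, mul_one, pow_one, Int.cast_neg, neg_mul] at e
    rw [e]
    simp only [mul_assoc, one_mul, neg_mul]
  c12 := commute_of_check 3 DataG2.agrees hadd 8 9 (ck_pos 8 (by simp) 9 (by simp))
  c13 := commute_of_check 3 DataG2.agrees hadd 8 10 (ck_pos 8 (by simp) 10 (by simp))
  c14 := commute_of_check 3 DataG2.agrees hadd 8 11 (ck_pos 8 (by simp) 11 (by simp))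
  c23 := commute_of_check 3 DataG2.agrees hadd 9 10 (ck_pos 9 (by simp) 10 (by simp))
  c24 := commute_of_check 3 DataG2.agrees hadd 9 11 (ck_pos 9 (by simp) 11 (by simp))
  c34 := commute_of_check 3 DataG2.agrees hadd 10 11 (ck_pos 10 (by simp) 11 (by simp))

/-- the negative side -/
def negSide : Side K hadd where
  ra := 4
  rb := 5
  r1 := 3
  r2 := 2
  r3 := 1
  r4 := 0
  e1 := -1
  e2 := 1
  e3 := 1
  e4 := -1
  hcomm := by
    intro A B
    have e := wordU_eq_of_ml 3 DataG2.agrees hadd _ _ ck_nba A B (1 : K)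
    simp only [mlEval, List.map_cons, List.map_nil, wordU_cons, wordU_nil, Int.cast_one, one_mul,
      pow_zero, mul_one, pow_one, Int.cast_neg, neg_mul] at e
    rw [e]
    simp only [mul_assoc, one_mul, neg_mul]
  c12 := commute_of_check 3 DataG2.agrees hadd 3 2 (ck_neg 3 (by simp) 2 (by simp))
  c13 := commute_of_check 3 DataG2.agrees hadd 3 1 (ck_neg 3 (by simp) 1 (by simp))
  c14 := commute_of_check 3 DataG2.agrees hadd 3 0 (ck_neg 3 (by simp) 0 (by simp))
  c23 := commute_of_check 3 DataG2.agrees hadd 2 1 (ck_neg 2 (by simp) 1 (by simp))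
  c24 := commute_of_check 3 DataG2.agrees hadd 2 0 (ck_neg 2 (by simp) 0 (by simp))
  c34 := commute_of_check 3 DataG2.agrees hadd 1 0 (ck_neg 1 (by simp) 0 (by simp))

end sides

end Cfsg.Agent.Lib.Helper5.Ree
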