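import Cfsg.Agent.Lib.Helper5.GA.ModP
import Cfsg.Agent.Lib.Helper5.Chev.Comm
import Mathlib

/-!
# Identities between words of root elements with monomial parameters, checked modulo `p` (helper5)
-/

set_option autoImplicit false

namespace Cfsg.Agent.Lib.Helper5.Ree

open Cfsg.Lie Cfsg.Agent.Lib.Helper5.Chev Cfsg.Agent.Lib.Helper5.GA
open scoped Matrix

/-- a letter: the root, an integer coefficient, the exponents of the three variables -/
abbrev ML : Type := ℕ × ℤ × ℕ × ℕ × ℕ

/-- the sparse matrices of a word -/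
def mlSPM (T : FD) (W : List ML) : List SPM :=
  W.map fun c => T.xP c.1 c.2.1 c.2.2.1 c.2.2.2.1 c.2.2.2.2

/-- the word with the variables evaluated -/
def mlEval {F : Type*} [Field F] (W : List ML) (t u v : F) : List (ℕ × F) :=
  W.map fun c => (c.1, (c.2.1 : F) * t ^ c.2.2.1 * u ^ c.2.2.2.1 * v ^ c.2.2.2.2)

/-- the check that two words have the same matrix modulo `p` -/
def mlEqb (p : ℕ) (T : FD) (W₁ W₂ : List ML) : Bool :=
  forceNat T.rank fun l => forceNat T.nroots fun n =>
    (W₁.all fun c => Nat.blt c.1 n) && ((W₂.all fun c => Nat.blt c.1 n) &&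
      wordEqbNP p (Nat.add l n) (mlSPM T W₁) (mlSPM T W₂))

section

variable {F : Type*} [Field F] {T : FD} {D : ChevalleyDatum}

theorem eval_mlSPM (hA : T.Agrees D) (W : List ML) (hW : ∀ c ∈ W, c.1 < D.nroots) (t u v : F) :
    ((mlSPM T W).map fun C => SPM.eval D C t u v).prod = D.wordMat F (mlEval W t u v) := by
  induction W with
  | nil => rfl
  | cons c W ih =>
    have h1 := ih (fun c' hc' => hW c' (List.mem_cons_of_mem _ hc'))
    unfold mlSPM mlEval ChevalleyDatum.wordMat at h1 ⊢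
    rw [List.map_cons, List.map_cons, List.prod_cons, h1, List.map_cons, List.map_cons,
      List.prod_cons, FD.eval_xP (F := F) hA c.1 (hW c List.mem_cons_self)]

theorem wf_mlSPM (hA : T.Agrees D) (W : List ML) (hW : ∀ c ∈ W, c.1 < D.nroots) :
    ∀ C ∈ mlSPM T W, SPM.WF (D.rank + D.nroots) C := by
  intro C hC
  unfold mlSPM at hC
  rw [List.mem_map] at hC
  obtain ⟨c, hc, rfl⟩ := hC
  exact FD.wf_xP hA _ (hW c hc) _ _ _ _

/-- the identity of matrices from the check -/
theorem ml_sound (p : ℕ) [CharP F p] (hA : T.Agrees D) (W₁ W₂ : List ML)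
    (h : mlEqb p T W₁ W₂ = true) (t u v : F) :
    D.wordMat F (mlEval W₁ t u v) = D.wordMat F (mlEval W₂ t u v) := by
  unfold mlEqb at h
  rw [forceNat_eq, forceNat_eq, Bool.and_eq_true, Bool.and_eq_true] at h
  obtain ⟨h1, h2, h3⟩ := h
  have hN : Nat.add T.rank T.nroots = D.rank + D.nroots := by rw [hA.rank_eq, hA.nroots_eq]; rfl
  rw [hN] at h3
  have hW₁ : ∀ c ∈ W₁, c.1 < D.nroots := by
    intro c hc
    have := List.all_eq_true.1 h1 c hc
    rw [Nat.blt_eq, hA.nroots_eq] at this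
    exact this
  have hW₂ : ∀ c ∈ W₂, c.1 < D.nroots := by
    intro c hc
    have := List.all_eq_true.1 h2 c hc
    rw [Nat.blt_eq, hA.nroots_eq] at this
    exact this
  have e := wordEqbNP_sound p D t u v (mlSPM T W₁) (mlSPM T W₂) (wf_mlSPM hA W₁ hW₁)
    (wf_mlSPM hA W₂ hW₂) h3
  rw [eval_mlSPM hA W₁ hW₁, eval_mlSPM hA W₂ hW₂] at e
  exact e

end

end Cfsg.Agent.Lib.Helper5.Ree
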