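import Cfsg.Agent.Lib.Helper5.Ree.U1
import Mathlib

/-!
# The elements of `U` in the small Ree group (helper5)
-/

set_option autoImplicit false

namespace Cfsg.Agent.Lib.Helper5.Ree

open Cfsg.Lie Cfsg.Agent.Lib.Helper5.Chev Cfsg.Agent.Lib.Helper5.GA Cfsg.Agent.Lib.Helper5.Tw
open Cfsg.Agent.Lib.Helper5.Frob
open scoped Matrix

/-- the order of the positive roots used in the definition of the twisted group -/
def L0 : List ℕ := [7, 6, 8, 9, 10, 11]

theorem ordL0 : OrdOK chevG2 L0 :=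
  ⟨by decide +kernel, by decide +kernel, by decide +kernel, by decide +kernel⟩

section

variable {K : Type*} [Field K] [Fintype K] [CharP K 3] {m : ℕ}

/-- the function with given values on the six positive roots -/
def tau6 (a7 a6 a8 a9 a10 a11 : K) : ℕ → K := fun r =>
  if r = 7 then a7 else if r = 6 then a6 else if r = 8 then a8 else if r = 9 then a9
    else if r = 10 then a10 else a11

omit [Fintype K] in
theorem wordL_L0 (τ : ℕ → K) :
    wordL L0 τ = (posSide (hadd2 K)).w6 (τ 7) (τ 6) (τ 8) (τ 9) (τ 10) (τ 11) := rfl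

omit [Fintype K] in
theorem wordL_tau6 (a7 a6 a8 a9 a10 a11 : K) :
    wordL L0 (tau6 a7 a6 a8 a9 a10 a11) = (posSide (hadd2 K)).w6 a7 a6 a8 a9 a10 a11 := rfl

omit [Fintype K] in
theorem w6_mem_pos (a7 a6 a8 a9 a10 a11 : K) :
    (hadd2 K).wordU ((posSide (hadd2 K)).w6 a7 a6 a8 a9 a10 a11) ∈ chevG2.posUnipotent K := by
  rw [← UL_eq_posUnipotent (K := K) ordL0, ← wordL_tau6]
  exact wordU_wordL_mem (hadd2 K) L0 L0 (fun r hr => hr) _

/-- the parameters of an element of `U` -/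
theorem w6_injective (a7 a6 a8 a9 a10 a11 b7 b6 b8 b9 b10 b11 : K)
    (e : (hadd2 K).wordU ((posSide (hadd2 K)).w6 a7 a6 a8 a9 a10 a11)
      = (hadd2 K).wordU ((posSide (hadd2 K)).w6 b7 b6 b8 b9 b10 b11)) :
    a7 = b7 ∧ a6 = b6 ∧ a8 = b8 ∧ a9 = b9 ∧ a10 = b10 ∧ a11 = b11 := by
  rw [← wordL_tau6, ← wordL_tau6] at e
  have h := wordL_injective (by simp) (hadd2 K) L0 ordL0 _ _ e
  exact ⟨h 7 (by simp [L0]), h 6 (by simp [L0]), h 8 (by simp [L0]), h 9 (by simp [L0]),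
    h 10 (by simp [L0]), h 11 (by simp [L0])⟩

/-- the elements of `U` fixed by the twisting automorphism -/
theorem pos_fixed (hK : Fintype.card K = 3 ^ (2 * m + 1)) (g : GL chevG2.Idx K)
    (hg : g ∈ chevG2.posUnipotent K) (hf : g ∈ fixR hK) :
    ∃ t u v : K, g = (hadd2 K).wordU ((posSide (hadd2 K)).rw m t u v) := by
  rw [← UL_eq_posUnipotent (K := K) ordL0] at hg
  obtain ⟨τ, rfl⟩ := exists_wordL (by simp) (hadd2 K) L0 ordL0.good g hg
  obtain ⟨hG, hfix⟩ := (mem_fixR hK _).1 hf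
  have hlt : ∀ p ∈ wordL L0 τ, p.1 < chevG2.nroots := by
    intro p hp
    unfold wordL at hp
    rw [List.mem_map] at hp
    obtain ⟨r, hr, rfl⟩ := hp
    exact (ordL0.pos r hr).1
  have h1 : (hadd2 K).wordU (sw K m (wordL L0 τ)) = (hadd2 K).wordU (wordL L0 τ) := by
    have := sg_wG hK (wordL L0 τ) hlt
    have e : sg hK (wG K (wordL L0 τ)) = wG K (wordL L0 τ) := hfix
    rw [this] at e
    exact congrArg Subtype.val e
  rw [wordL_L0] at h1 ⊢
  rw [posSideSg.sw_w6, ← Side.wordU_w6] at h1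
  obtain ⟨e7, e6, e8, e9, -, -⟩ := w6_injective _ _ _ _ _ _ _ _ _ _ _ _ h1
  refine ⟨τ 6, τ 10, τ 11, ?_⟩
  unfold Side.rw
  rw [e6] at e8 e9
  rw [← e7, ← e8, ← e9]

/-- the elements of `U` in the twisted group -/
theorem pos_twisted_iff (hK : Fintype.card K = 3 ^ (2 * m + 1)) (g : GL chevG2.Idx K) :
    g ∈ chevG2.posUnipotent K ⊓ twistedG2 K (3 ^ m) ↔
      ∃ t u v : K, g = (hadd2 K).wordU (reeWordU (3 ^ m) t u v) := by
  constructor
  · rintro ⟨hg, hG⟩
    obtain ⟨t, u, v, e⟩ := pos_fixed hK g hg (twisted_le_fixR hK hG)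
    rw [posSide_rw] at e
    exact ⟨t, u, v, e⟩
  · rintro ⟨t, u, v, rfl⟩
    constructor
    · rw [← posSide_rw]
      exact w6_mem_pos _ _ _ _ _ _
    · unfold twistedG2 ChevalleyDatum.genSubgroup
      apply Subgroup.subset_closure
      exact ⟨_, ⟨t, u, v, Or.inl rfl⟩, (hadd2 K).wordU_val _⟩

/-- the number of elements of `U` in the twisted group -/
theorem card_pos_twisted (hK : Fintype.card K = 3 ^ (2 * m + 1)) :
    Nat.card ↥(chevG2.posUnipotent K ⊓ twistedG2 K (3 ^ m)) = (3 ^ (2 * m + 1)) ^ 3 := by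
  let f : K × K × K → ↥(chevG2.posUnipotent K ⊓ twistedG2 K (3 ^ m)) := fun p =>
    ⟨(hadd2 K).wordU (reeWordU (3 ^ m) p.1 p.2.1 p.2.2),
      (pos_twisted_iff hK _).2 ⟨p.1, p.2.1, p.2.2, rfl⟩⟩
  have hbij : Function.Bijective f := by
    constructor
    · rintro ⟨t, u, v⟩ ⟨t', u', v'⟩ h
      have h' : (hadd2 K).wordU (reeWordU (3 ^ m) t u v)
          = (hadd2 K).wordU (reeWordU (3 ^ m) t' u' v') := congrArg Subtype.val h
      rw [← posSide_rw, ← posSide_rw] at h'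
      unfold Side.rw at h'
      obtain ⟨-, e6, -, -, e10, e11⟩ := w6_injective _ _ _ _ _ _ _ _ _ _ _ _ h'
      rw [e6, e10, e11]
    · rintro ⟨g, hg⟩
      obtain ⟨t, u, v, rfl⟩ := (pos_twisted_iff hK g).1 hg
      exact ⟨(t, u, v), rfl⟩
  rw [← Nat.card_congr (Equiv.ofBijective f hbij), Nat.card_prod, Nat.card_prod,
    Nat.card_eq_fintype_card, hK]
  ring

end

end Cfsg.Agent.Lib.Helper5.Ree
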