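import Cfsg.Agent.Lib.Helper5.Ree.Bruhat
import Cfsg.Agent.Lib.Helper5.Ree.H1b
import Cfsg.Agent.Lib.Helper5.Ree.U1Fix
import Cfsg.Agent.Lib.Helper5.Chev.MonoB
import Cfsg.Agent.Lib.Helper5.Chev.CxG2
import Mathlib

/-!
# The monomial elements of `G₂` fixed by the twisting automorphism (helper5)
-/

set_option autoImplicit false
set_option maxRecDepth 100000

namespace Cfsg.Agent.Lib.Helper5.Ree

open Cfsg.Lie Cfsg.Agent.Lib.Helper5.Chev Cfsg.Agent.Lib.Helper5.GA Cfsg.Agent.Lib.Helper5.Tw
open Cfsg.Agent.Lib.Helper5.Frob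
open scoped Matrix

/-- the permutation of the roots given by a word, as a list -/
def permOf (L : List ℕ) : List ℕ := (List.range 12).map (wW BsG2.Bs L)

/-- reduced words of the twelve elements of the Weyl group -/
def words12 : List (List ℕ) :=
  [[], [0], [1], [0, 1], [1, 0], [0, 1, 0], [1, 0, 1], [0, 1, 0, 1], [1, 0, 1, 0],
    [0, 1, 0, 1, 0], [1, 0, 1, 0, 1], [0, 1, 0, 1, 0, 1]]

/-- the twelve permutations -/
def Wl : List (List ℕ) := words12.map permOf

theorem Wl_closed : ∀ p ∈ Wl, ∀ i < 2, p.map (wOf (BsG2.Bs.getD i 0)) ∈ Wl := by decide +kernel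

theorem permOf_nil_mem : permOf [] ∈ Wl := by decide +kernel

theorem permOf_cons (i : ℕ) (L : List ℕ) :
    permOf (i :: L) = (permOf L).map (wOf (BsG2.Bs.getD i 0)) := by
  unfold permOf
  rw [List.map_map]
  rfl

theorem permOf_mem (L : List ℕ) (hL : ∀ i ∈ L, i < 2) : permOf L ∈ Wl := by
  induction L with
  | nil => exact permOf_nil_mem
  | cons i L ih =>
    rw [permOf_cons]
    exact Wl_closed _ (ih fun j hj => hL j (List.mem_cons_of_mem _ hj)) i (hL i List.mem_cons_self)

theorem permOf_getD (L : List ℕ) (r : ℕ) (hr : r < 12) :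
    (permOf L).getD r 0 = wW BsG2.Bs L r := by
  unfold permOf
  rw [List.getD_eq_getElem _ _ (by simpa using hr), List.getElem_map, List.getElem_range]

theorem Wl_check : ∀ p ∈ Wl, (∀ r < 12, p.getD r 0 < 6 → p.getD (G2.rho r) 0 < 6) →
    (6 ≤ p.getD 7 0 ∧ 6 ≤ p.getD 6 0) ∨ (∀ r < 12, 6 ≤ r → p.getD r 0 < 6) := by
  decide +kernel

theorem wW_append' (Bs L1 L2 : List ℕ) (s : ℕ) :
    wW Bs (L1 ++ L2) s = wW Bs L1 (wW Bs L2 s) := by
  induction L1 with
  | nil => rfl
  | cons i L ih =>
    show wOf (Bs.getD i 0) (wW Bs (L ++ L2) s) = wOf (Bs.getD i 0) (wW Bs L (wW Bs L2 s))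
    rw [ih]

/-- the word of the longest element -/
def Lw0 : List ℕ := [0, 1, 0, 1, 0, 1]

theorem Lw0_lt : ∀ i ∈ Lw0, i < chevG2.rank := by decide

theorem Lw0_neg : ∀ r < 6, 6 ≤ wW BsG2.Bs Lw0 r := by decide +kernel

theorem Lw0_sq : ∀ i < chevG2.rank, chevG2.nroots / 2 ≤ wW BsG2.Bs (Lw0 ++ Lw0) (chevG2.simple i) := by
  decide +kernel

section

variable {K : Type*} [Field K] [Fintype K] [CharP K 3] {m : ℕ}

/-- the standard representative of the longest element -/
noncomputable def n0 (K : Type*) [Field K] : GL chevG2.Idx K :=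
  nWordU DataG2.agrees (hadd2 K) Lw0

omit [Fintype K] [CharP K 3] in
theorem mono_form (n : GL chevG2.Idx K) (hn : n ∈ chevG2.monomialSubgroup K) :
    ∃ L : List ℕ, (∀ i ∈ L, i < chevG2.rank) ∧ ∃ h ∈ chevG2.diagonalSubgroup K,
      n = nWordU DataG2.agrees (hadd2 K) L * h :=
  monomial_le_NWH DataG2.agrees (hadd2 K) BsG2.Bs HsG2.reflBs' HsG2.hform HsG2.gH HsG2.baseH 3
    HsG2.rbH HsG2.base_simple hn

omit [Fintype K] [CharP K 3] in
theorem nWord_mem_diag (L : List ℕ) (hL : ∀ i ∈ L, i < chevG2.rank)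
    (hnd : ∀ i < chevG2.rank, chevG2.nroots / 2 ≤ wW BsG2.Bs L (chevG2.simple i)) :
    nWordU DataG2.agrees (hadd2 K) L ∈ chevG2.diagonalSubgroup K := by
  obtain ⟨h1, h2⟩ := cox_of_check DataG2.fd BsG2.Bs CxG2.mLL CxG2.cox
  exact nWordU_mem_diagonal hD2 DataG2.agrees (hadd2 K) BsG2.Bs CxG2.mLL HsG2.reflBs' h1 h2 L hL hnd

omit [Fintype K] [CharP K 3] in
theorem root_neg_iff (L : List ℕ) (hL : ∀ i ∈ L, i < chevG2.rank) (h : GL chevG2.Idx K)
    (hh : h ∈ chevG2.diagonalSubgroup K) (r : ℕ) (hr : r < chevG2.nroots) :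
    (chevG2.rootSubgroup K r).map
      (MulAut.conj (nWordU DataG2.agrees (hadd2 K) L * h)).toMonoidHom ≤ chevG2.negUnipotent K
      ↔ wW BsG2.Bs L r < 6 :=
  map_root_le_neg_iff hD2 DataG2.agrees (hadd2 K) BsG2.Bs HsG2.reflBs' L hL h hh r hr

/-- a fixed monomial element maps the root subgroups of `r` and of `ρ r` to subgroups of the same
sign -/
theorem fix_conj_root (hK : Fintype.card K = 3 ^ (2 * m + 1)) (n : GL chevG2.Idx K)
    (hn : n ∈ chevG2.monomialSubgroup K) (hf : n ∈ fixR hK) (r : ℕ) (hr : r < chevG2.nroots)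
    (hmap : (chevG2.rootSubgroup K r).map (MulAut.conj n).toMonoidHom ≤ chevG2.negUnipotent K) :
    (chevG2.rootSubgroup K (G2.rho r)).map (MulAut.conj n).toMonoidHom
      ≤ chevG2.negUnipotent K := by
  have hnG : n ∈ chevG2.group K := (hadd2 K).monomial_le hn
  have h1 := sg_conj_root hK ⟨n, hnG⟩ r hr hmap
  rw [sg_eq_of_mem_fixR hK n hf hnG] at h1
  exact h1

/-- a fixed monomial element lies in `H` or in the coset of the longest element -/
theorem mono_fix_cases (hK : Fintype.card K = 3 ^ (2 * m + 1)) (n : GL chevG2.Idx K)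
    (hn : n ∈ chevG2.monomialSubgroup K) (hf : n ∈ fixR hK) :
    n ∈ chevG2.diagonalSubgroup K ∨ ((n0 K)⁻¹ * n ∈ chevG2.diagonalSubgroup K ∧
      ∀ r < chevG2.nroots, 6 ≤ r →
        (chevG2.rootSubgroup K r).map (MulAut.conj n).toMonoidHom ≤ chevG2.negUnipotent K) := by
  obtain ⟨L, hL, h, hh, rfl⟩ := mono_form n hn
  have hsign : ∀ r < 12, wW BsG2.Bs L r < 6 → wW BsG2.Bs L (G2.rho r) < 6 := by
    intro r hr hlt
    have h1 := (root_neg_iff L hL h hh r hr).2 hlt
    have h2 := fix_conj_root hK _ hn hf r hr h1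
    exact (root_neg_iff L hL h hh _ (G2.rho_lt r hr)).1 h2
  have hp := permOf_mem L hL
  have hc := Wl_check _ hp (by
    intro r hr
    rw [permOf_getD L r hr, permOf_getD L _ (G2.rho_lt r hr)]
    exact hsign r hr)
  rcases hc with ⟨h7, h6⟩ | hall
  · left
    rw [permOf_getD L 7 (by norm_num)] at h7
    rw [permOf_getD L 6 (by norm_num)] at h6
    apply Subgroup.mul_mem _ _ hh
    apply nWord_mem_diag L hL
    intro i hi
    have hi' : i < 2 := hi
    interval_cases i
    · exact h7
    · exact h6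
  · right
    constructor
    · have e : (n0 K)⁻¹ * (nWordU DataG2.agrees (hadd2 K) L * h)
          = (n0 K * n0 K)⁻¹ * (n0 K * nWordU DataG2.agrees (hadd2 K) L) * h := by group
      rw [e]
      apply Subgroup.mul_mem _ (Subgroup.mul_mem _ (Subgroup.inv_mem _ _) _) hh
      · unfold n0
        rw [← Chev.nWordU_append]
        exact nWord_mem_diag _ (by decide) Lw0_sq
      · unfold n0
        rw [← Chev.nWordU_append]
        apply nWord_mem_diag
        · intro i hi
          rw [List.mem_append] at hi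
          rcases hi with hi | hi
          · exact Lw0_lt i hi
          · exact hL i hi
        · intro i hi
          rw [wW_append']
          apply Lw0_neg
          have hi' : i < 2 := hi
          interval_cases i
          · have := hall 7 (by norm_num) (by norm_num)
            rwa [permOf_getD L 7 (by norm_num)] at this
          · have := hall 6 (by norm_num) (by norm_num)
            rwa [permOf_getD L 6 (by norm_num)] at this
    · intro r hr h6
      apply (root_neg_iff L hL h hh r hr).2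
      have := hall r hr h6
      rwa [permOf_getD L r hr] at this

end

end Cfsg.Agent.Lib.Helper5.Ree
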