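import Cfsg.Agent.Lib.Helper5.Ree.N1
import Mathlib

/-!
# The small Ree group is the group of fixed points of the twisting automorphism (helper5)
-/

set_option autoImplicit false

namespace Cfsg.Agent.Lib.Helper5.Ree

open Cfsg.Lie Cfsg.Agent.Lib.Helper5.Chev Cfsg.Agent.Lib.Helper5.GA Cfsg.Agent.Lib.Helper5.Tw
open Cfsg.Agent.Lib.Helper5.Frob
open scoped Matrix

section

variable {K : Type*} [Field K] [Fintype K] [CharP K 3] {m : ℕ}

omit [Fintype K] [CharP K 3] in
theorem wordU_mem_neg (w : List (ℕ × K)) (h : ∀ p ∈ w, p.1 < 6) :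
    (hadd2 K).wordU w ∈ chevG2.negUnipotent K := by
  unfold AllAdd.wordU
  apply Subgroup.list_prod_mem
  intro g hg
  rw [List.mem_map] at hg
  obtain ⟨p, hp, rfl⟩ := hg
  have hlt : p.1 < chevG2.nroots := lt_trans (h p hp) (by decide)
  exact Subgroup.subset_closure ⟨p.1, p.2, (neg_iff6 p.1 hlt).2 (h p hp), rfl⟩

omit [Fintype K] [CharP K 3] in
theorem reeV_fst (e : ℕ) (t u v : K) :
    (reeWordV e t u v).map Prod.fst = [4, 5, 3, 2, 1, 0] := rfl

omit [Fintype K] [CharP K 3] in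
theorem reeV_mem_neg (e : ℕ) (t u v : K) :
    (hadd2 K).wordU (reeWordV e t u v) ∈ chevG2.negUnipotent K := by
  apply wordU_mem_neg
  intro p hp
  have h1 : p.1 ∈ (reeWordV e t u v).map Prod.fst := List.mem_map_of_mem hp
  rw [reeV_fst] at h1
  simp only [List.mem_cons, List.not_mem_nil, or_false] at h1
  omega

omit [Fintype K] [CharP K 3] in
theorem reeU_mem_twisted (e : ℕ) (t u v : K) :
    (hadd2 K).wordU (reeWordU e t u v) ∈ twistedG2 K e := by
  unfold twistedG2 ChevalleyDatum.genSubgroup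
  apply Subgroup.subset_closure
  exact ⟨_, ⟨t, u, v, Or.inl rfl⟩, (hadd2 K).wordU_val _⟩

omit [Fintype K] [CharP K 3] in
theorem reeV_mem_twisted (e : ℕ) (t u v : K) :
    (hadd2 K).wordU (reeWordV e t u v) ∈ twistedG2 K e := by
  unfold twistedG2 ChevalleyDatum.genSubgroup
  apply Subgroup.subset_closure
  exact ⟨_, ⟨t, u, v, Or.inr rfl⟩, (hadd2 K).wordU_val _⟩

/-- the fixed points in `U` lie in the twisted group -/
theorem pos_fix_mem_twisted (hK : Fintype.card K = 3 ^ (2 * m + 1)) (g : GL chevG2.Idx K)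
    (hg : g ∈ chevG2.posUnipotent K) (hf : g ∈ fixR hK) : g ∈ twistedG2 K (3 ^ m) := by
  obtain ⟨t, u, v, rfl⟩ := pos_fixed hK g hg hf
  rw [posSide_rw]
  exact reeU_mem_twisted _ t u v

/-- the fixed points in `H` lie in the twisted group -/
theorem diag_fix_mem_twisted (hK : Fintype.card K = 3 ^ (2 * m + 1)) (g : GL chevG2.Idx K)
    (hg : g ∈ chevG2.diagonalSubgroup K) (hf : g ∈ fixR hK) : g ∈ twistedG2 K (3 ^ m) := by
  have : g ∈ chevG2.diagonalSubgroup K ⊓ fixR hK := ⟨hg, hf⟩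
  rw [← diag_twisted_eq hK] at this
  exact this.2

/-- some generator of the twisted group is not in `U` -/
theorem exists_neg_not_pos (hK : Fintype.card K = 3 ^ (2 * m + 1)) :
    ∃ t u v : K, (hadd2 K).wordU (reeWordV (3 ^ m) t u v) ∉ chevG2.posUnipotent K := by
  by_contra hcon
  push Not at hcon
  have hle : twistedG2 K (3 ^ m) ≤ chevG2.posUnipotent K := by
    unfold twistedG2 ChevalleyDatum.genSubgroup
    rw [Subgroup.closure_le]
    rintro g ⟨w, ⟨t, u, v, hw | hw⟩, hg⟩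
    · have e : g = (hadd2 K).wordU (reeWordU (3 ^ m) t u v) := by
        apply Units.ext
        rw [hg, hw, (hadd2 K).wordU_val]
      rw [SetLike.mem_coe, e]
      exact ((pos_twisted_iff hK _).2 ⟨t, u, v, rfl⟩).1
    · have e : g = (hadd2 K).wordU (reeWordV (3 ^ m) t u v) := by
        apply Units.ext
        rw [hg, hw, (hadd2 K).wordU_val]
      rw [SetLike.mem_coe, e]
      exact hcon t u v
  have hbot : chevG2.diagonalSubgroup K ⊓ twistedG2 K (3 ^ m) = ⊥ := by
    rw [eq_bot_iff]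
    intro x hx
    have h1 : x ∈ chevG2.posUnipotent K ⊓ chevG2.diagonalSubgroup K := ⟨hle hx.2, hx.1⟩
    rwa [(borel_semidirect_all chevG2 hD2).2] at h1
  have hc := card_diag_twisted hK
  rw [hbot, Subgroup.card_bot] at hc
  have h3 : 3 ^ 1 ≤ 3 ^ (2 * m + 1) := Nat.pow_le_pow_right (by norm_num) (by omega)
  omega

/-- an element of the twisted group in `N` and not in `H` -/
theorem exists_n1 (hK : Fintype.card K = 3 ^ (2 * m + 1)) :
    ∃ n1 : GL chevG2.Idx K, n1 ∈ chevG2.monomialSubgroup K ∧ n1 ∈ twistedG2 K (3 ^ m) ∧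
      n1 ∉ chevG2.diagonalSubgroup K := by
  obtain ⟨t, u, v, hv⟩ := exists_neg_not_pos hK
  have hv0G := reeV_mem_twisted (3 ^ m) t u v
  have hv0V := reeV_mem_neg (3 ^ m) t u v
  obtain ⟨u1, hu1, n, hn, u2, hu2, e, f1, fn, f2⟩ :=
    bruhat_fixR hK _ (twisted_le_fixR hK hv0G)
  have hu2U : u2 ∈ chevG2.posUnipotent K := uneg_le_pos chevG2 _ hu2
  have hu1G := pos_fix_mem_twisted hK u1 hu1 f1
  have hu2G := pos_fix_mem_twisted hK u2 hu2U f2
  have hnG : n ∈ twistedG2 K (3 ^ m) := by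
    have e' : n = u1⁻¹ * (hadd2 K).wordU (reeWordV (3 ^ m) t u v) * u2⁻¹ := by
      rw [e]
      group
    rw [e']
    exact Subgroup.mul_mem _ (Subgroup.mul_mem _ (Subgroup.inv_mem _ hu1G) hv0G)
      (Subgroup.inv_mem _ hu2G)
  refine ⟨n, hn, hnG, ?_⟩
  intro hnH
  have hB : (hadd2 K).wordU (reeWordV (3 ^ m) t u v) ∈ chevG2.borelSubgroup K := by
    rw [e]
    exact Subgroup.mul_mem _ (Subgroup.mul_mem _ (Subgroup.mem_sup_left hu1)
      (Subgroup.mem_sup_right hnH)) (Subgroup.mem_sup_left hu2U)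
  have h1 : (hadd2 K).wordU (reeWordV (3 ^ m) t u v)
      ∈ chevG2.borelSubgroup K ⊓ chevG2.negUnipotent K := ⟨hB, hv0V⟩
  rw [(borel_inf_neg_all chevG2 hD2).1, Subgroup.mem_bot] at h1
  apply hv
  rw [h1]
  exact Subgroup.one_mem _

/-- the distinguished representative of the nontrivial element of the Weyl group of the twisted
group -/
noncomputable def n1 (hK : Fintype.card K = 3 ^ (2 * m + 1)) : GL chevG2.Idx K :=
  Classical.choose (exists_n1 hK)

theorem n1_mono (hK : Fintype.card K = 3 ^ (2 * m + 1)) : n1 hK ∈ chevG2.monomialSubgroup K :=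
  (Classical.choose_spec (exists_n1 hK)).1

theorem n1_twisted (hK : Fintype.card K = 3 ^ (2 * m + 1)) : n1 hK ∈ twistedG2 K (3 ^ m) :=
  (Classical.choose_spec (exists_n1 hK)).2.1

theorem n1_not_diag (hK : Fintype.card K = 3 ^ (2 * m + 1)) :
    n1 hK ∉ chevG2.diagonalSubgroup K :=
  (Classical.choose_spec (exists_n1 hK)).2.2

theorem n1_fix (hK : Fintype.card K = 3 ^ (2 * m + 1)) : n1 hK ∈ fixR hK :=
  twisted_le_fixR hK (n1_twisted hK)

theorem n0_inv_n1 (hK : Fintype.card K = 3 ^ (2 * m + 1)) :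
    (n0 K)⁻¹ * n1 hK ∈ chevG2.diagonalSubgroup K := by
  rcases mono_fix_cases hK _ (n1_mono hK) (n1_fix hK) with h | h
  · exact absurd h (n1_not_diag hK)
  · exact h.1

/-- `n₁ U n₁⁻¹ ≤ V`, root by root -/
theorem n1_conj_root (hK : Fintype.card K = 3 ^ (2 * m + 1)) (r : ℕ) (hr : r < chevG2.nroots)
    (h6 : 6 ≤ r) :
    (chevG2.rootSubgroup K r).map (MulAut.conj (n1 hK)).toMonoidHom ≤ chevG2.negUnipotent K := by
  rcases mono_fix_cases hK _ (n1_mono hK) (n1_fix hK) with h | h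
  · exact absurd h (n1_not_diag hK)
  · exact h.2 r hr h6

/-- the fixed monomial elements: `N ∩ Fix = H¹ ∪ n₁ H¹` -/
theorem mono_fix_cases' (hK : Fintype.card K = 3 ^ (2 * m + 1)) (n : GL chevG2.Idx K)
    (hn : n ∈ chevG2.monomialSubgroup K) (hf : n ∈ fixR hK) :
    n ∈ chevG2.diagonalSubgroup K ∨ (n1 hK)⁻¹ * n ∈ chevG2.diagonalSubgroup K := by
  rcases mono_fix_cases hK n hn hf with h | h
  · exact Or.inl h
  · right
    have e : (n1 hK)⁻¹ * n = ((n0 K)⁻¹ * n1 hK)⁻¹ * ((n0 K)⁻¹ * n) := by group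
    rw [e]
    exact Subgroup.mul_mem _ (Subgroup.inv_mem _ (n0_inv_n1 hK)) h.1

/-- the fixed points of the twisting automorphism form the twisted group -/
theorem fixR_le_twisted (hK : Fintype.card K = 3 ^ (2 * m + 1)) :
    fixR hK ≤ twistedG2 K (3 ^ m) := by
  intro g hg
  obtain ⟨u1, hu1, n, hn, u2, hu2, rfl, f1, fn, f2⟩ := bruhat_fixR hK g hg
  have hu2U : u2 ∈ chevG2.posUnipotent K := uneg_le_pos chevG2 _ hu2
  have hu1G := pos_fix_mem_twisted hK u1 hu1 f1
  have hu2G := pos_fix_mem_twisted hK u2 hu2U f2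
  refine Subgroup.mul_mem _ (Subgroup.mul_mem _ hu1G ?_) hu2G
  rcases mono_fix_cases' hK n hn fn with h | h
  · exact diag_fix_mem_twisted hK n h fn
  · have hf' : (n1 hK)⁻¹ * n ∈ fixR hK :=
      Subgroup.mul_mem _ (Subgroup.inv_mem _ (n1_fix hK)) fn
    have := diag_fix_mem_twisted hK _ h hf'
    have e : n = n1 hK * ((n1 hK)⁻¹ * n) := by group
    rw [e]
    exact Subgroup.mul_mem _ (n1_twisted hK) this

theorem twisted_eq_fixR (hK : Fintype.card K = 3 ^ (2 * m + 1)) :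
    twistedG2 K (3 ^ m) = fixR hK :=
  le_antisymm (twisted_le_fixR hK) (fixR_le_twisted hK)

end

end Cfsg.Agent.Lib.Helper5.Ree
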