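import Cfsg.Agent.Lib.Helper5.Ree.Quat
import Cfsg.Agent.Lib.Helper5.Ree.GenFus
import Mathlib

/-!
# An explicit Sylow 2-subgroup of the small Ree group and its centraliser (helper5)

`E = ⟨a⟩ × V` with `a` the involution of `H¹` and `V` the image of the quaternion group of
`SL₂(3) ≤ SL₂(K)`; `C(E) = E`.
-/

set_option autoImplicit false
set_option maxRecDepth 100000

namespace Cfsg.Agent.Lib.Helper5.Ree

open Cfsg.Lie Cfsg.Agent.Lib.Helper5.Chev Cfsg.Agent.Lib.Helper5.GA Cfsg.Agent.Lib.Helper5.Tw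
open Cfsg.Agent.Lib.Helper5.Frob Cfsg.Agent.Lib.Helper5.SL2P

section

variable {K : Type*} [Field K] [Fintype K] [CharP K 3] {m : ℕ}

/-- the involution of `H¹`, in the twisted group -/
noncomputable def aG (K : Type*) [Field K] [Fintype K] [CharP K 3] (m : ℕ) :
    ↥(twistedG2 K (3 ^ m)) := ⟨zz K m, zz_mem⟩

/-- the image of `i` -/
noncomputable def bG (K : Type*) [Field K] [Fintype K] [CharP K 3] (m : ℕ) :
    ↥(twistedG2 K (3 ^ m)) := phiG K m (wq K)

/-- the image of `j` -/
noncomputable def cG (K : Type*) [Field K] [Fintype K] [CharP K 3] (m : ℕ) :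
    ↥(twistedG2 K (3 ^ m)) := phiG K m (d3 K)

/-- the image of the unipotent element of order 3 -/
noncomputable def oG (K : Type*) [Field K] [Fintype K] [CharP K 3] (m : ℕ) :
    ↥(twistedG2 K (3 ^ m)) := phiG K m (sx K 1)

/-- the elementary abelian subgroup of order 8 -/
noncomputable def E8 (K : Type*) [Field K] [Fintype K] [CharP K 3] (m : ℕ) :
    Subgroup ↥(twistedG2 K (3 ^ m)) := Subgroup.closure {aG K m, bG K m, cG K m}

theorem aG_sq : aG K m * aG K m = 1 := Subtype.ext zz_mul_self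

theorem bG_sq (hK : Fintype.card K = 3 ^ (2 * m + 1)) : bG K m * bG K m = 1 := by
  unfold bG
  rw [← map_mul, wq_sq, phiG_neg_one hK]

theorem cG_sq (hK : Fintype.card K = 3 ^ (2 * m + 1)) : cG K m * cG K m = 1 := by
  unfold cG d3
  rw [← map_mul, dq_sq, phiG_neg_one hK]

theorem aG_comm (hK : Fintype.card K = 3 ^ (2 * m + 1))
    (s : Matrix.SpecialLinearGroup (Fin 2) K) : Commute (aG K m) (phiG K m s) :=
  Subtype.ext (zz_comm_phiL hK s).eq

theorem bG_comm_cG (hK : Fintype.card K = 3 ^ (2 * m + 1)) : Commute (bG K m) (cG K m) := by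
  show bG K m * cG K m = cG K m * bG K m
  unfold bG cG d3
  rw [← map_mul, ← map_mul, wq_dq, phiG_neg hK]

theorem aG_mul_ne (hK : Fintype.card K = 3 ^ (2 * m + 1))
    (s : Matrix.SpecialLinearGroup (Fin 2) K) : aG K m * phiG K m s ≠ 1 :=
  zz_mul_phiG_ne_one hK s

theorem aG_ne_one (hK : Fintype.card K = 3 ^ (2 * m + 1)) : aG K m ≠ 1 := by
  have := aG_mul_ne (K := K) (m := m) hK 1
  rwa [map_one, mul_one] at this

theorem cG_ne_one (hK : Fintype.card K = 3 ^ (2 * m + 1)) : cG K m ≠ 1 :=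
  fun h => dq_ne 1 1 one_sq_add (phiG_ker hK _ h)

theorem bG_ne_one (hK : Fintype.card K = 3 ^ (2 * m + 1)) : bG K m ≠ 1 :=
  fun h => wq_ne (phiG_ker hK _ h)

theorem bG_mul_cG_ne_one (hK : Fintype.card K = 3 ^ (2 * m + 1)) : bG K m * cG K m ≠ 1 := by
  unfold bG cG d3
  rw [← map_mul]
  exact fun h => wq_dq_ne 1 1 one_sq_add (phiG_ker hK _ h)

/-- the structure of `E` -/
theorem E8_spec (hK : Fintype.card K = 3 ^ (2 * m + 1)) :
    Nat.card (E8 K m) = 8 ∧
    (∀ x ∈ E8 K m, x = 1 ∨ x = cG K m ∨ x = bG K m ∨ x = bG K m * cG K m ∨ x = aG K m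
      ∨ x = aG K m * cG K m ∨ x = aG K m * bG K m ∨ x = aG K m * (bG K m * cG K m)) ∧
    (∀ x ∈ E8 K m, ∀ y ∈ E8 K m, x * y = y * x) ∧ (∀ x ∈ E8 K m, x * x = 1) := by
  apply elem_abelian_8_closure (aG K m) (bG K m) (cG K m) aG_sq (bG_sq hK) (cG_sq hK)
    (aG_comm hK _) (aG_comm hK _) (bG_comm_cG hK) (cG_ne_one hK) (bG_ne_one hK)
    (bG_mul_cG_ne_one hK) (aG_ne_one hK) (aG_mul_ne hK _) (aG_mul_ne hK _)
  unfold bG cG
  rw [← map_mul]
  exact aG_mul_ne hK _

theorem aG_mem : aG K m ∈ E8 K m := Subgroup.subset_closure (by simp)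

theorem bG_mem : bG K m ∈ E8 K m := Subgroup.subset_closure (by simp)

theorem cG_mem : cG K m ∈ E8 K m := Subgroup.subset_closure (by simp)

/-- the centraliser of `a` -/
theorem cent_aG (hK : Fintype.card K = 3 ^ (2 * m + 1)) (g : ↥(twistedG2 K (3 ^ m)))
    (hg : aG K m * g = g * aG K m) :
    ∃ s : Matrix.SpecialLinearGroup (Fin 2) K, g = phiG K m s ∨ g = aG K m * phiG K m s := by
  have hc2 : zz K m * (g : GL chevG2.Idx K) * (zz K m)⁻¹ = (g : GL chevG2.Idx K) := by
    have : zz K m * (g : GL chevG2.Idx K) = (g : GL chevG2.Idx K) * zz K m :=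
      congrArg Subtype.val hg
    rw [this]
    group
  obtain ⟨s, hs | hs⟩ := cent_cases hK g g.2 hc2
  · exact ⟨s, Or.inl (Subtype.ext hs)⟩
  · exact ⟨s, Or.inr (Subtype.ext hs)⟩

/-- commuting images: the matrices commute up to sign -/
theorem comm_cases (hK : Fintype.card K = 3 ^ (2 * m + 1))
    (s q : Matrix.SpecialLinearGroup (Fin 2) K)
    (h : phiG K m s * phiG K m q = phiG K m q * phiG K m s) : s * q = q * s ∨ s * q = -(q * s) := by
  have h1 : phiG K m ((q * s)⁻¹ * (s * q)) = 1 := by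
    rw [map_mul, map_inv, map_mul, map_mul, h]
    group
  rcases phiG_ker hK _ h1 with h2 | h2
  · left
    have : s * q = (q * s) * ((q * s)⁻¹ * (s * q)) := by group
    rw [this, h2, mul_one]
  · right
    have : s * q = (q * s) * ((q * s)⁻¹ * (s * q)) := by group
    rw [this, h2, mul_neg, mul_one]

/-- the elements of `L` commuting with `V` lie in `V` -/
theorem phiG_quat (hK : Fintype.card K = 3 ^ (2 * m + 1))
    (s : Matrix.SpecialLinearGroup (Fin 2) K)
    (h1 : phiG K m s * bG K m = bG K m * phiG K m s)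
    (h2 : phiG K m s * cG K m = cG K m * phiG K m s) :
    phiG K m s = 1 ∨ phiG K m s = bG K m ∨ phiG K m s = cG K m
      ∨ phiG K m s = bG K m * cG K m := by
  rcases quat_cases s (comm_cases hK s _ h1) (comm_cases hK s _ h2) with
    (h | h) | (h | h) | (h | h) | (h | h)
  · left
    rw [h, map_one]
  · left
    rw [h, phiG_neg_one hK]
  · right; left
    rw [h]
    rfl
  · right; left
    rw [h, phiG_neg hK]
    rfl
  · right; right; left
    rw [h]
    rfl
  · right; right; left
    rw [h, phiG_neg hK]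
    rfl
  · right; right; right
    rw [h, map_mul]
    rfl
  · right; right; right
    rw [h, phiG_neg hK, map_mul]
    rfl

/-- `L ∩ E = V` -/
theorem phiG_mem_E8 (hK : Fintype.card K = 3 ^ (2 * m + 1))
    (s : Matrix.SpecialLinearGroup (Fin 2) K) (h : phiG K m s ∈ E8 K m) :
    phiG K m s = 1 ∨ phiG K m s = bG K m ∨ phiG K m s = cG K m
      ∨ phiG K m s = bG K m * cG K m := by
  have key : ∀ q : Matrix.SpecialLinearGroup (Fin 2) K,
      phiG K m s ≠ aG K m * phiG K m q := by
    intro q hq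
    apply aG_mul_ne (K := K) (m := m) hK (q * s⁻¹)
    rw [map_mul, map_inv, ← mul_assoc, ← hq, mul_inv_cancel]
  rcases (E8_spec hK).2.1 _ h with h | h | h | h | h | h | h | h
  · exact Or.inl h
  · exact Or.inr (Or.inr (Or.inl h))
  · exact Or.inr (Or.inl h)
  · exact Or.inr (Or.inr (Or.inr h))
  · exfalso
    apply key 1
    rw [map_one, mul_one]
    exact h
  · exact absurd h (key _)
  · exact absurd h (key _)
  · exfalso
    apply key (wq K * d3 K)
    rw [map_mul]
    exact h

/-- `E` is self-centralising -/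
theorem cent_E8 (hK : Fintype.card K = 3 ^ (2 * m + 1)) :
    Subgroup.centralizer (E8 K m : Set ↥(twistedG2 K (3 ^ m))) = E8 K m := by
  apply le_antisymm
  · intro g hg
    rw [Subgroup.mem_centralizer_iff] at hg
    have hbM : bG K m * cG K m ∈ E8 K m := Subgroup.mul_mem _ bG_mem cG_mem
    obtain ⟨s, hs | hs⟩ := cent_aG hK g (hg _ aG_mem)
    · have h1 : phiG K m s * bG K m = bG K m * phiG K m s := by
        rw [← hs]
        exact (hg _ bG_mem).symm
      have h2 : phiG K m s * cG K m = cG K m * phiG K m s := by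
        rw [← hs]
        exact (hg _ cG_mem).symm
      rw [hs]
      rcases phiG_quat hK s h1 h2 with h | h | h | h <;> rw [h]
      · exact Subgroup.one_mem _
      · exact bG_mem
      · exact cG_mem
      · exact hbM
    · have hga : phiG K m s = aG K m * g := by
        rw [hs, ← mul_assoc, aG_sq, one_mul]
      have hcomm : ∀ e ∈ E8 K m, phiG K m s * e = e * phiG K m s := by
        intro e he
        have h1 : aG K m * e = e * aG K m := (E8_spec hK).2.2.1 _ aG_mem _ he
        rw [hga, mul_assoc, ← hg e he, ← mul_assoc, h1, mul_assoc]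
      rw [hs]
      apply Subgroup.mul_mem _ aG_mem
      rcases phiG_quat hK s (hcomm _ bG_mem) (hcomm _ cG_mem) with h | h | h | h <;> rw [h]
      · exact Subgroup.one_mem _
      · exact bG_mem
      · exact cG_mem
      · exact hbM
  · intro g hg
    rw [Subgroup.mem_centralizer_iff]
    intro e he
    exact (E8_spec hK).2.2.1 _ he _ hg

end

end Cfsg.Agent.Lib.Helper5.Ree
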