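import Cfsg.Agent.Lib.Helper5.Ree.Norm2
import Mathlib

/-!
# The order of the normaliser of the explicit Sylow 2-subgroup of the small Ree group (helper5)
-/

set_option autoImplicit false
set_option maxRecDepth 100000

namespace Cfsg.Agent.Lib.Helper5.Ree

open Cfsg.Lie Cfsg.Agent.Lib.Helper5.Chev Cfsg.Agent.Lib.Helper5.GA Cfsg.Agent.Lib.Helper5.Tw
open Cfsg.Agent.Lib.Helper5.Frob Cfsg.Agent.Lib.Helper5.SL2P

theorem ncard_four {α : Type*} (w x y z : α) (h1 : w ≠ x) (h2 : w ≠ y) (h3 : w ≠ z) (h4 : x ≠ y)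
    (h5 : x ≠ z) (h6 : y ≠ z) : ({w, x, y, z} : Set α).ncard = 4 := by
  rw [Set.ncard_insert_of_notMem, Set.ncard_insert_of_notMem, Set.ncard_pair h6]
  · simp [h4, h5]
  · simp [h1, h2, h3]

theorem ncard_three {α : Type*} (x y z : α) (h4 : x ≠ y)
    (h5 : x ≠ z) (h6 : y ≠ z) : ({x, y, z} : Set α).ncard = 3 := by
  rw [Set.ncard_insert_of_notMem, Set.ncard_pair h6]
  simp [h4, h5]

section

variable {K : Type*} [Field K] [Fintype K] [CharP K 3] {m : ℕ}

theorem bG_ne_cG (hK : Fintype.card K = 3 ^ (2 * m + 1)) : bG K m ≠ cG K m :=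
  fun h => bG_mul_cG_ne_one hK (by rw [h, cG_sq hK])

theorem bG_ne_bc (hK : Fintype.card K = 3 ^ (2 * m + 1)) : bG K m ≠ bG K m * cG K m := by
  intro h
  apply cG_ne_one hK
  have : bG K m * 1 = bG K m * cG K m := by rw [mul_one]; exact h
  exact (mul_left_cancel this).symm

theorem cG_ne_bc (hK : Fintype.card K = 3 ^ (2 * m + 1)) : cG K m ≠ bG K m * cG K m := by
  intro h
  apply bG_ne_one hK
  have : 1 * cG K m = bG K m * cG K m := by rw [one_mul]; exact h
  exact (mul_right_cancel this).symm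

theorem mem_cent_singleton {G : Type*} [Group G] (g x : G) :
    g ∈ Subgroup.centralizer {x} ↔ x * g = g * x := by
  rw [Subgroup.mem_centralizer_iff]
  constructor
  · intro h
    exact h x rfl
  · intro h y hy
    rw [Set.mem_singleton_iff] at hy
    rw [hy]
    exact h

theorem E8_comm (hK : Fintype.card K = 3 ^ (2 * m + 1)) {x y : ↥(twistedG2 K (3 ^ m))}
    (hx : x ∈ E8 K m) (hy : y ∈ E8 K m) : x * y = y * x := (E8_spec hK).2.2.1 x hx y hy

/-- `N(E) ∩ C(a) ∩ C(b)` has order 8 -/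
theorem card_H3 (hK : Fintype.card K = 3 ^ (2 * m + 1)) :
    Nat.card ↥(N8 K m ⊓ Subgroup.centralizer {aG K m} ⊓ Subgroup.centralizer {bG K m}) = 8 := by
  have := finite_twisted (K := K) (m := m) hK
  obtain ⟨k, hk, hcard⟩ := card_twisted_eight (K := K) (m := m) hK
  have hE_le : E8 K m
      ≤ N8 K m ⊓ Subgroup.centralizer {aG K m} ⊓ Subgroup.centralizer {bG K m} := by
    intro e he
    refine ⟨⟨E8_le_N8 he, ?_⟩, ?_⟩
    · exact (mem_cent_singleton _ _).2 (E8_comm hK aG_mem he)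
    · exact (mem_cent_singleton _ _).2 (E8_comm hK bG_mem he)
  have hstab : N8 K m ⊓ Subgroup.centralizer {aG K m} ⊓ Subgroup.centralizer {bG K m}
      ⊓ Subgroup.centralizer {cG K m} = E8 K m := by
    apply le_antisymm
    · intro g hg
      rw [← cent_E8 hK, Subgroup.mem_centralizer_iff]
      have hle : E8 K m ≤ Subgroup.centralizer {g} := by
        unfold E8
        rw [Subgroup.closure_le]
        rintro x (rfl | rfl | rfl)
        · exact (mem_cent_singleton _ _).2 ((mem_cent_singleton _ _).1 hg.1.1.2).symm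
        · exact (mem_cent_singleton _ _).2 ((mem_cent_singleton _ _).1 hg.1.2).symm
        · exact (mem_cent_singleton _ _).2 ((mem_cent_singleton _ _).1 hg.2).symm
      intro e he
      exact ((mem_cent_singleton _ _).1 (hle he)).symm
    · intro e he
      exact ⟨hE_le he, (mem_cent_singleton _ _).2 (E8_comm hK cG_mem he)⟩
  have horb := card_conj_orbit
    (N8 K m ⊓ Subgroup.centralizer {aG K m} ⊓ Subgroup.centralizer {bG K m}) (cG K m)
  rw [hstab, (E8_spec hK).1] at horb
  have hsub : {y | ∃ h ∈ N8 K m ⊓ Subgroup.centralizer {aG K m} ⊓ Subgroup.centralizer {bG K m},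
      y = h * cG K m * h⁻¹} ⊆ ({cG K m, bG K m * cG K m} : Set ↥(twistedG2 K (3 ^ m))) := by
    rintro y ⟨h, hh, rfl⟩
    have hb : h * bG K m * h⁻¹ = bG K m := by
      have := (mem_cent_singleton _ _).1 hh.2
      rw [← this]
      group
    rcases N8a_conj hK h hh.1 (d3 K) cG_mem (cG_ne_one hK) with h1 | h1 | h1
    · exfalso
      apply bG_ne_cG hK
      have e : h * cG K m * h⁻¹ = h * bG K m * h⁻¹ := by
        rw [hb]
        exact h1
      exact (mul_left_cancel (mul_right_cancel e)).symm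
    · left
      exact h1
    · right
      exact h1
  have hle2 : Set.ncard {y | ∃ h ∈ N8 K m ⊓ Subgroup.centralizer {aG K m}
      ⊓ Subgroup.centralizer {bG K m}, y = h * cG K m * h⁻¹} ≤ 2 :=
    (Set.ncard_le_ncard hsub (Set.toFinite _)).trans (by rw [Set.ncard_pair (cG_ne_bc hK)])
  have hpos : 0 < Set.ncard {y | ∃ h ∈ N8 K m ⊓ Subgroup.centralizer {aG K m}
      ⊓ Subgroup.centralizer {bG K m}, y = h * cG K m * h⁻¹} :=
    (Set.ncard_pos (Set.toFinite _)).2 ⟨cG K m, 1, Subgroup.one_mem _, by simp⟩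
  obtain ⟨j, hj, hcj⟩ := card_eq_eight_mul_odd (E8 K m) _ hE_le k hk hcard (E8_spec hK).1
  rw [hcj] at horb
  obtain ⟨r, hr⟩ := hj
  rw [hcj]
  omega

/-- `N(E) ∩ C(a)` has order 24 -/
theorem card_H2 (hK : Fintype.card K = 3 ^ (2 * m + 1)) :
    Nat.card ↥(N8 K m ⊓ Subgroup.centralizer {aG K m}) = 24 := by
  have := finite_twisted (K := K) (m := m) hK
  have horb := card_conj_orbit (N8 K m ⊓ Subgroup.centralizer {aG K m}) (bG K m)
  rw [card_H3 hK] at horb
  have hoM : oG K m ∈ N8 K m ⊓ Subgroup.centralizer {aG K m} :=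
    ⟨oG_mem_normalizer hK, (mem_cent_singleton _ _).2 (aG_comm hK (sx K 1)).eq⟩
  have hO : {y | ∃ h ∈ N8 K m ⊓ Subgroup.centralizer {aG K m}, y = h * bG K m * h⁻¹}
      = ({bG K m, cG K m, bG K m * cG K m} : Set ↥(twistedG2 K (3 ^ m))) := by
    apply Set.Subset.antisymm
    · rintro y ⟨h, hh, rfl⟩
      rcases N8a_conj hK h hh (wq K) bG_mem (bG_ne_one hK) with h1 | h1 | h1
      · left
        exact h1
      · right; left
        exact h1
      · right; right
        exact h1
    · rintro y (rfl | rfl | rfl)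
      · exact ⟨1, Subgroup.one_mem _, by simp⟩
      · exact ⟨oG K m, hoM, (oG_conj_bG hK).symm⟩
      · refine ⟨oG K m * oG K m, Subgroup.mul_mem _ hoM hoM, ?_⟩
        have e : oG K m * oG K m * bG K m * (oG K m * oG K m)⁻¹
            = oG K m * (oG K m * bG K m * (oG K m)⁻¹) * (oG K m)⁻¹ := by group
        rw [e, oG_conj_bG hK, oG_conj_cG hK]
  rw [hO, ncard_three _ _ _ (bG_ne_cG hK) (bG_ne_bc hK) (cG_ne_bc hK)] at horb
  rw [horb]

end

end Cfsg.Agent.Lib.Helper5.Ree
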