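import Cfsg.Agent.Lib.Helper5.Ree.Norm3
import Mathlib

/-!
# `|N(E)| = 168` in the small Ree group (helper5)
-/

set_option autoImplicit false
set_option maxRecDepth 100000

namespace Cfsg.Agent.Lib.Helper5.Ree

open Cfsg.Lie Cfsg.Agent.Lib.Helper5.Chev Cfsg.Agent.Lib.Helper5.GA Cfsg.Agent.Lib.Helper5.Tw
open Cfsg.Agent.Lib.Helper5.Frob Cfsg.Agent.Lib.Helper5.SL2P

section

variable {K : Type*} [Field K] [Fintype K] [CharP K 3] {m : ℕ}

theorem mul_ne_of_ne {G : Type*} [Group G] {a x y : G} (h : x ≠ y) : a * x ≠ a * y :=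
  fun e => h (mul_left_cancel e)

theorem bc_sq (hK : Fintype.card K = 3 ^ (2 * m + 1)) :
    bG K m * cG K m * (bG K m * cG K m) = 1 :=
  (E8_spec hK).2.2.2 _ (Subgroup.mul_mem _ bG_mem cG_mem)

theorem aG_ne_of_sq (hK : Fintype.card K = 3 ^ (2 * m + 1))
    (s : Matrix.SpecialLinearGroup (Fin 2) K) (hs : phiG K m s * phiG K m s = 1) :
    aG K m ≠ phiG K m s := by
  intro h
  apply aG_mul_ne (K := K) (m := m) hK s
  rw [h, hs]

/-- if the involution `a` is fixed by `N(E)` then the group is not perfect -/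
theorem not_perfect_of_fixed (hK : Fintype.card K = 3 ^ (2 * m + 1))
    (hfix : ∀ n ∈ N8 K m, n * aG K m * n⁻¹ = aG K m) :
    commutator ↥(twistedG2 K (3 ^ m)) ≠ ⊤ := by
  have := finite_twisted (K := K) (m := m) hK
  have : Fact (Nat.Prime 2) := ⟨Nat.prime_two⟩
  obtain ⟨k, hk, hcard⟩ := card_twisted_eight (K := K) (m := m) hK
  have hE := (E8_spec hK).1
  have hP : IsPGroup 2 (E8 K m) := IsPGroup.of_card (n := 3) (by rw [hE]; norm_num)
  have hidx : (E8 K m).index = k := by
    have h1 := Subgroup.card_mul_index (E8 K m)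
    rw [hE, hcard] at h1
    exact Nat.eq_of_mul_eq_mul_left (by norm_num) h1
  have hidx2 : ¬ 2 ∣ (E8 K m).index := by
    rw [hidx]
    intro h
    exact (Nat.not_even_iff_odd.2 hk) (even_iff_two_dvd.2 h)
  have hcomm : IsMulCommutative ↥(hP.toSylow hidx2) :=
    ⟨⟨fun x y => Subtype.ext ((E8_spec hK).2.2.1 x x.2 y y.2)⟩⟩
  apply not_perfect_of_isolated (E8 K m) (E8_spec hK).2.2.1 (hidx ▸ hk) (aG K m) aG_sq
    (aG_ne_one hK)
  intro g hg
  obtain ⟨n, hn, e⟩ := Sylow.conj_eq_normalizer_conj_of_mem (hP.toSylow hidx2) (aG K m) g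
    aG_mem hg
  rw [e]
  have hn' : n⁻¹ ∈ N8 K m := Subgroup.inv_mem _ hn
  have := hfix _ hn'
  rwa [inv_inv] at this

/-- the normaliser of `E` has order 168 -/
theorem card_N8 (hK : Fintype.card K = 3 ^ (2 * m + 1)) (hm : 1 ≤ m) :
    Nat.card ↥(N8 K m) = 168 := by
  have := finite_twisted (K := K) (m := m) hK
  obtain ⟨k, hk, hcard⟩ := card_twisted_eight (K := K) (m := m) hK
  have horb := card_conj_orbit (N8 K m) (aG K m)
  rw [card_H2 hK] at horb
  obtain ⟨j, hj, hcj⟩ := card_eq_eight_mul_odd (E8 K m) (N8 K m) E8_le_N8 k hk hcard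
    (E8_spec hK).1
  have hodd : Odd (Set.ncard {y | ∃ h ∈ N8 K m, y = h * aG K m * h⁻¹}) := by
    have h1 : Set.ncard {y | ∃ h ∈ N8 K m, y = h * aG K m * h⁻¹} * 3 = j := by omega
    by_contra hne
    rw [Nat.not_odd_iff_even] at hne
    have h2 : Even j := h1 ▸ hne.mul_right 3
    exact (Nat.not_even_iff_odd.2 hj) h2
  have haO : aG K m ∈ {y | ∃ h ∈ N8 K m, y = h * aG K m * h⁻¹} :=
    ⟨1, Subgroup.one_mem _, by simp⟩
  have hOE : ∀ y ∈ {y | ∃ h ∈ N8 K m, y = h * aG K m * h⁻¹}, y ∈ E8 K m ∧ y ≠ 1 := by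
    rintro y ⟨h, hh, rfl⟩
    refine ⟨N8_conj_mem hh aG_mem, ?_⟩
    intro e
    apply aG_ne_one (K := K) (m := m) hK
    have : aG K m = h⁻¹ * (h * aG K m * h⁻¹) * h := by group
    rw [this, e]
    group
  have hoO : ∀ y ∈ {y | ∃ h ∈ N8 K m, y = h * aG K m * h⁻¹},
      oG K m * y * (oG K m)⁻¹ ∈ {y | ∃ h ∈ N8 K m, y = h * aG K m * h⁻¹} := by
    rintro y ⟨h, hh, rfl⟩
    exact ⟨oG K m * h, Subgroup.mul_mem _ (oG_mem_normalizer hK) hh, by group⟩
  have hb_c : bG K m ∈ {y | ∃ h ∈ N8 K m, y = h * aG K m * h⁻¹}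
      → cG K m ∈ {y | ∃ h ∈ N8 K m, y = h * aG K m * h⁻¹} := by
    intro h
    have := hoO _ h
    rwa [oG_conj_bG hK] at this
  have hc_bc : cG K m ∈ {y | ∃ h ∈ N8 K m, y = h * aG K m * h⁻¹}
      → bG K m * cG K m ∈ {y | ∃ h ∈ N8 K m, y = h * aG K m * h⁻¹} := by
    intro h
    have := hoO _ h
    rwa [oG_conj_cG hK] at this
  have hbc_b : bG K m * cG K m ∈ {y | ∃ h ∈ N8 K m, y = h * aG K m * h⁻¹}
      → bG K m ∈ {y | ∃ h ∈ N8 K m, y = h * aG K m * h⁻¹} := by
    intro h
    have := hoO _ h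
    rwa [oG_conj_bcG hK] at this
  have hab_ac : aG K m * bG K m ∈ {y | ∃ h ∈ N8 K m, y = h * aG K m * h⁻¹}
      → aG K m * cG K m ∈ {y | ∃ h ∈ N8 K m, y = h * aG K m * h⁻¹} := by
    intro h
    have := hoO _ h
    rwa [conj_mul', oG_conj_aG hK, oG_conj_bG hK] at this
  have hac_abc : aG K m * cG K m ∈ {y | ∃ h ∈ N8 K m, y = h * aG K m * h⁻¹}
      → aG K m * (bG K m * cG K m) ∈ {y | ∃ h ∈ N8 K m, y = h * aG K m * h⁻¹} := by
    intro h
    have := hoO _ h
    rwa [conj_mul', oG_conj_aG hK, oG_conj_cG hK] at this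
  have habc_ab : aG K m * (bG K m * cG K m) ∈ {y | ∃ h ∈ N8 K m, y = h * aG K m * h⁻¹}
      → aG K m * bG K m ∈ {y | ∃ h ∈ N8 K m, y = h * aG K m * h⁻¹} := by
    intro h
    have := hoO _ h
    rwa [conj_mul', oG_conj_aG hK, oG_conj_bcG hK] at this
  -- distinctness
  have hbcM : bG K m * cG K m = phiG K m (wq K * d3 K) := by
    unfold bG cG
    rw [map_mul]
  have d_ab : aG K m ≠ bG K m := aG_ne_of_sq hK _ (bG_sq hK)
  have d_ac : aG K m ≠ cG K m := aG_ne_of_sq hK _ (cG_sq hK)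
  have d_abc : aG K m ≠ bG K m * cG K m := by
    rw [hbcM]
    apply aG_ne_of_sq hK
    rw [← hbcM]
    exact bc_sq hK
  by_cases hP : bG K m ∈ {y | ∃ h ∈ N8 K m, y = h * aG K m * h⁻¹} <;>
    by_cases hR : aG K m * bG K m ∈ {y | ∃ h ∈ N8 K m, y = h * aG K m * h⁻¹}
  · -- transitive
    have hOeq : {y | ∃ h ∈ N8 K m, y = h * aG K m * h⁻¹}
        = (E8 K m : Set ↥(twistedG2 K (3 ^ m))) \ {1} := by
      apply Set.Subset.antisymm
      · intro y hy
        exact ⟨(hOE y hy).1, (hOE y hy).2⟩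
      · rintro y ⟨hyE, hy1⟩
        rcases (E8_spec hK).2.1 y hyE with h | h | h | h | h | h | h | h
        · exact absurd h hy1
        · rw [h]
          exact hb_c hP
        · rw [h]
          exact hP
        · rw [h]
          exact hc_bc (hb_c hP)
        · rw [h]
          exact haO
        · rw [h]
          exact hab_ac hR
        · rw [h]
          exact hR
        · rw [h]
          exact hac_abc (hab_ac hR)
    have hn7 : Set.ncard {y | ∃ h ∈ N8 K m, y = h * aG K m * h⁻¹} = 7 := by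
      rw [hOeq, Set.ncard_sdiff_singleton_of_mem (Subgroup.one_mem _), ← Nat.card_coe_set_eq]
      have : Nat.card ↥((E8 K m : Set ↥(twistedG2 K (3 ^ m)))) = 8 := (E8_spec hK).1
      rw [this]
    rw [hn7] at horb
    rw [horb]
  · exfalso
    have hOeq : {y | ∃ h ∈ N8 K m, y = h * aG K m * h⁻¹}
        = ({aG K m, bG K m, cG K m, bG K m * cG K m} : Set ↥(twistedG2 K (3 ^ m))) := by
      apply Set.Subset.antisymm
      · intro y hy
        rcases (E8_spec hK).2.1 y (hOE y hy).1 with h | h | h | h | h | h | h | h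
        · exact absurd h (hOE y hy).2
        · rw [h]; simp
        · rw [h]; simp
        · rw [h]; simp
        · rw [h]; simp
        · exact absurd (habc_ab (hac_abc (h ▸ hy))) hR
        · exact absurd (h ▸ hy) hR
        · exact absurd (habc_ab (h ▸ hy)) hR
      · rintro y (rfl | rfl | rfl | rfl)
        · exact haO
        · exact hP
        · exact hb_c hP
        · exact hc_bc (hb_c hP)
    rw [hOeq, ncard_four _ _ _ _ d_ab d_ac d_abc (bG_ne_cG hK) (bG_ne_bc hK) (cG_ne_bc hK)]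
      at hodd
    exact absurd hodd (by decide)
  · exfalso
    have hOeq : {y | ∃ h ∈ N8 K m, y = h * aG K m * h⁻¹}
        = ({aG K m, aG K m * bG K m, aG K m * cG K m, aG K m * (bG K m * cG K m)}
          : Set ↥(twistedG2 K (3 ^ m))) := by
      apply Set.Subset.antisymm
      · intro y hy
        rcases (E8_spec hK).2.1 y (hOE y hy).1 with h | h | h | h | h | h | h | h
        · exact absurd h (hOE y hy).2
        · exact absurd (hbc_b (hc_bc (h ▸ hy))) hP
        · exact absurd (h ▸ hy) hP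
        · exact absurd (hbc_b (h ▸ hy)) hP
        · rw [h]; simp
        · rw [h]; simp
        · rw [h]; simp
        · rw [h]; simp
      · rintro y (rfl | rfl | rfl | rfl)
        · exact haO
        · exact hR
        · exact hab_ac hR
        · exact hac_abc (hab_ac hR)
    have e1 : aG K m ≠ aG K m * bG K m := by
      intro h
      apply bG_ne_one (K := K) (m := m) hK
      have : aG K m * 1 = aG K m * bG K m := by rw [mul_one]; exact h
      exact (mul_left_cancel this).symm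
    have e2 : aG K m ≠ aG K m * cG K m := by
      intro h
      apply cG_ne_one (K := K) (m := m) hK
      have : aG K m * 1 = aG K m * cG K m := by rw [mul_one]; exact h
      exact (mul_left_cancel this).symm
    have e3 : aG K m ≠ aG K m * (bG K m * cG K m) := by
      intro h
      apply bG_mul_cG_ne_one (K := K) (m := m) hK
      have : aG K m * 1 = aG K m * (bG K m * cG K m) := by rw [mul_one]; exact h
      exact (mul_left_cancel this).symm
    rw [hOeq, ncard_four _ _ _ _ e1 e2 e3 (mul_ne_of_ne (bG_ne_cG hK))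
      (mul_ne_of_ne (bG_ne_bc hK)) (mul_ne_of_ne (cG_ne_bc hK))] at hodd
    exact absurd hodd (by decide)
  · exfalso
    apply not_perfect_of_fixed hK _ (twisted_perfect hK hm)
    intro n hn
    have hy : n * aG K m * n⁻¹ ∈ {y | ∃ h ∈ N8 K m, y = h * aG K m * h⁻¹} := ⟨n, hn, rfl⟩
    rcases (E8_spec hK).2.1 _ (hOE _ hy).1 with h | h | h | h | h | h | h | h
    · exact absurd h (hOE _ hy).2
    · exact absurd (hbc_b (hc_bc (h ▸ hy))) hP
    · exact absurd (h ▸ hy) hP
    · exact absurd (hbc_b (h ▸ hy)) hP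
    · exact h
    · exact absurd (habc_ab (hac_abc (h ▸ hy))) hR
    · exact absurd (h ▸ hy) hR
    · exact absurd (habc_ab (h ▸ hy)) hR

end

end Cfsg.Agent.Lib.Helper5.Ree
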