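import Cfsg.Agent.Lib.Helper5.Ree.Norm4
import Mathlib

/-!
# Sylow 2-subgroups of the small Ree group: self-centralising, normaliser of order 168 (helper5)
-/

set_option autoImplicit false
set_option maxRecDepth 100000

namespace Cfsg.Agent.Lib.Helper5.Ree

open Cfsg.Lie Cfsg.Agent.Lib.Helper5.Chev Cfsg.Agent.Lib.Helper5.GA Cfsg.Agent.Lib.Helper5.Tw
open Cfsg.Agent.Lib.Helper5.Frob Cfsg.Agent.Lib.Helper5.SL2P
open scoped Pointwise

/-- centraliser and normaliser of a conjugate subgroup -/
theorem conj_transport {G : Type*} [Group G] (E S : Subgroup G) (g : G)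
    (hS : ∀ x, x ∈ S ↔ g⁻¹ * x * g ∈ E) :
    (Subgroup.centralizer (E : Set G) = E → Subgroup.centralizer (S : Set G) = S) ∧
    Nat.card (Subgroup.normalizer (S : Set G)) = Nat.card (Subgroup.normalizer (E : Set G)) := by
  constructor
  · intro hC
    ext x
    constructor
    · intro hx
      rw [Subgroup.mem_centralizer_iff] at hx
      rw [hS x, ← hC, Subgroup.mem_centralizer_iff]
      intro e he
      have hs : g * e * g⁻¹ ∈ S := by
        rw [hS]
        have : g⁻¹ * (g * e * g⁻¹) * g = e := by group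
        rw [this]
        exact he
      have h1 := hx _ hs
      calc e * (g⁻¹ * x * g) = g⁻¹ * (g * e * g⁻¹ * x) * g := by group
        _ = g⁻¹ * (x * (g * e * g⁻¹)) * g := by rw [h1]
        _ = g⁻¹ * x * g * e := by group
    · intro hx
      rw [Subgroup.mem_centralizer_iff]
      intro s hs
      have h1 : g⁻¹ * x * g ∈ Subgroup.centralizer (E : Set G) := by
        rw [hC]
        exact (hS x).1 hx
      rw [Subgroup.mem_centralizer_iff] at h1
      have h2 := h1 _ ((hS s).1 hs)
      calc s * x = g * (g⁻¹ * s * g * (g⁻¹ * x * g)) * g⁻¹ := by group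
        _ = g * (g⁻¹ * x * g * (g⁻¹ * s * g)) * g⁻¹ := by rw [h2]
        _ = x * s := by group
  · have hSE : S = E.map (MulAut.conj g).toMonoidHom := by
      ext x
      rw [Subgroup.mem_map_equiv, hS x, MulAut.conj_symm_apply]
    rw [hSE, ← Subgroup.map_equiv_normalizer_eq,
      Subgroup.card_map_of_injective (MulEquiv.injective _)]

section

variable {K : Type*} [Field K] [Fintype K] [CharP K 3] {m : ℕ}

/-- a Sylow 2-subgroup of the small Ree group is self-centralising and its normaliser has order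
168 -/
theorem sylow_cent_norm (hK : Fintype.card K = 3 ^ (2 * m + 1)) (hm : 1 ≤ m)
    (S : Sylow 2 ↥(twistedG2 K (3 ^ m))) :
    Subgroup.centralizer ((S : Subgroup ↥(twistedG2 K (3 ^ m))) : Set ↥(twistedG2 K (3 ^ m)))
        = S ∧
      Nat.card (Subgroup.normalizer
        ((S : Subgroup ↥(twistedG2 K (3 ^ m))) : Set ↥(twistedG2 K (3 ^ m)))) = 168 := by
  have := finite_twisted (K := K) (m := m) hK
  have : Fact (Nat.Prime 2) := ⟨Nat.prime_two⟩
  obtain ⟨k, hk, hcard⟩ := card_twisted_eight (K := K) (m := m) hK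
  have hE := (E8_spec hK).1
  have hP : IsPGroup 2 (E8 K m) := IsPGroup.of_card (n := 3) (by rw [hE]; norm_num)
  have hidx : (E8 K m).index = k := by
    have h1 := Subgroup.card_mul_index (E8 K m)
    rw [hE, hcard] at h1
    exact Nat.eq_of_mul_eq_mul_left (by norm_num) h1
  have hidx2 : ¬ 2 ∣ (E8 K m).index := by
    rw [hidx]
    intro h
    exact (Nat.not_even_iff_odd.2 hk) (even_iff_two_dvd.2 h)
  obtain ⟨g, hg⟩ := MulAction.exists_smul_eq ↥(twistedG2 K (3 ^ m)) (hP.toSylow hidx2) S
  have hS : ∀ x, x ∈ (S : Subgroup ↥(twistedG2 K (3 ^ m))) ↔ g⁻¹ * x * g ∈ E8 K m := by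
    intro x
    have h1 : x ∈ (S : Subgroup ↥(twistedG2 K (3 ^ m))) ↔ x ∈ MulAut.conj g • (E8 K m) := by
      rw [← hg]
      rfl
    rw [h1, Subgroup.mem_pointwise_smul_iff_inv_smul_mem, MulAut.smul_def, MulAut.conj_inv_apply]
  obtain ⟨h1, h2⟩ := conj_transport (E8 K m) (S : Subgroup ↥(twistedG2 K (3 ^ m))) g hS
  refine ⟨h1 (cent_E8 hK), ?_⟩
  rw [h2]
  exact card_N8 hK hm

end

end Cfsg.Agent.Lib.Helper5.Ree
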