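import Cfsg.Agent.Lib.Helper5.Ree.Syl2
import Mathlib

/-!
# The quaternion group in `SL₂(K)` in characteristic 3 (helper5)

The matrices `i = [[0, 1], [-1, 0]]` and `j = [[1, 1], [1, -1]]` generate a quaternion group; the
elements of `SL₂(K)` commuting with both up to sign are the eight elements of this group, and the
unipotent element `[[1, 1], [0, 1]]` permutes `i, j, ij` cyclically up to sign.
-/

set_option autoImplicit false

namespace Cfsg.Agent.Lib.Helper5.Ree
open Cfsg.Lie Cfsg.Agent.Lib.Helper5.SL2P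

variable {K : Type*} [Field K] [CharP K 3]

theorem one_sq_add : (1 : K) ^ 2 + 1 ^ 2 = -1 := by
  have := three_eq_zero (K := K)
  linear_combination this

/-- the matrix `[[1, 1], [1, -1]]` -/
def d3 (K : Type*) [Field K] [CharP K 3] : Matrix.SpecialLinearGroup (Fin 2) K :=
  dq 1 1 one_sq_add

theorem d3_val : ((d3 K : Matrix.SpecialLinearGroup (Fin 2) K) : Matrix (Fin 2) (Fin 2) K)
    = !![1, 1; 1, -1] := rfl

theorem wq_d3_val :
    ((wq K * d3 K : Matrix.SpecialLinearGroup (Fin 2) K) : Matrix (Fin 2) (Fin 2) K)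
      = !![1, -1; -1, -1] := wq_dq_val 1 1 one_sq_add

omit [CharP K 3] in
theorem sl_eq_of_entries (s q : Matrix.SpecialLinearGroup (Fin 2) K)
    (h00 : (s : Matrix (Fin 2) (Fin 2) K) 0 0 = (q : Matrix (Fin 2) (Fin 2) K) 0 0)
    (h01 : (s : Matrix (Fin 2) (Fin 2) K) 0 1 = (q : Matrix (Fin 2) (Fin 2) K) 0 1)
    (h10 : (s : Matrix (Fin 2) (Fin 2) K) 1 0 = (q : Matrix (Fin 2) (Fin 2) K) 1 0)
    (h11 : (s : Matrix (Fin 2) (Fin 2) K) 1 1 = (q : Matrix (Fin 2) (Fin 2) K) 1 1) : s = q := by
  apply Subtype.ext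
  ext i j
  fin_cases i <;> fin_cases j
  · exact h00
  · exact h01
  · exact h10
  · exact h11

omit [CharP K 3] in
theorem sq_one_cases (p : K) (h : p ^ 2 = 1) : p = 1 ∨ p = -1 := by
  have h0 : (p - 1) * (p + 1) = 0 := by linear_combination h
  rcases mul_eq_zero.1 h0 with h | h
  · left
    exact sub_eq_zero.1 h
  · right
    linear_combination h

omit [CharP K 3] in
theorem mul_wq_val (s : Matrix.SpecialLinearGroup (Fin 2) K) :
    ((s * wq K : Matrix.SpecialLinearGroup (Fin 2) K) : Matrix (Fin 2) (Fin 2) K)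
      = !![-(s : Matrix (Fin 2) (Fin 2) K) 0 1, (s : Matrix (Fin 2) (Fin 2) K) 0 0;
          -(s : Matrix (Fin 2) (Fin 2) K) 1 1, (s : Matrix (Fin 2) (Fin 2) K) 1 0] := by
  rw [Matrix.SpecialLinearGroup.coe_mul, wq_val]
  nth_rewrite 1 [Matrix.eta_fin_two (s : Matrix (Fin 2) (Fin 2) K)]
  rw [Matrix.mul_fin_two]
  ext i j
  fin_cases i <;> fin_cases j <;> simp

omit [CharP K 3] in
theorem wq_mul_val (s : Matrix.SpecialLinearGroup (Fin 2) K) :
    ((wq K * s : Matrix.SpecialLinearGroup (Fin 2) K) : Matrix (Fin 2) (Fin 2) K)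
      = !![(s : Matrix (Fin 2) (Fin 2) K) 1 0, (s : Matrix (Fin 2) (Fin 2) K) 1 1;
          -(s : Matrix (Fin 2) (Fin 2) K) 0 0, -(s : Matrix (Fin 2) (Fin 2) K) 0 1] := by
  rw [Matrix.SpecialLinearGroup.coe_mul, wq_val]
  nth_rewrite 1 [Matrix.eta_fin_two (s : Matrix (Fin 2) (Fin 2) K)]
  rw [Matrix.mul_fin_two]
  ext i j
  fin_cases i <;> fin_cases j <;> simp

theorem mul_d3_val (s : Matrix.SpecialLinearGroup (Fin 2) K) :
    ((s * d3 K : Matrix.SpecialLinearGroup (Fin 2) K) : Matrix (Fin 2) (Fin 2) K)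
      = !![(s : Matrix (Fin 2) (Fin 2) K) 0 0 + (s : Matrix (Fin 2) (Fin 2) K) 0 1,
            (s : Matrix (Fin 2) (Fin 2) K) 0 0 - (s : Matrix (Fin 2) (Fin 2) K) 0 1;
          (s : Matrix (Fin 2) (Fin 2) K) 1 0 + (s : Matrix (Fin 2) (Fin 2) K) 1 1,
            (s : Matrix (Fin 2) (Fin 2) K) 1 0 - (s : Matrix (Fin 2) (Fin 2) K) 1 1] := by
  rw [Matrix.SpecialLinearGroup.coe_mul, d3_val]
  nth_rewrite 1 [Matrix.eta_fin_two (s : Matrix (Fin 2) (Fin 2) K)]
  rw [Matrix.mul_fin_two]
  ext i j
  fin_cases i <;> fin_cases j <;> simp <;> ring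

theorem d3_mul_val (s : Matrix.SpecialLinearGroup (Fin 2) K) :
    ((d3 K * s : Matrix.SpecialLinearGroup (Fin 2) K) : Matrix (Fin 2) (Fin 2) K)
      = !![(s : Matrix (Fin 2) (Fin 2) K) 0 0 + (s : Matrix (Fin 2) (Fin 2) K) 1 0,
            (s : Matrix (Fin 2) (Fin 2) K) 0 1 + (s : Matrix (Fin 2) (Fin 2) K) 1 1;
          (s : Matrix (Fin 2) (Fin 2) K) 0 0 - (s : Matrix (Fin 2) (Fin 2) K) 1 0,
            (s : Matrix (Fin 2) (Fin 2) K) 0 1 - (s : Matrix (Fin 2) (Fin 2) K) 1 1] := by
  rw [Matrix.SpecialLinearGroup.coe_mul, d3_val]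
  nth_rewrite 1 [Matrix.eta_fin_two (s : Matrix (Fin 2) (Fin 2) K)]
  rw [Matrix.mul_fin_two]
  ext i j
  fin_cases i <;> fin_cases j <;> simp <;> ring


/-- the elements of `SL₂(K)` commuting up to sign with the two generators of the quaternion
group -/
theorem quat_cases (s : Matrix.SpecialLinearGroup (Fin 2) K)
    (h1 : s * wq K = wq K * s ∨ s * wq K = -(wq K * s))
    (h2 : s * d3 K = d3 K * s ∨ s * d3 K = -(d3 K * s)) :
    (s = 1 ∨ s = -1) ∨ (s = wq K ∨ s = -wq K) ∨ (s = d3 K ∨ s = -d3 K)
      ∨ (s = wq K * d3 K ∨ s = -(wq K * d3 K)) := by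
  have h3 := three_eq_zero (K := K)
  have hdet := s.2
  rw [Matrix.det_fin_two] at hdet
  obtain ⟨p, hp⟩ : ∃ p, (s : Matrix (Fin 2) (Fin 2) K) 0 0 = p := ⟨_, rfl⟩
  obtain ⟨r, hr⟩ : ∃ r, (s : Matrix (Fin 2) (Fin 2) K) 0 1 = r := ⟨_, rfl⟩
  obtain ⟨t, ht⟩ : ∃ t, (s : Matrix (Fin 2) (Fin 2) K) 1 0 = t := ⟨_, rfl⟩
  obtain ⟨u, hu⟩ : ∃ u, (s : Matrix (Fin 2) (Fin 2) K) 1 1 = u := ⟨_, rfl⟩
  rw [hp, hr, ht, hu] at hdet
  rcases h1 with h1 | h1 <;> rcases h2 with h2 | h2
  · left
    have e1 := congrArg Subtype.val h1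
    have e2 := congrArg Subtype.val h2
    rw [mul_wq_val, wq_mul_val, hp, hr, ht, hu] at e1
    rw [mul_d3_val, d3_mul_val, hp, hr, ht, hu] at e2
    have a00 : -r = t := by
      have := congrFun (congrFun e1 0) 0
      simpa using this
    have a01 : p = u := by
      have := congrFun (congrFun e1 0) 1
      simpa using this
    have b00 : r = t := by
      have := congrFun (congrFun e2 0) 0
      simpa using this
    have hr0 : r = 0 := by linear_combination r * h3 - b00 + a00
    have ht0 : t = 0 := by rw [← b00, hr0]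
    have hp2 : p ^ 2 = 1 := by
      rw [← a01, hr0, ht0] at hdet
      linear_combination hdet
    rcases sq_one_cases p hp2 with h | h
    · left
      apply sl_eq_of_entries
      · rw [hp, h]; simp
      · rw [hr, hr0]; simp
      · rw [ht, ht0]; simp
      · rw [hu, ← a01, h]; simp
    · right
      apply sl_eq_of_entries
      · rw [hp, h]; simp
      · rw [hr, hr0]; simp
      · rw [ht, ht0]; simp
      · rw [hu, ← a01, h]; simp
  · right; left
    have e1 := congrArg Subtype.val h1
    have e2 := congrArg Subtype.val h2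
    rw [mul_wq_val, wq_mul_val, hp, hr, ht, hu] at e1
    rw [Matrix.SpecialLinearGroup.coe_neg, mul_d3_val, d3_mul_val, hp, hr, ht, hu] at e2
    have a00 : -r = t := by
      have := congrFun (congrFun e1 0) 0
      simpa using this
    have a01 : p = u := by
      have := congrFun (congrFun e1 0) 1
      simpa using this
    have b00 : p + r = -(p + t) := by
      have := congrFun (congrFun e2 0) 0
      simp at this
      linear_combination this
    have hp0 : p = 0 := by linear_combination p * h3 - b00 - a00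
    have hu0 : u = 0 := by rw [← a01, hp0]
    have hr2 : r ^ 2 = 1 := by
      rw [← a00, hp0] at hdet
      linear_combination hdet
    rcases sq_one_cases r hr2 with h | h
    · left
      apply sl_eq_of_entries
      · rw [hp, hp0]; simp [wq_val]
      · rw [hr, h]; simp [wq_val]
      · rw [ht, ← a00, h]; simp [wq_val]
      · rw [hu, hu0]; simp [wq_val]
    · right
      apply sl_eq_of_entries
      · rw [hp, hp0]; simp [wq_val]
      · rw [hr, h]; simp [wq_val]
      · rw [ht, ← a00, h]; simp [wq_val]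
      · rw [hu, hu0]; simp [wq_val]
  · right; right; left
    have e1 := congrArg Subtype.val h1
    have e2 := congrArg Subtype.val h2
    rw [Matrix.SpecialLinearGroup.coe_neg, mul_wq_val, wq_mul_val, hp, hr, ht, hu] at e1
    rw [mul_d3_val, d3_mul_val, hp, hr, ht, hu] at e2
    have a00 : r = t := by
      have := congrFun (congrFun e1 0) 0
      simp at this
      linear_combination this
    have a01 : p = -u := by
      have := congrFun (congrFun e1 0) 1
      simp at this
      linear_combination this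
    have b01 : p - r = r + u := by
      have := congrFun (congrFun e2 0) 1
      simp at this
      linear_combination this
    have hpr : p = r := by linear_combination (p - r) * h3 - b01 - a01
    have hup : u = -p := by linear_combination a01
    have hp2 : p ^ 2 = 1 := by
      rw [hup, ← a00, ← hpr] at hdet
      linear_combination p ^ 2 * h3 + hdet
    rcases sq_one_cases p hp2 with h | h
    · left
      apply sl_eq_of_entries
      · rw [hp, h]; simp [d3_val]
      · rw [hr, ← hpr, h]; simp [d3_val]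
      · rw [ht, ← a00, ← hpr, h]; simp [d3_val]
      · rw [hu, hup, h]; simp [d3_val]
    · right
      apply sl_eq_of_entries
      · rw [hp, h]; simp [d3_val]
      · rw [hr, ← hpr, h]; simp [d3_val]
      · rw [ht, ← a00, ← hpr, h]; simp [d3_val]
      · rw [hu, hup, h]; simp [d3_val]
  · right; right; right
    have e1 := congrArg Subtype.val h1
    have e2 := congrArg Subtype.val h2
    rw [Matrix.SpecialLinearGroup.coe_neg, mul_wq_val, wq_mul_val, hp, hr, ht, hu] at e1
    rw [Matrix.SpecialLinearGroup.coe_neg, mul_d3_val, d3_mul_val, hp, hr, ht, hu] at e2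
    have a00 : r = t := by
      have := congrFun (congrFun e1 0) 0
      simp at this
      linear_combination this
    have a01 : p = -u := by
      have := congrFun (congrFun e1 0) 1
      simp at this
      linear_combination this
    have b00 : p + r = -(p + t) := by
      have := congrFun (congrFun e2 0) 0
      simp at this
      linear_combination this
    have hrp : r = -p := by linear_combination (p + r) * h3 - b00 - a00
    have hup : u = -p := by linear_combination a01
    have hp2 : p ^ 2 = 1 := by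
      rw [hup, ← a00, hrp] at hdet
      linear_combination p ^ 2 * h3 + hdet
    rcases sq_one_cases p hp2 with h | h
    · left
      apply sl_eq_of_entries
      · rw [hp, h, wq_d3_val]; simp
      · rw [hr, hrp, h, wq_d3_val]; simp
      · rw [ht, ← a00, hrp, h, wq_d3_val]; simp
      · rw [hu, hup, h, wq_d3_val]; simp
    · right
      apply sl_eq_of_entries
      · rw [hp, h, Matrix.SpecialLinearGroup.coe_neg, wq_d3_val]; simp
      · rw [hr, hrp, h, Matrix.SpecialLinearGroup.coe_neg, wq_d3_val]; simp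
      · rw [ht, ← a00, hrp, h, Matrix.SpecialLinearGroup.coe_neg, wq_d3_val]; simp
      · rw [hu, hup, h, Matrix.SpecialLinearGroup.coe_neg, wq_d3_val]; simp


theorem sx_mul_wq : sx K 1 * wq K = -(d3 K * sx K 1) := by
  have h3 := three_eq_zero (K := K)
  apply Subtype.ext
  rw [Matrix.SpecialLinearGroup.coe_neg, Matrix.SpecialLinearGroup.coe_mul,
    Matrix.SpecialLinearGroup.coe_mul, wq_val, d3_val, sx_val, Matrix.mul_fin_two,
    Matrix.mul_fin_two]
  ext i j
  fin_cases i <;> fin_cases j <;> simp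
  linear_combination h3

theorem sx_mul_d3 : sx K 1 * d3 K = -(wq K * d3 K * sx K 1) := by
  have h3 := three_eq_zero (K := K)
  apply Subtype.ext
  rw [Matrix.SpecialLinearGroup.coe_neg, Matrix.SpecialLinearGroup.coe_mul,
    Matrix.SpecialLinearGroup.coe_mul (wq K * d3 K), wq_d3_val, d3_val, sx_val,
    Matrix.mul_fin_two, Matrix.mul_fin_two]
  ext i j
  fin_cases i <;> fin_cases j <;> simp
  all_goals first | linear_combination h3 | linear_combination (-1 : K) * h3

end Cfsg.Agent.Lib.Helper5.Ree
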