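import Cfsg.Agent.Lib.Helper5.Ree.Perfect
import Cfsg.Agent.Lib.Helper5.Chev.TriAll
import Cfsg.Agent.S0319
import Mathlib

/-!
# The small Ree groups over fields with more than three elements are simple (helper5)
-/

set_option autoImplicit false

namespace Cfsg.Agent.Lib.Helper5.Ree

open Cfsg.Lie Cfsg.Agent.Lib.Helper5.Chev Cfsg.Agent.Lib.Helper5.GA Cfsg.Agent.Lib.Helper5.Tw
open Cfsg.Agent.Lib.Helper5.Frob
open scoped Matrix

section

variable {K : Type*} [Field K] [Fintype K] [CharP K 3] {m : ℕ}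

theorem twisted_simple (hK : Fintype.card K = 3 ^ (2 * m + 1)) (hm : 1 ≤ m) :
    IsSimpleGroup ↥(twistedG2 K (3 ^ m)) ∧ ¬ IsMulCommutative ↥(twistedG2 K (3 ^ m)) := by
  classical
  obtain ⟨P, hPB, hPN, hPS⟩ := bnPair hK
  have hperf := twisted_perfect hK hm
  have hx0 : s1 hK ≠ 1 := by
    intro h
    apply n1_not_diag hK
    have h1 : n1 hK = 1 := congrArg Subtype.val h
    rw [h1]
    exact Subgroup.one_mem _
  have : Nontrivial ↥(twistedG2 K (3 ^ m)) := ⟨⟨s1 hK, 1, hx0⟩⟩
  have hirr : P.Irreducible := by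
    intro T hT hTne hTne'
    exfalso
    obtain ⟨s, hs⟩ := hTne
    obtain ⟨s', hs', hs'n⟩ := hTne'
    have h1 := hT hs
    rw [hPS, Set.mem_singleton_iff] at hs' h1
    apply hs'n
    rw [hs', ← h1]
    exact hs
  have hsolv : Group.IsSolvable P.B := by
    rw [hPB]
    have := solvable_all (F := K) chevG2 hD2
    have hle1 : chevG2.borelSubgroup K ⊓ twistedG2 K (3 ^ m) ≤ twistedG2 K (3 ^ m) := inf_le_right
    have hle2 : chevG2.borelSubgroup K ⊓ twistedG2 K (3 ^ m) ≤ chevG2.borelSubgroup K :=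
      inf_le_left
    exact Group.isSolvable_of_isSolvable_injective
      (f := (Subgroup.inclusion hle2).comp (Subgroup.subgroupOfEquivOfLe hle1).toMonoidHom)
      ((Subgroup.inclusion_injective hle2).comp (Subgroup.subgroupOfEquivOfLe hle1).injective)
  have hcore' : P.B.normalCore = ⊥ := by
    rw [hPB]
    exact core_eq_bot hK
  constructor
  · exact Cfsg.Agent.S0319.result P hirr hsolv hperf hcore'
  · intro hc
    have hbot : commutator ↥(twistedG2 K (3 ^ m)) = ⊥ := by
      rw [commutator_def, Subgroup.commutator_eq_bot_iff_le_centralizer]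
      intro a _
      rw [Subgroup.mem_centralizer_iff]
      intro b _
      exact hc.is_comm.comm b a
    rw [hbot] at hperf
    have : s1 hK ∈ (⊤ : Subgroup ↥(twistedG2 K (3 ^ m))) := Subgroup.mem_top _
    rw [← hperf, Subgroup.mem_bot] at this
    exact hx0 this

end

end Cfsg.Agent.Lib.Helper5.Ree
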