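import Cfsg.Agent.Lib.Helper5.Ree.WardQ4
import Mathlib

/-!
# Small Ree groups: the four-subgroups are conjugate (helper5, for S2361)
-/

set_option autoImplicit false
set_option maxRecDepth 100000

namespace Cfsg.Agent.Lib.Helper5.Ree

open Cfsg.Lie Cfsg.Agent.Lib.Helper5.Chev Cfsg.Agent.Lib.Helper5.GA Cfsg.Agent.Lib.Helper5.Tw
open Cfsg.Agent.Lib.Helper5.Frob Cfsg.Agent.Lib.Helper5.SL2P Cfsg.Agent.Lib.Helper5.Ree
open Cfsg.Agent.ReeL Cfsg.Agent.ReeTor Cfsg.Agent.Lib.Helper8.ReeSyl

section sl2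

variable {K : Type*} [Field K] [Fintype K] [CharP K 3] {m : ℕ}

omit [Fintype K] [CharP K 3] in
theorem sl2_mul_entries (s t : Matrix.SpecialLinearGroup (Fin 2) K) :
    ((s * t : Matrix.SpecialLinearGroup (Fin 2) K) : Matrix (Fin 2) (Fin 2) K)
      = !![s.1 0 0 * t.1 0 0 + s.1 0 1 * t.1 1 0, s.1 0 0 * t.1 0 1 + s.1 0 1 * t.1 1 1;
          s.1 1 0 * t.1 0 0 + s.1 1 1 * t.1 1 0, s.1 1 0 * t.1 0 1 + s.1 1 1 * t.1 1 1] := by
  rw [Matrix.SpecialLinearGroup.coe_mul]
  ext i j
  fin_cases i <;> fin_cases j <;> simp [Matrix.mul_apply, Fin.sum_univ_two]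

omit [Fintype K] in
/-- an element of `SL₂(K)` with square one is `± 1` -/
theorem sl2_sq_one (s : Matrix.SpecialLinearGroup (Fin 2) K) (hs : s * s = 1) :
    s = 1 ∨ s = -1 := by
  have h2 : (2 : K) ≠ 0 := two_ne_zero3
  have hd := s.2
  rw [Matrix.det_fin_two] at hd
  have e := sl2_mul_entries s s
  rw [hs, Matrix.SpecialLinearGroup.coe_one] at e
  have h00 : (1 : K) = s.1 0 0 * s.1 0 0 + s.1 0 1 * s.1 1 0 := by
    have := congrFun (congrFun e 0) 0
    simpa using this
  have h01 : (0 : K) = s.1 0 0 * s.1 0 1 + s.1 0 1 * s.1 1 1 := by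
    have := congrFun (congrFun e 0) 1
    simpa using this
  have h10 : (0 : K) = s.1 1 0 * s.1 0 0 + s.1 1 1 * s.1 1 0 := by
    have := congrFun (congrFun e 1) 0
    simpa using this
  have htr : s.1 0 0 + s.1 1 1 ≠ 0 := by
    intro h
    apply h2
    have hd' : s.1 1 1 = -s.1 0 0 := by linear_combination h
    rw [hd'] at hd
    linear_combination h00 - hd
  have hb : s.1 0 1 = 0 := by
    have : s.1 0 1 * (s.1 0 0 + s.1 1 1) = 0 := by linear_combination -h01
    rcases mul_eq_zero.1 this with h | h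
    · exact h
    · exact absurd h htr
  have hc : s.1 1 0 = 0 := by
    have : s.1 1 0 * (s.1 0 0 + s.1 1 1) = 0 := by linear_combination -h10
    rcases mul_eq_zero.1 this with h | h
    · exact h
    · exact absurd h htr
  rw [hb, hc] at hd
  rw [hb] at h00
  have ha2 : s.1 0 0 ^ 2 = 1 := by linear_combination -h00
  have had : s.1 1 1 = s.1 0 0 := by
    have : s.1 0 0 * (s.1 1 1 - s.1 0 0) = 0 := by linear_combination hd - ha2
    rcases mul_eq_zero.1 this with h | h
    · rw [h] at ha2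
      norm_num at ha2
    · linear_combination h
  rcases sq_one_cases _ ha2 with ha | ha
  · left
    apply sl_eq_of_entries
    · rw [ha]; simp
    · rw [hb]; simp
    · rw [hc]; simp
    · rw [had, ha]; simp
  · right
    apply sl_eq_of_entries
    · rw [ha, neg_one_val]; simp
    · rw [hb, neg_one_val]; simp
    · rw [hc, neg_one_val]; simp
    · rw [had, ha, neg_one_val]; simp

omit [CharP K 3] in
/-- an element of `SL₂(K)` with square `-1` is conjugate to `wq` -/
theorem sl2_conj_wq (hK : Fintype.card K = 3 ^ (2 * m + 1))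
    (s : Matrix.SpecialLinearGroup (Fin 2) K) (hs : s * s = -1) :
    ∃ r : Matrix.SpecialLinearGroup (Fin 2) K, r * s * r⁻¹ = wq K := by
  have h4 : Fintype.card K % 4 = 3 := by
    rw [hK]
    have := q_mod8 m
    omega
  have hm1 : ¬ IsSquare (-1 : K) := by
    rw [FiniteField.isSquare_neg_one_iff]
    omega
  have hd := s.2
  rw [Matrix.det_fin_two] at hd
  have e := sl2_mul_entries s s
  rw [hs, neg_one_val] at e
  have h00 : (-1 : K) = s.1 0 0 * s.1 0 0 + s.1 0 1 * s.1 1 0 := by
    have := congrFun (congrFun e 0) 0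
    simpa using this
  have h01 : (0 : K) = s.1 0 0 * s.1 0 1 + s.1 0 1 * s.1 1 1 := by
    have := congrFun (congrFun e 0) 1
    simpa using this
  have h10 : (0 : K) = s.1 1 0 * s.1 0 0 + s.1 1 1 * s.1 1 0 := by
    have := congrFun (congrFun e 1) 0
    simpa using this
  have hc : s.1 1 0 ≠ 0 := by
    intro h
    apply hm1
    refine ⟨s.1 0 0, ?_⟩
    rw [h] at h00
    linear_combination h00
  have htr : s.1 1 1 = -s.1 0 0 := by
    have : s.1 1 0 * (s.1 0 0 + s.1 1 1) = 0 := by linear_combination -h10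
    rcases mul_eq_zero.1 this with h | h
    · exact absurd h hc
    · linear_combination h
  obtain ⟨x, y, hxy⟩ := sq_add_sq_field hK (-(s.1 1 0)⁻¹)
  have hcx : s.1 1 0 * (x ^ 2 + y ^ 2) = -1 := by
    rw [hxy, mul_neg, mul_inv_cancel₀ hc]
  let P : Matrix.SpecialLinearGroup (Fin 2) K :=
    ⟨!![s.1 0 0 * x - y, s.1 0 0 * y + x; s.1 1 0 * x, s.1 1 0 * y], by
      rw [Matrix.det_fin_two_of]
      linear_combination -hcx⟩
  have hP : (P : Matrix (Fin 2) (Fin 2) K)
      = !![s.1 0 0 * x - y, s.1 0 0 * y + x; s.1 1 0 * x, s.1 1 0 * y] := rfl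
  have hsP : s * P = P * wq K := by
    apply Subtype.ext
    rw [sl2_mul_entries, mul_wq_val, hP]
    ext i j
    fin_cases i <;> fin_cases j <;> simp
    · linear_combination (-x) * h00
    · linear_combination (-y) * h00
    · rw [htr]; ring
    · rw [htr]; ring
  refine ⟨P⁻¹, ?_⟩
  rw [inv_inv, mul_assoc, hsP]
  group

end sl2

section ree

variable {K : Type*} [Field K] [Fintype K] [CharP K 3] {m : ℕ}

/-- two distinct commuting involutions are conjugate to `a` and to `b` or `a b` -/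
theorem four_conj (hK : Fintype.card K = 3 ^ (2 * m + 1)) (hm : 1 ≤ m)
    (u v : ↥(twistedG2 K (3 ^ m))) (hu : u * u = 1) (hv : v * v = 1) (huv : u * v = v * u)
    (hu1 : u ≠ 1) (hv1 : v ≠ 1) (hne : u ≠ v) :
    ∃ g : ↥(twistedG2 K (3 ^ m)), g * u * g⁻¹ = aG K m ∧
      (g * v * g⁻¹ = bG K m ∨ g * v * g⁻¹ = aG K m * bG K m) := by
  obtain ⟨h, rfl⟩ := invol_conj hK hm u hu hu1
  -- the conjugate of `v`
  have hv'a : aG K m * (h⁻¹ * v * h) = (h⁻¹ * v * h) * aG K m := by
    calc aG K m * (h⁻¹ * v * h) = h⁻¹ * ((h * aG K m * h⁻¹) * v) * h := by group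
      _ = h⁻¹ * (v * (h * aG K m * h⁻¹)) * h := by rw [huv]
      _ = (h⁻¹ * v * h) * aG K m := by group
  have hv'2 : (h⁻¹ * v * h) * (h⁻¹ * v * h) = 1 := by
    calc (h⁻¹ * v * h) * (h⁻¹ * v * h) = h⁻¹ * (v * v) * h := by group
      _ = 1 := by rw [hv]; group
  have hv'1 : h⁻¹ * v * h ≠ 1 := by
    intro e
    apply hv1
    have : v = h * (h⁻¹ * v * h) * h⁻¹ := by group
    rw [this, e]
    group
  have hv'ne : h⁻¹ * v * h ≠ aG K m := by
    intro e
    apply hne
    have : v = h * (h⁻¹ * v * h) * h⁻¹ := by group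
    rw [this, e]
  obtain ⟨s, hs⟩ := cent_aG hK (h⁻¹ * v * h) hv'a
  have hφ2 : phiG K m (s * s) = 1 := by
    rcases hs with hs | hs
    · rw [map_mul, ← hs, hv'2]
    · have c := (aG_comm hK s).eq
      have : (aG K m * phiG K m s) * (aG K m * phiG K m s)
          = (aG K m * aG K m) * (phiG K m s * phiG K m s) := by
        calc (aG K m * phiG K m s) * (aG K m * phiG K m s)
            = aG K m * (phiG K m s * aG K m) * phiG K m s := by group
          _ = aG K m * (aG K m * phiG K m s) * phiG K m s := by rw [c]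
          _ = (aG K m * aG K m) * (phiG K m s * phiG K m s) := by group
      rw [hs, this, aG_sq, one_mul] at hv'2
      rw [map_mul, hv'2]
  have hss : s * s = -1 := by
    rcases phiG_ker hK _ hφ2 with h1 | h1
    · exfalso
      have hφ1 : phiG K m s = 1 := by
        rcases sl2_sq_one s h1 with h2 | h2
        · rw [h2, map_one]
        · rw [h2, phiG_neg_one hK]
      rcases hs with hs | hs
      · exact hv'1 (hs.trans hφ1)
      · apply hv'ne
        rw [hs, hφ1, mul_one]
    · exact h1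
  obtain ⟨r, hr⟩ := sl2_conj_wq hK s hss
  have hra : phiG K m r * aG K m * (phiG K m r)⁻¹ = aG K m := by
    rw [← (aG_comm hK r).eq]
    group
  have hrs : phiG K m r * phiG K m s * (phiG K m r)⁻¹ = bG K m := by
    unfold bG
    rw [← hr, map_mul, map_mul, map_inv]
  refine ⟨phiG K m r * h⁻¹, ?_, ?_⟩
  · calc phiG K m r * h⁻¹ * (h * aG K m * h⁻¹) * (phiG K m r * h⁻¹)⁻¹
        = phiG K m r * aG K m * (phiG K m r)⁻¹ := by group
      _ = aG K m := hra
  · have e : phiG K m r * h⁻¹ * v * (phiG K m r * h⁻¹)⁻¹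
        = phiG K m r * (h⁻¹ * v * h) * (phiG K m r)⁻¹ := by group
    rw [e]
    rcases hs with hs | hs
    · left
      rw [hs, hrs]
    · right
      rw [hs]
      calc phiG K m r * (aG K m * phiG K m s) * (phiG K m r)⁻¹
          = (phiG K m r * aG K m * (phiG K m r)⁻¹)
            * (phiG K m r * phiG K m s * (phiG K m r)⁻¹) := by group
        _ = aG K m * bG K m := by rw [hra, hrs]

end ree

end Cfsg.Agent.Lib.Helper5.Ree
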