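import Mathlib

/-!
# The number of elements of order 3 of `SL₂(q)`, `q` a power of 3 (helper5)
-/

set_option autoImplicit false

namespace Cfsg.Agent.Lib.Helper5.Ree.SL2Three

open scoped Matrix

section

variable {K : Type*} [Field K] [CharP K 3]

local notation "SL2" => Matrix.SpecialLinearGroup (Fin 2) K

theorem three_zero : (3 : K) = 0 := by
  have := CharP.cast_eq_zero K 3
  exact_mod_cast this

/-- an element of `SL₂(K)` with cube one has trace two -/
theorem trace_of_cube (y : SL2) (hy : y ^ 3 = 1) : y.1 0 0 + y.1 1 1 = 2 := by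
  have : Fact (Nat.Prime 3) := ⟨Nat.prime_three⟩
  have h1 : (y.1 - 1) ^ 3 = 0 := by
    rw [sub_pow_char_of_commute 3 (Commute.one_right _), one_pow]
    have := congrArg Subtype.val hy
    rw [Matrix.SpecialLinearGroup.coe_pow] at this
    rw [this]
    simp
  have h2 : IsNilpotent (y.1 - 1) := ⟨3, h1⟩
  have h3 := (Matrix.isNilpotent_trace_of_isNilpotent h2).eq_zero
  rw [Matrix.trace_fin_two] at h3
  simp only [Matrix.sub_apply, Matrix.one_apply_eq] at h3
  linear_combination h3

/-- an element of `SL₂(K)` with trace two has cube one -/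
theorem cube_of_trace (y : SL2) (hy : y.1 0 0 + y.1 1 1 = 2) : y ^ 3 = 1 := by
  have : Fact (Nat.Prime 3) := ⟨Nat.prime_three⟩
  have hd := y.2
  rw [Matrix.det_fin_two] at hd
  have h2 : (y.1 - 1) * (y.1 - 1) = 0 := by
    ext i j
    fin_cases i <;> fin_cases j <;>
      simp [Matrix.mul_apply, Fin.sum_univ_two, Matrix.sub_apply]
    · linear_combination (-1 : K) * hd + (y.1 0 0) * hy
    · linear_combination (y.1 0 1) * hy
    · linear_combination (y.1 1 0) * hy
    · linear_combination (-1 : K) * hd + (y.1 1 1) * hy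
  have h1 : (y.1 - 1) ^ 3 = 0 := by
    rw [pow_succ, pow_two, h2, zero_mul]
  rw [sub_pow_char_of_commute 3 (Commute.one_right _), one_pow] at h1
  apply Subtype.ext
  rw [Matrix.SpecialLinearGroup.coe_pow]
  exact sub_eq_zero.1 h1

/-- the isotropic vectors of the form `b c + a²` -/
def Iso (K : Type*) [Field K] : Type _ := {p : K × K × K // p.2.1 * p.2.2 + p.1 ^ 2 = 0}

/-- the elements of trace two and the isotropic vectors -/
def traceEquiv : {y : SL2 // y.1 0 0 + y.1 1 1 = 2} ≃ Iso K where
  toFun y := ⟨(y.1.1 0 0 - 1, y.1.1 0 1, y.1.1 1 0), by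
    have hd := y.1.2
    rw [Matrix.det_fin_two] at hd
    have hy := y.2
    show y.1.1 0 1 * y.1.1 1 0 + (y.1.1 0 0 - 1) ^ 2 = 0
    linear_combination (-1 : K) * hd + (y.1.1 0 0) * hy⟩
  invFun p := ⟨⟨!![p.1.1 + 1, p.1.2.1; p.1.2.2, 1 - p.1.1], by
    rw [Matrix.det_fin_two_of]
    have := p.2
    linear_combination (-1 : K) * this⟩, by
    show (!![p.1.1 + 1, p.1.2.1; p.1.2.2, 1 - p.1.1] : Matrix (Fin 2) (Fin 2) K) 0 0
      + (!![p.1.1 + 1, p.1.2.1; p.1.2.2, 1 - p.1.1] : Matrix (Fin 2) (Fin 2) K) 1 1 = 2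
    simp
    ring⟩
  left_inv y := by
    apply Subtype.ext
    apply Subtype.ext
    have hy := y.2
    ext i j
    fin_cases i <;> fin_cases j <;> simp
    linear_combination (-1 : K) * hy
  right_inv p := by
    apply Subtype.ext
    simp

end

section

variable {K : Type*} [Field K] [Fintype K]

/-- the isotropic vectors with `b ≠ 0` -/
def isoEquivA : {p : Iso K // p.1.2.1 ≠ 0} ≃ K × Kˣ where
  toFun p := (p.1.1.1, Units.mk0 p.1.1.2.1 p.2)
  invFun x := ⟨⟨(x.1, (x.2 : K), -(x.1 ^ 2) / (x.2 : K)), by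
    show (x.2 : K) * (-(x.1 ^ 2) / (x.2 : K)) + x.1 ^ 2 = 0
    have := x.2.ne_zero
    field_simp
    ring⟩, x.2.ne_zero⟩
  left_inv p := by
    apply Subtype.ext
    apply Subtype.ext
    have h := p.1.2
    have hb := p.2
    refine Prod.ext rfl (Prod.ext rfl ?_)
    show -(p.1.1.1 ^ 2) / p.1.1.2.1 = p.1.1.2.2
    rw [div_eq_iff hb]
    linear_combination (-1 : K) * h
  right_inv x := by
    refine Prod.ext rfl ?_
    apply Units.ext
    rfl

/-- the isotropic vectors with `b = 0` -/
def isoEquivB : {p : Iso K // ¬ p.1.2.1 ≠ 0} ≃ K where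
  toFun p := p.1.1.2.2
  invFun c := ⟨⟨(0, 0, c), by
    show (0 : K) * c + 0 ^ 2 = 0
    ring⟩, by simp⟩
  left_inv p := by
    apply Subtype.ext
    apply Subtype.ext
    have h := p.1.2
    have hb : p.1.1.2.1 = 0 := not_not.1 p.2
    rw [hb, zero_mul, zero_add] at h
    have ha : p.1.1.1 = 0 := by
      exact pow_eq_zero_iff (two_ne_zero) |>.1 h
    refine Prod.ext ha.symm (Prod.ext hb.symm rfl)
  right_inv c := rfl

theorem card_iso : Nat.card (Iso K) = Fintype.card K ^ 2 := by
  classical
  have hfin : Finite (Iso K) := by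
    unfold Iso
    infer_instance
  have e := (Equiv.sumCompl (fun p : Iso K => p.1.2.1 ≠ 0)).symm
  rw [Nat.card_congr e, Nat.card_sum, Nat.card_congr isoEquivA, Nat.card_congr isoEquivB,
    Nat.card_prod, Nat.card_eq_fintype_card, Nat.card_eq_fintype_card, Fintype.card_units]
  have : 1 ≤ Fintype.card K := Fintype.card_pos
  obtain ⟨n, hn⟩ : ∃ n, Fintype.card K = n + 1 := ⟨Fintype.card K - 1, by omega⟩
  rw [hn]
  simp
  ring

end

section

variable {K : Type*} [Field K] [Fintype K] [CharP K 3]

local notation "SL2" => Matrix.SpecialLinearGroup (Fin 2) K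

/-- the number of elements of `SL₂(q)` with cube one -/
theorem card_cube_one : Nat.card {y : SL2 // y ^ 3 = 1} = Fintype.card K ^ 2 := by
  rw [← card_iso (K := K)]
  apply Nat.card_congr
  exact (Equiv.subtypeEquivRight (fun y => ⟨trace_of_cube y, cube_of_trace y⟩)).trans traceEquiv

/-- the number of elements of order three of `SL₂(q)` -/
theorem card_order_three :
    Nat.card {y : SL2 // y ^ 3 = 1 ∧ y ≠ 1} = Fintype.card K ^ 2 - 1 := by
  classical
  have h := card_cube_one (K := K)
  have e : {y : SL2 // y ^ 3 = 1} ≃ Option {y : SL2 // y ^ 3 = 1 ∧ y ≠ 1} :=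
    { toFun := fun y => if h : y.1 = 1 then none else some ⟨y.1, y.2, h⟩
      invFun := fun o => match o with
        | none => ⟨1, one_pow 3⟩
        | some y => ⟨y.1, y.2.1⟩
      left_inv := by
        intro y
        by_cases h : y.1 = 1
        · simp [h]
          exact Subtype.ext h.symm
        · simp [h]
      right_inv := by
        intro o
        cases o with
        | none => simp
        | some y => simp [y.2.2] }
  rw [Nat.card_congr e, Nat.card_eq_fintype_card, Fintype.card_option,
    ← Nat.card_eq_fintype_card] at h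
  omega

end

end Cfsg.Agent.Lib.Helper5.Ree.SL2Three
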