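import Cfsg.Agent.Lib.Lead.ReeTor.Part2
import Cfsg.Agent.Lib.Helper5.Ree.WardT2a
import Mathlib

/-!
# Small Ree groups: involutions, elements of order 3 of `C(t)`, elements of order 6 (helper5)
-/

set_option autoImplicit false
set_option maxRecDepth 100000

namespace Cfsg.Agent.Lib.Helper5.Ree

open Cfsg.Lie Cfsg.Agent.Lib.Helper5.Chev Cfsg.Agent.Lib.Helper5.GA Cfsg.Agent.Lib.Helper5.Tw
open Cfsg.Agent.Lib.Helper5.Frob Cfsg.Agent.Lib.Helper5.SL2P Cfsg.Agent.Lib.Helper5.Ree
open Cfsg.Agent.ReeL Cfsg.Agent.ReeTor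

section abstract

variable {G : Type*} [Group G]

/-- an element of order six is the product of its cube and its fourth power -/
def sixEquiv : {g : G // orderOf g = 6} ≃
    {p : G × G // orderOf p.1 = 2 ∧ p.1 * p.2 = p.2 * p.1 ∧ orderOf p.2 = 3} where
  toFun g := ⟨(g.1 ^ 3, g.1 ^ 4), by
    refine ⟨?_, ?_, ?_⟩
    · show orderOf (g.1 ^ 3) = 2
      rw [orderOf_pow' _ (by norm_num : (3 : ℕ) ≠ 0), g.2]
      norm_num
    · show g.1 ^ 3 * g.1 ^ 4 = g.1 ^ 4 * g.1 ^ 3
      rw [← pow_add, ← pow_add]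
    · show orderOf (g.1 ^ 4) = 3
      rw [orderOf_pow' _ (by norm_num : (4 : ℕ) ≠ 0), g.2]
      norm_num⟩
  invFun p := ⟨p.1.1 * p.1.2, by
    have hc : Commute p.1.1 p.1.2 := p.2.2.1
    rw [hc.orderOf_mul_eq_mul_orderOf_of_coprime (by rw [p.2.1, p.2.2.2]; norm_num), p.2.1,
      p.2.2.2]⟩
  left_inv g := by
    apply Subtype.ext
    show g.1 ^ 3 * g.1 ^ 4 = g.1
    have h6 : g.1 ^ 6 = 1 := by
      have := pow_orderOf_eq_one g.1
      rwa [g.2] at this
    rw [← pow_add]
    calc g.1 ^ (3 + 4) = g.1 ^ 6 * g.1 := by rw [← pow_succ]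
      _ = g.1 := by rw [h6, one_mul]
  right_inv p := by
    apply Subtype.ext
    have hc : Commute p.1.1 p.1.2 := p.2.2.1
    have h2 : p.1.1 ^ 2 = 1 := by
      have := pow_orderOf_eq_one p.1.1
      rwa [p.2.1] at this
    have h3 : p.1.2 ^ 3 = 1 := by
      have := pow_orderOf_eq_one p.1.2
      rwa [p.2.2.2] at this
    refine Prod.ext ?_ ?_
    · show (p.1.1 * p.1.2) ^ 3 = p.1.1
      rw [hc.mul_pow, h3, mul_one]
      calc p.1.1 ^ 3 = p.1.1 ^ 2 * p.1.1 := by rw [← pow_succ]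
        _ = p.1.1 := by rw [h2, one_mul]
    · show (p.1.1 * p.1.2) ^ 4 = p.1.2
      rw [hc.mul_pow]
      have e1 : p.1.1 ^ 4 = 1 := by
        calc p.1.1 ^ 4 = (p.1.1 ^ 2) ^ 2 := by rw [← pow_mul]
          _ = 1 := by rw [h2, one_pow]
      have e2 : p.1.2 ^ 4 = p.1.2 := by
        calc p.1.2 ^ 4 = p.1.2 ^ 3 * p.1.2 := by rw [← pow_succ]
          _ = p.1.2 := by rw [h3, one_mul]
      rw [e1, e2, one_mul]

/-- the number of elements of order six, when every involution centralises the same number of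
elements of order three -/
theorem card_order_six_eq [Finite G] (c : ℕ)
    (h : ∀ t : G, orderOf t = 2 → Nat.card {x : G // t * x = x * t ∧ orderOf x = 3} = c) :
    Nat.card {g : G // orderOf g = 6} = Nat.card {t : G // orderOf t = 2} * c := by
  classical
  have := Fintype.ofFinite G
  rw [Nat.card_congr sixEquiv,
    Nat.card_congr (Equiv.subtypeProdEquivSigmaSubtype
      (fun (t x : G) => orderOf t = 2 ∧ t * x = x * t ∧ orderOf x = 3)), Nat.card_sigma]
  have h1 : ∀ t : G, Nat.card {x : G // orderOf t = 2 ∧ t * x = x * t ∧ orderOf x = 3}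
      = if orderOf t = 2 then c else 0 := by
    intro t
    by_cases ht : orderOf t = 2
    · rw [if_pos ht, ← h t ht]
      apply Nat.card_congr
      exact Equiv.subtypeEquivRight (fun x => ⟨fun hx => hx.2, fun hx => ⟨ht, hx⟩⟩)
    · rw [if_neg ht]
      have : IsEmpty {x : G // orderOf t = 2 ∧ t * x = x * t ∧ orderOf x = 3} :=
        ⟨fun x => ht x.2.1⟩
      exact Nat.card_of_isEmpty
  simp_rw [h1]
  rw [Finset.sum_ite, Finset.sum_const_zero, add_zero, Finset.sum_const, smul_eq_mul,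
    Nat.card_eq_fintype_card, Fintype.card_subtype]

end abstract

section ree

variable {K : Type*} [Field K] [Fintype K] [CharP K 3] {m : ℕ}

omit [Fintype K] in
theorem two_ne_zero3 : (2 : K) ≠ 0 := by
  intro h
  have h3 : (3 : K) = 0 := SL2Three.three_zero
  have : (1 : K) = 0 := by linear_combination h3 - h
  exact one_ne_zero this

/-- the elements of order three of `C(a)` are the images of the elements of order three of
`SL₂(K)` -/
theorem card_three_cent_aG (hK : Fintype.card K = 3 ^ (2 * m + 1)) :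
    Nat.card {g : ↥(twistedG2 K (3 ^ m)) // aG K m * g = g * aG K m ∧ orderOf g = 3}
      = (3 ^ (2 * m + 1)) ^ 2 - 1 := by
  have : Fact (Nat.Prime 3) := ⟨Nat.prime_three⟩
  rw [← hK, ← SL2Three.card_order_three (K := K)]
  symm
  have hne : ∀ y : Matrix.SpecialLinearGroup (Fin 2) K, y ^ 3 = 1 → y ≠ 1 →
      phiG K m y ≠ 1 := by
    intro y hy3 hy1 h
    rcases phiG_ker hK y h with h' | h'
    · exact hy1 h'
    · rw [h', Odd.neg_pow (by decide : Odd 3), one_pow] at hy3
      exact neg_one_ne_one_sl2 two_ne_zero3 hy3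
  let f : {y : Matrix.SpecialLinearGroup (Fin 2) K // y ^ 3 = 1 ∧ y ≠ 1} →
      {g : ↥(twistedG2 K (3 ^ m)) // aG K m * g = g * aG K m ∧ orderOf g = 3} := fun y =>
    ⟨phiG K m y.1, (aG_comm hK y.1).eq, orderOf_eq_prime (by rw [← map_pow, y.2.1, map_one])
      (hne y.1 y.2.1 y.2.2)⟩
  apply Nat.card_congr
  refine Equiv.ofBijective f ⟨?_, ?_⟩
  · intro y y' e
    have e' : phiG K m y.1 = phiG K m y'.1 := congrArg Subtype.val e
    have h1 : phiG K m (y.1⁻¹ * y'.1) = 1 := by
      rw [map_mul, map_inv, e', inv_mul_cancel]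
    apply Subtype.ext
    rcases phiG_ker hK _ h1 with h' | h'
    · exact (inv_mul_eq_one.1 h')
    · exfalso
      have e2 : y'.1 = -y.1 := by
        have : y'.1 = y.1 * (y.1⁻¹ * y'.1) := by group
        rw [this, h', mul_neg, mul_one]
      have h3 := y'.2.1
      rw [e2, Odd.neg_pow (by decide : Odd 3), y.2.1] at h3
      exact neg_one_ne_one_sl2 two_ne_zero3 h3
  · intro g
    have hg3 : g.1 ^ 3 = 1 := by
      have := pow_orderOf_eq_one g.1
      rwa [g.2.2] at this
    obtain ⟨y', hy', hy3⟩ := exists_lift hK g.1 3 (by decide) hg3 g.2.1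
    have hy1 : y' ≠ 1 := by
      rintro rfl
      rw [map_one] at hy'
      have := g.2.2
      rw [← hy', orderOf_one] at this
      omega
    exact ⟨⟨y', hy3, hy1⟩, Subtype.ext hy'⟩

/-- the number of elements of order three of the centraliser of an involution -/
theorem card_three_cent (hK : Fintype.card K = 3 ^ (2 * m + 1)) (hm : 1 ≤ m)
    (t : ↥(twistedG2 K (3 ^ m))) (ht : orderOf t = 2) :
    Nat.card {g : ↥(twistedG2 K (3 ^ m)) // t * g = g * t ∧ orderOf g = 3}
      = (3 ^ (2 * m + 1)) ^ 2 - 1 := by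
  have ht2 : t * t = 1 := by
    have := pow_orderOf_eq_one t
    rwa [ht, pow_two] at this
  have ht1 : t ≠ 1 := by
    rintro rfl
    rw [orderOf_one] at ht
    omega
  obtain ⟨h, rfl⟩ := invol_conj hK hm t ht2 ht1
  rw [← card_three_cent_aG hK]
  symm
  apply Nat.card_congr
  refine Equiv.subtypeEquiv (MulAut.conj h).toEquiv ?_
  intro g
  show aG K m * g = g * aG K m ∧ orderOf g = 3 ↔
    h * aG K m * h⁻¹ * (h * g * h⁻¹) = h * g * h⁻¹ * (h * aG K m * h⁻¹)
      ∧ orderOf (h * g * h⁻¹) = 3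
  have e1 : h * aG K m * h⁻¹ * (h * g * h⁻¹) = h * (aG K m * g) * h⁻¹ := by group
  have e2 : h * g * h⁻¹ * (h * aG K m * h⁻¹) = h * (g * aG K m) * h⁻¹ := by group
  have e3 : orderOf (h * g * h⁻¹) = orderOf g := by
    have := (MulAut.conj h).orderOf_eq g
    rwa [MulAut.conj_apply] at this
  rw [e1, e2, e3]
  constructor
  · rintro ⟨h1, h2⟩
    exact ⟨by rw [h1], h2⟩
  · rintro ⟨h1, h2⟩
    refine ⟨?_, h2⟩
    have := mul_left_cancel (mul_right_cancel h1)
    exact this

/-- the order of the centraliser of the involution `a` -/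
theorem card_cent_aG (hK : Fintype.card K = 3 ^ (2 * m + 1)) :
    Nat.card ↥(Subgroup.centralizer ({aG K m} : Set ↥(twistedG2 K (3 ^ m))))
      = (3 ^ (2 * m + 1) + 1) * (3 ^ (2 * m + 1) * (3 ^ (2 * m + 1) - 1)) := by
  classical
  have haH : ((aG K m : ↥(twistedG2 K (3 ^ m))) : GL chevG2.Idx K) ∈ chevG2.diagonalSubgroup K :=
    zz_mem_diag
  obtain ⟨e⟩ := cent_iso hK (aG K m) haH (aG_ne_one hK) aG_sq
  have hHcard : Nat.card ↥(Subgroup.centralizer ({aG K m} : Set ↥(twistedG2 K (3 ^ m))))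
      = 2 * Nat.card (Matrix.ProjectiveSpecialLinearGroup (Fin 2) K) := by
    rw [Nat.card_congr e.toEquiv, Nat.card_prod]
    congr 1
    simp
  have hSL := Cfsg.Agent.Lib.Helper8.FourOrb.card_sl2 (F := K) (Fintype.card K) (by
    rw [hK]
    calc 2 ≤ 3 ^ 1 := by norm_num
      _ ≤ 3 ^ (2 * m + 1) := Nat.pow_le_pow_right (by norm_num) (by omega)) rfl
  rw [hK] at hSL
  have hL := Subgroup.card_eq_card_quotient_mul_card_subgroup
    (Subgroup.center (Matrix.SpecialLinearGroup (Fin 2) K))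
  have hZ : Nat.card (Subgroup.center (Matrix.SpecialLinearGroup (Fin 2) K)) = 2 := by
    rw [Nat.card_eq_two_iff]
    refine ⟨⟨1, Subgroup.one_mem _⟩, ⟨-1, neg_one_mem_center⟩, ?_, ?_⟩
    · intro h
      exact neg_one_ne_one_sl2 two_ne_zero3 (congrArg Subtype.val h).symm
    · ext x
      simp only [Set.mem_insert_iff, Set.mem_singleton_iff, Set.mem_univ, iff_true]
      rcases center_cases x.1 x.2 with h | h
      · left
        exact Subtype.ext h
      · right
        exact Subtype.ext h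
  rw [hZ] at hL
  rw [hHcard, ← hSL, hL]
  show 2 * Nat.card (Matrix.SpecialLinearGroup (Fin 2) K ⧸
    Subgroup.center (Matrix.SpecialLinearGroup (Fin 2) K)) = _
  ring

/-- the number of involutions of the small Ree group -/
theorem card_invol (hK : Fintype.card K = 3 ^ (2 * m + 1)) (hm : 1 ≤ m) :
    Nat.card {g : ↥(twistedG2 K (3 ^ m)) // orderOf g = 2}
      = (3 ^ (2 * m + 1)) ^ 2 * ((3 ^ (2 * m + 1)) ^ 2 - 3 ^ (2 * m + 1) + 1) := by
  have hfin := Cfsg.Agent.ReeL.finite_twisted (K := K) (m := m) hK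
  have horb := card_conj_orbit (⊤ : Subgroup ↥(twistedG2 K (3 ^ m))) (aG K m)
  rw [Subgroup.card_top, top_inf_eq, card_cent_aG hK, card_twisted hK] at horb
  have hset : {y : ↥(twistedG2 K (3 ^ m)) | ∃ h ∈ (⊤ : Subgroup ↥(twistedG2 K (3 ^ m))),
      y = h * aG K m * h⁻¹} = {g | orderOf g = 2} := by
    ext y
    simp only [Set.mem_ofPred_eq, Subgroup.mem_top, true_and]
    constructor
    · rintro ⟨h, rfl⟩
      have e3 : orderOf (h * aG K m * h⁻¹) = orderOf (aG K m) := by
        have := (MulAut.conj h).orderOf_eq (aG K m)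
        rwa [MulAut.conj_apply] at this
      rw [e3]
      exact orderOf_eq_prime (by rw [pow_two]; exact aG_sq) (aG_ne_one hK)
    · intro hy
      have ht2 : y * y = 1 := by
        have := pow_orderOf_eq_one y
        rwa [hy, pow_two] at this
      have ht1 : y ≠ 1 := by
        rintro rfl
        rw [orderOf_one] at hy
        omega
      exact invol_conj hK hm y ht2 ht1
  rw [hset] at horb
  have hnc : Nat.card {g : ↥(twistedG2 K (3 ^ m)) // orderOf g = 2}
      = Set.ncard {g : ↥(twistedG2 K (3 ^ m)) | orderOf g = 2} := rfl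
  rw [hnc]
  have h3 : 3 ^ 1 ≤ 3 ^ (2 * m + 1) := Nat.pow_le_pow_right (by norm_num) (by omega)
  generalize 3 ^ (2 * m + 1) = q at *
  obtain ⟨n, rfl⟩ : ∃ n, q = n + 2 := ⟨q - 2, by omega⟩
  have e1 : (n + 2) ^ 2 - (n + 2) + 1 = (n + 2) * (n + 1) + 1 := by
    have : (n + 2) ^ 2 = (n + 2) * (n + 1) + (n + 2) := by ring
    omega
  have e2 : n + 2 - 1 = n + 1 := by omega
  rw [e1]
  rw [e2] at horb
  have hpos : 0 < (n + 2 + 1) * ((n + 2) * (n + 1)) := by positivity
  apply Nat.eq_of_mul_eq_mul_right hpos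
  rw [← horb]
  ring

/-- the number of elements of order six of the small Ree group -/
theorem card_order_six (hK : Fintype.card K = 3 ^ (2 * m + 1)) (hm : 1 ≤ m) :
    Nat.card {g : ↥(twistedG2 K (3 ^ m)) // orderOf g = 6}
      = (3 ^ (2 * m + 1)) ^ 2 * (3 ^ (2 * m + 1) - 1) * ((3 ^ (2 * m + 1)) ^ 3 + 1) := by
  have hfin := Cfsg.Agent.ReeL.finite_twisted (K := K) (m := m) hK
  rw [card_order_six_eq _ (card_three_cent hK hm), card_invol hK hm]
  have h3 : 3 ^ 1 ≤ 3 ^ (2 * m + 1) := Nat.pow_le_pow_right (by norm_num) (by omega)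
  generalize 3 ^ (2 * m + 1) = q at *
  obtain ⟨n, rfl⟩ : ∃ n, q = n + 2 := ⟨q - 2, by omega⟩
  have e1 : (n + 2) ^ 2 - (n + 2) + 1 = (n + 2) * (n + 1) + 1 := by
    have : (n + 2) ^ 2 = (n + 2) * (n + 1) + (n + 2) := by ring
    omega
  have e2 : n + 2 - 1 = n + 1 := by omega
  have e3 : (n + 2) ^ 2 - 1 = (n + 1) * (n + 3) := by
    have : (n + 2) ^ 2 = (n + 1) * (n + 3) + 1 := by ring
    omega
  rw [e1, e2, e3]
  ring

end ree

end Cfsg.Agent.Lib.Helper5.Ree
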