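import Cfsg.Agent.Lib.Helper5.Ree.Ward3b
import Cfsg.Agent.Lib.Helper5.Ree.WardT2
import Cfsg.Agent.Lib.Lead.ReeHex.Hall
import Mathlib

/-!
# Small Ree groups: the orders of the elements whose order is divisible by 3, and the six types
(helper5)
-/

set_option autoImplicit false
set_option maxRecDepth 100000

namespace Cfsg.Agent.Lib.Helper5.Ree

open Cfsg.Lie Cfsg.Agent.Lib.Helper5.Chev Cfsg.Agent.Lib.Helper5.GA Cfsg.Agent.Lib.Helper5.Tw
open Cfsg.Agent.Lib.Helper5.Frob Cfsg.Agent.Lib.Helper5.SL2P Cfsg.Agent.Lib.Helper5.Ree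
open Cfsg.Agent.ReeL Cfsg.Agent.ReeTor Cfsg.Agent.ReeCount Cfsg.Agent.Lib.Helper8.ReeSyl

section sl2

variable {K : Type*} [Field K] [CharP K 3]

/-- in `SL₂(K)`, `K` of characteristic 3, an element with ninth power one has cube one -/
theorem SL2Three.cube_of_ninth (y : Matrix.SpecialLinearGroup (Fin 2) K) (hy : y ^ 9 = 1) :
    y ^ 3 = 1 := by
  have : Fact (Nat.Prime 3) := ⟨Nat.prime_three⟩
  apply SL2Three.cube_of_trace
  have h1 : (y.1 - 1) ^ 3 ^ 2 = 0 := by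
    rw [sub_pow_char_pow_of_commute 3 2 (Commute.one_right _), one_pow]
    have := congrArg Subtype.val hy
    rw [Matrix.SpecialLinearGroup.coe_pow] at this
    norm_num
    rw [this]
    simp
  have h2 : IsNilpotent (y.1 - 1) := ⟨3 ^ 2, h1⟩
  have h3 := (Matrix.isNilpotent_trace_of_isNilpotent h2).eq_zero
  rw [Matrix.trace_fin_two] at h3
  simp only [Matrix.sub_apply, Matrix.one_apply_eq] at h3
  linear_combination h3

end sl2

section

variable {K : Type*} [Field K] [Fintype K] [CharP K 3] {m : ℕ}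

/-- (exp9) the 3-elements have ninth power one -/
theorem three_elem_pow_nine (hK : Fintype.card K = 3 ^ (2 * m + 1))
    (g : ↥(twistedG2 K (3 ^ m))) (k : ℕ) (hg : orderOf g = 3 ^ k) : g ^ 9 = 1 := by
  obtain ⟨h, x, hx, rfl⟩ := exists_conj_mem_UU1 hK g k hg
  obtain ⟨w, rfl⟩ := (mem_UU1_iff_range hK x).1 hx
  rw [conj_pow, XgMap_pow_nine]
  group

/-- (exp9) the order of a 3-element divides 9 -/
theorem three_elem_orderOf_dvd (hK : Fintype.card K = 3 ^ (2 * m + 1))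
    (g : ↥(twistedG2 K (3 ^ m))) (k : ℕ) (hg : orderOf g = 3 ^ k) : orderOf g ∣ 9 :=
  orderOf_dvd_of_pow_eq_one (three_elem_pow_nine hK g k hg)

/-- there is an element of order 9 -/
theorem exists_order_nine (_hK : Fintype.card K = 3 ^ (2 * m + 1)) :
    ∃ g : ↥(twistedG2 K (3 ^ m)), orderOf g = 9 :=
  ⟨XgMap K m (1, 0, 0), (orderOf_XgMap_eq_nine_iff _).2 one_ne_zero⟩

/-- the 2-elements are involutions -/
theorem two_elem_sq (hK : Fintype.card K = 3 ^ (2 * m + 1))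
    (g : ↥(twistedG2 K (3 ^ m))) (k : ℕ) (hg : orderOf g = 2 ^ k) : g * g = 1 := by
  have : Fact (Nat.Prime 2) := ⟨Nat.prime_two⟩
  have hfin := finite_twisted hK
  have hp : IsPGroup 2 (Subgroup.zpowers g) :=
    IsPGroup.of_card (n := k) (by rw [Nat.card_zpowers, hg])
  obtain ⟨R, hR⟩ := hp.exists_le_sylow
  exact (sylow_two hK R).2 g (hR (Subgroup.mem_zpowers g))

/-- the order of an element is not divisible by 4 -/
theorem not_four_dvd_orderOf (hK : Fintype.card K = 3 ^ (2 * m + 1))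
    (g : ↥(twistedG2 K (3 ^ m))) : ¬ 4 ∣ orderOf g := by
  have hfin := finite_twisted hK
  intro h4
  have hpos := orderOf_pos g
  obtain ⟨c, hc⟩ := h4
  have hc0 : c ≠ 0 := by
    rintro rfl
    omega
  have h1 : orderOf (g ^ c) = 2 ^ 2 := by
    rw [orderOf_pow_of_dvd hc0 ⟨4, by rw [hc]; ring⟩, hc, Nat.mul_div_cancel _ (by omega)]
    norm_num
  have h2 := two_elem_sq hK (g ^ c) 2 h1
  have h3 := orderOf_dvd_of_pow_eq_one (by rw [pow_two]; exact h2 : (g ^ c) ^ 2 = 1)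
  rw [h1] at h3
  omega

/-- the order of an element is not divisible by 27 -/
theorem not_twentyseven_dvd_orderOf (hK : Fintype.card K = 3 ^ (2 * m + 1))
    (g : ↥(twistedG2 K (3 ^ m))) : ¬ 27 ∣ orderOf g := by
  have hfin := finite_twisted hK
  intro h27
  have hpos := orderOf_pos g
  obtain ⟨c, hc⟩ := h27
  have hc0 : c ≠ 0 := by
    rintro rfl
    omega
  have h1 : orderOf (g ^ c) = 3 ^ 3 := by
    rw [orderOf_pow_of_dvd hc0 ⟨27, by rw [hc]; ring⟩, hc, Nat.mul_div_cancel _ (by omega)]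
    norm_num
  have h3 := three_elem_orderOf_dvd hK (g ^ c) 3 h1
  rw [h1] at h3
  omega

/-- no element has order 18 -/
theorem orderOf_ne_eighteen (hK : Fintype.card K = 3 ^ (2 * m + 1)) (hm : 1 ≤ m)
    (g : ↥(twistedG2 K (3 ^ m))) : orderOf g ≠ 18 := by
  intro hg
  have ht : orderOf (g ^ 9) = 2 := by
    rw [orderOf_pow_of_dvd (by norm_num) ⟨2, by rw [hg]⟩, hg]
  have hu : orderOf (g ^ 2) = 9 := by
    rw [orderOf_pow_of_dvd (by norm_num) ⟨9, by rw [hg]⟩, hg]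
  have ht2 : g ^ 9 * g ^ 9 = 1 := by
    have := pow_orderOf_eq_one (g ^ 9)
    rwa [ht, pow_two] at this
  have ht1 : g ^ 9 ≠ 1 := by
    intro h
    rw [h, orderOf_one] at ht
    omega
  obtain ⟨h, hh⟩ := invol_conj hK hm (g ^ 9) ht2 ht1
  -- the conjugate of `g ^ 2` commuting with `a`
  have hcomm : aG K m * (h⁻¹ * g ^ 2 * h) = (h⁻¹ * g ^ 2 * h) * aG K m := by
    have e : aG K m = h⁻¹ * g ^ 9 * h := by rw [hh]; group
    have c : g ^ 9 * g ^ 2 = g ^ 2 * g ^ 9 := by rw [← pow_add, ← pow_add]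
    calc aG K m * (h⁻¹ * g ^ 2 * h) = h⁻¹ * (g ^ 9 * g ^ 2) * h := by rw [e]; group
      _ = h⁻¹ * (g ^ 2 * g ^ 9) * h := by rw [c]
      _ = (h⁻¹ * g ^ 2 * h) * aG K m := by rw [e]; group
  have h9 : (h⁻¹ * g ^ 2 * h) ^ 9 = 1 := by
    have e : h⁻¹ * g ^ 2 * h = h⁻¹ * g ^ 2 * h⁻¹⁻¹ := by rw [inv_inv]
    rw [e, conj_pow, ← pow_mul]
    have : g ^ (2 * 9) = 1 := by
      have := pow_orderOf_eq_one g
      rwa [hg] at this
    rw [this]
    group
  obtain ⟨y', hy', hy9⟩ := exists_lift hK (h⁻¹ * g ^ 2 * h) 9 (by decide) h9 hcomm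
  have hy3 := SL2Three.cube_of_ninth y' hy9
  have h3 : (h⁻¹ * g ^ 2 * h) ^ 3 = 1 := by
    rw [← hy', ← map_pow, hy3, map_one]
  have h3' : (g ^ 2) ^ 3 = 1 := by
    have e : h⁻¹ * g ^ 2 * h = h⁻¹ * g ^ 2 * h⁻¹⁻¹ := by rw [inv_inv]
    rw [e, conj_pow] at h3
    have : (g ^ 2) ^ 3 = h * (h⁻¹ * (g ^ 2) ^ 3 * h⁻¹⁻¹) * h⁻¹ := by group
    rw [this, h3]
    group
  have := orderOf_dvd_of_pow_eq_one h3'
  rw [hu] at this
  omega

/-- (hcover) the six types of nontrivial elements -/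
theorem order_cover (hK : Fintype.card K = 3 ^ (2 * m + 1)) (hm : 1 ≤ m)
    (g : ↥(twistedG2 K (3 ^ m))) (hg : g ≠ 1) :
    (∃ k : ℕ, orderOf g = 3 ^ k) ∨ orderOf g = 2 ∨ orderOf g = 6 ∨
      (∃ s : ℕ, s.Prime ∧ s ∣ (3 ^ (2 * m + 1) - 1) / 2 ∧ s ∣ orderOf g) ∨
      (∃ s : ℕ, s.Prime ∧ s ∣ (3 ^ (2 * m + 1) + 1) / 4 ∧ s ∣ orderOf g) ∨
      (∃ s : ℕ, s.Prime ∧ s ∣ 3 ^ (2 * m + 1) * (3 ^ (2 * m + 1) - 1) + 1 ∧ s ∣ orderOf g) := by
  have hfin := finite_twisted hK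
  have hpos := orderOf_pos g
  have hn1 : orderOf g ≠ 1 := fun h => hg (orderOf_eq_one_iff.1 h)
  by_cases hA : ∃ s : ℕ, s.Prime ∧ 3 < s ∧ s ∣ orderOf g
  · obtain ⟨s, hs, hs3, hsd⟩ := hA
    have hdvd : s ∣ (3 ^ (2 * m + 1)) ^ 3 * (3 ^ (2 * m + 1) - 1) * ((3 ^ (2 * m + 1)) ^ 3 + 1) := by
      rw [← card_twisted hK]
      exact dvd_trans hsd (orderOf_dvd_natCard g)
    rcases Cfsg.Agent.ReeHex.prime_cases hs hs3 hdvd with h | h | h
    · exact Or.inr (Or.inr (Or.inr (Or.inl ⟨s, hs, h, hsd⟩)))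
    · exact Or.inr (Or.inr (Or.inr (Or.inr (Or.inl ⟨s, hs, h, hsd⟩))))
    · exact Or.inr (Or.inr (Or.inr (Or.inr (Or.inr ⟨s, hs, h, hsd⟩))))
  · push Not at hA
    obtain ⟨a, n', hodd, hn⟩ := Nat.exists_eq_two_pow_mul_odd (n := orderOf g) (by omega)
    have hn'0 : n' ≠ 0 := by
      rintro rfl
      rw [mul_zero] at hn
      omega
    obtain ⟨b, c, hc3, hn'⟩ := Nat.exists_eq_pow_mul_and_not_dvd hn'0 3 (by norm_num)
    have hc1 : c = 1 := by
      by_contra hc1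
      obtain ⟨s, hs, hsc⟩ := Nat.exists_prime_and_dvd hc1
      have hsn' : s ∣ n' := by
        rw [hn']
        exact dvd_mul_of_dvd_right hsc _
      have hsn : s ∣ orderOf g := by
        rw [hn]
        exact dvd_mul_of_dvd_right hsn' _
      have hs2 : s ≠ 2 := by
        rintro rfl
        obtain ⟨r, hr⟩ := hodd
        obtain ⟨r', hr'⟩ := hsn'
        omega
      have hs3 : s ≠ 3 := by
        rintro rfl
        exact hc3 hsc
      have := hs.two_le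
      exact hA s hs (by omega) hsn
    rw [hc1, mul_one] at hn'
    rw [hn'] at hn
    have ha : a ≤ 1 := by
      by_contra ha
      apply not_four_dvd_orderOf hK g
      rw [hn]
      obtain ⟨a', rfl⟩ : ∃ a', a = a' + 2 := ⟨a - 2, by omega⟩
      exact ⟨2 ^ a' * 3 ^ b, by ring⟩
    have hb : b ≤ 2 := by
      by_contra hb
      apply not_twentyseven_dvd_orderOf hK g
      rw [hn]
      obtain ⟨b', rfl⟩ : ∃ b', b = b' + 3 := ⟨b - 3, by omega⟩
      exact ⟨2 ^ a * 3 ^ b', by ring⟩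
    interval_cases a <;> interval_cases b
    · exact absurd hn (by simpa using hn1)
    · exact Or.inl ⟨1, by rw [hn]; norm_num⟩
    · exact Or.inl ⟨2, by rw [hn]; norm_num⟩
    · exact Or.inr (Or.inl (by rw [hn]; norm_num))
    · exact Or.inr (Or.inr (Or.inl (by rw [hn]; norm_num)))
    · exact absurd (by rw [hn]; norm_num) (orderOf_ne_eighteen hK hm g)

end

end Cfsg.Agent.Lib.Helper5.Ree
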