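import Cfsg.Agent.Lib.Helper5.Ree.Ward3a
import Mathlib

/-!
# Small Ree groups: the number of elements of order 3, of order 9, and of 3-elements (helper5)
-/

set_option autoImplicit false
set_option maxRecDepth 100000

namespace Cfsg.Agent.Lib.Helper5.Ree

open Cfsg.Lie Cfsg.Agent.Lib.Helper5.Chev Cfsg.Agent.Lib.Helper5.GA Cfsg.Agent.Lib.Helper5.Tw
open Cfsg.Agent.Lib.Helper5.Frob Cfsg.Agent.Lib.Helper5.SL2P Cfsg.Agent.Lib.Helper5.Ree
open Cfsg.Agent.ReeL Cfsg.Agent.ReeTor Cfsg.Agent.ReeCount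

section

variable {K : Type*} [Field K] [Fintype K] [CharP K 3] {m : ℕ}

/-- a 3-element is conjugate to an element of `U¹` -/
theorem exists_conj_mem_UU1 (hK : Fintype.card K = 3 ^ (2 * m + 1))
    (y : ↥(twistedG2 K (3 ^ m))) (k : ℕ) (hy : orderOf y = 3 ^ k) :
    ∃ g x : ↥(twistedG2 K (3 ^ m)), x ∈ UU1 K m ∧ y = g * x * g⁻¹ := by
  have : Fact (Nat.Prime 3) := ⟨Nat.prime_three⟩
  have hfin := finite_twisted hK
  have hp : IsPGroup 3 (Subgroup.zpowers y) :=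
    IsPGroup.of_card (n := k) (by rw [Nat.card_zpowers, hy])
  obtain ⟨R, hR⟩ := hp.exists_le_sylow
  obtain ⟨P₀, hP₀⟩ := exists_sylow_U1 (K := K) (m := m) hK
  obtain ⟨g, hg⟩ := MulAction.exists_smul_eq ↥(twistedG2 K (3 ^ m)) P₀ R
  have hyR : y ∈ (R : Subgroup ↥(twistedG2 K (3 ^ m))) := hR (Subgroup.mem_zpowers y)
  rw [← hg, Sylow.coe_subgroup_smul, hP₀, mem_conj_smul_U1] at hyR
  refine ⟨g, g⁻¹ * y * g, ?_, by group⟩
  rw [mem_UU1]
  exact hyR

/-- counting a conjugation-invariant set of 3-elements -/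
theorem card_conj_UU1 (hK : Fintype.card K = 3 ^ (2 * m + 1))
    (p : ↥(twistedG2 K (3 ^ m)) → Prop) (hp : ∀ g x, p (g * x * g⁻¹) ↔ p x) (hp1 : ¬ p 1)
    (hp3 : ∀ y, p y → ∃ k, orderOf y = 3 ^ k) (T : Set (K × K × K))
    (hT : ∀ w, p (XgMap K m w) ↔ w ∈ T) :
    Nat.card {y : ↥(twistedG2 K (3 ^ m)) // p y} = T.ncard * ((3 ^ (2 * m + 1)) ^ 3 + 1) := by
  have hfin := finite_twisted hK
  have hmain := card_conj_union (B1 K m) {x : ↥(twistedG2 K (3 ^ m)) | x ∈ UU1 K m ∧ p x}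
    (by
      rintro n hn x ⟨hx, hpx⟩
      exact ⟨(Subgroup.mem_normalizer_iff.1 (B1_le_normalizer hn) x).1 hx, (hp n x).2 hpx⟩)
    (by
      rintro g x ⟨hx, hpx⟩ ⟨hgx, -⟩
      apply mem_B1_of_conj_mem_UU1 hK g x hx _ hgx
      rintro rfl
      exact hp1 hpx)
  have e1 : Nat.card {y : ↥(twistedG2 K (3 ^ m)) // ∃ g x,
      x ∈ {x : ↥(twistedG2 K (3 ^ m)) | x ∈ UU1 K m ∧ p x} ∧ y = g * x * g⁻¹}
      = Nat.card {y : ↥(twistedG2 K (3 ^ m)) // p y} := by
    apply Nat.card_congr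
    apply Equiv.subtypeEquivRight
    intro y
    constructor
    · rintro ⟨g, x, ⟨-, hpx⟩, rfl⟩
      exact (hp g x).2 hpx
    · intro hy
      obtain ⟨k, hk⟩ := hp3 y hy
      obtain ⟨g, x, hx, rfl⟩ := exists_conj_mem_UU1 hK y k hk
      exact ⟨g, x, ⟨hx, (hp g x).1 hy⟩, rfl⟩
  have e2 : Nat.card ↥{x : ↥(twistedG2 K (3 ^ m)) | x ∈ UU1 K m ∧ p x} = T.ncard :=
    card_UU1_of hK p T hT
  rw [e1, e2, card_B1 hK, card_twisted hK] at hmain
  have h3 : 3 ^ 1 ≤ 3 ^ (2 * m + 1) := Nat.pow_le_pow_right (by norm_num) (by omega)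
  have hpos : 0 < (3 ^ (2 * m + 1)) ^ 3 * (3 ^ (2 * m + 1) - 1) := by
    apply Nat.mul_pos (by positivity)
    omega
  apply Nat.eq_of_mul_eq_mul_right hpos
  rw [hmain]
  ring

omit [Fintype K] [CharP K 3] in
theorem orderOf_conj_eq (g x : ↥(twistedG2 K (3 ^ m))) : orderOf (g * x * g⁻¹) = orderOf x := by
  have := (MulAut.conj g).orderOf_eq x
  rwa [MulAut.conj_apply] at this

/-- the number of elements of order three: conjunct 2 of S2357 -/
theorem card_order_three (hK : Fintype.card K = 3 ^ (2 * m + 1)) :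
    Nat.card {g : ↥(twistedG2 K (3 ^ m)) // orderOf g = 3}
      = ((3 ^ (2 * m + 1)) ^ 2 - 1) * ((3 ^ (2 * m + 1)) ^ 3 + 1) := by
  rw [card_conj_UU1 hK (fun g => orderOf g = 3) (fun g x => by rw [orderOf_conj_eq])
    (by rw [orderOf_one]; norm_num) (fun y hy => ⟨1, by rw [hy, pow_one]⟩)
    (({0} : Set K) ×ˢ ({0}ᶜ : Set (K × K))) (by
      intro w
      rw [orderOf_XgMap_eq_three_iff, Set.mem_prod, Set.mem_singleton_iff, Set.mem_compl_iff,
        Set.mem_singleton_iff]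
      constructor
      · rintro ⟨h1, h0⟩
        refine ⟨h1, fun h2 => h0 (Prod.ext h1 h2)⟩
      · rintro ⟨h1, h0⟩
        refine ⟨h1, fun h2 => h0 ?_⟩
        rw [h2]
        rfl)]
  rw [Set.ncard_prod, Set.ncard_singleton, one_mul, Set.ncard_compl, Set.ncard_singleton,
    Nat.card_prod, Nat.card_eq_fintype_card, hK, pow_two]

/-- the number of elements of order nine: conjunct 4 of S2357 -/
theorem card_order_nine (hK : Fintype.card K = 3 ^ (2 * m + 1)) :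
    Nat.card {g : ↥(twistedG2 K (3 ^ m)) // orderOf g = 9}
      = (3 ^ (2 * m + 1)) ^ 2 * (3 ^ (2 * m + 1) - 1) * ((3 ^ (2 * m + 1)) ^ 3 + 1) := by
  rw [card_conj_UU1 hK (fun g => orderOf g = 9) (fun g x => by rw [orderOf_conj_eq])
    (by rw [orderOf_one]; norm_num) (fun y hy => ⟨2, by rw [hy]; norm_num⟩)
    (({0}ᶜ : Set K) ×ˢ (Set.univ : Set (K × K))) (by
      intro w
      rw [orderOf_XgMap_eq_nine_iff, Set.mem_prod, Set.mem_compl_iff, Set.mem_singleton_iff]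
      exact ⟨fun h => ⟨h, Set.mem_univ _⟩, fun h => h.1⟩)]
  rw [Set.ncard_prod, Set.ncard_univ, Set.ncard_compl, Set.ncard_singleton,
    Nat.card_prod, Nat.card_eq_fintype_card, hK]
  ring

/-- the number of nontrivial 3-elements -/
theorem card_three_elements (hK : Fintype.card K = 3 ^ (2 * m + 1)) :
    Nat.card {g : ↥(twistedG2 K (3 ^ m)) // g ≠ 1 ∧ ∃ k, orderOf g = 3 ^ k}
      = (3 ^ (2 * m + 1)) ^ 6 - 1 := by
  rw [card_conj_UU1 hK (fun g => g ≠ 1 ∧ ∃ k, orderOf g = 3 ^ k) (fun g x => by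
      rw [orderOf_conj_eq]
      have : g * x * g⁻¹ = 1 ↔ x = 1 := by
        constructor
        · intro h
          have : x = g⁻¹ * (g * x * g⁻¹) * g := by group
          rw [this, h]
          group
        · rintro rfl
          group
      rw [Ne, Ne, this])
    (fun h => h.1 rfl) (fun y hy => hy.2)
    ({0}ᶜ : Set (K × K × K)) (by
      intro w
      rw [Set.mem_compl_iff, Set.mem_singleton_iff, Ne, XgMap_eq_one_iff]
      constructor
      · exact fun h => h.1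
      · intro h
        refine ⟨h, ?_⟩
        have h9 := orderOf_dvd_of_pow_eq_one (XgMap_pow_nine (m := m) w)
        obtain ⟨k, -, hk⟩ := (Nat.dvd_prime_pow (p := 3) (m := 2) Nat.prime_three).1 h9
        exact ⟨k, hk⟩)]
  rw [Set.ncard_compl, Set.ncard_singleton, Nat.card_prod, Nat.card_prod,
    Nat.card_eq_fintype_card, hK]
  have h3 : 3 ^ 1 ≤ 3 ^ (2 * m + 1) := Nat.pow_le_pow_right (by norm_num) (by omega)
  generalize 3 ^ (2 * m + 1) = q at *
  have e : q ^ 6 = q * (q * q) * (q * (q * q)) := by ring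
  have h1 : 1 ≤ q * (q * q) := Nat.one_le_iff_ne_zero.2 (by positivity)
  rw [e]
  zify [h1, Nat.one_le_iff_ne_zero.2 (Nat.mul_ne_zero (Nat.one_le_iff_ne_zero.1 h1) (Nat.one_le_iff_ne_zero.1 h1))]
  ring

end

end Cfsg.Agent.Lib.Helper5.Ree
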