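import Mathlib

/-!
# Counting elements of a given order through the conjugates of a subgroup (helper5)
-/

set_option autoImplicit false

namespace Cfsg.Agent.Lib.Helper5.Ree.WardCount

section

variable {G : Type*} [Group G]

/-- the number of elements of order `i` of a cyclic subgroup -/
theorem card_order_cyclic (M : Subgroup G) [Finite M] (hM : IsCyclic M) (i : ℕ)
    (hi : i ∣ Nat.card M) : Nat.card {x : G // x ∈ M ∧ orderOf x = i} = Nat.totient i := by
  classical
  have := Fintype.ofFinite M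
  rw [Nat.card_eq_fintype_card] at hi
  rw [← IsCyclic.card_orderOf_eq_totient (α := M) hi, ← Fintype.card_subtype,
    ← Nat.card_eq_fintype_card]
  apply Nat.card_congr
  refine ⟨fun x => ⟨⟨x.1, x.2.1⟩, ?_⟩, fun z => ⟨z.1.1, z.1.2, ?_⟩, ?_, ?_⟩
  · rw [← Subgroup.orderOf_coe]
    exact x.2.2
  · have := z.2
    rwa [← Subgroup.orderOf_coe] at this
  · intro x
    rfl
  · intro z
    rfl

/-- double counting: the elements of order `i`, when each lies in a conjugate of `M` and the
conjugates of `M` through such an element coincide -/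
theorem card_mul_normalizer [Finite G] (M : Subgroup G) (i c : ℕ)
    (h1 : ∀ x : G, orderOf x = i → ∃ g : G, g⁻¹ * x * g ∈ M)
    (h2 : ∀ x g : G, orderOf x = i → x ∈ M → g⁻¹ * x * g ∈ M →
      g ∈ Subgroup.normalizer (M : Set G))
    (h3 : Nat.card {x : G // x ∈ M ∧ orderOf x = i} = c) :
    Nat.card {x : G // orderOf x = i} * Nat.card (Subgroup.normalizer (M : Set G))
      = c * Nat.card G := by
  classical
  have := Fintype.ofFinite G
  -- the incidence set, counted by `x`
  have hA : Nat.card {p : G × G // orderOf p.1 = i ∧ p.2⁻¹ * p.1 * p.2 ∈ M}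
      = Nat.card {x : G // orderOf x = i} * Nat.card (Subgroup.normalizer (M : Set G)) := by
    rw [Nat.card_congr (Equiv.subtypeProdEquivSigmaSubtype
      (fun (x g : G) => orderOf x = i ∧ g⁻¹ * x * g ∈ M)), Nat.card_sigma]
    have hf : ∀ x : G, Nat.card {g : G // orderOf x = i ∧ g⁻¹ * x * g ∈ M}
        = if orderOf x = i then Nat.card (Subgroup.normalizer (M : Set G)) else 0 := by
      intro x
      by_cases hx : orderOf x = i
      · rw [if_pos hx]
        obtain ⟨g₀, hg₀⟩ := h1 x hx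
        have hx₀ : orderOf (g₀⁻¹ * x * g₀) = i := by
          have := (MulAut.conj g₀⁻¹).orderOf_eq x
          rw [MulAut.conj_apply, inv_inv] at this
          rw [this, hx]
        apply Nat.card_congr
        refine ⟨fun g => ⟨g₀⁻¹ * g.1, ?_⟩, fun k => ⟨g₀ * k.1, hx, ?_⟩, ?_, ?_⟩
        · apply h2 (g₀⁻¹ * x * g₀) (g₀⁻¹ * g.1) hx₀ hg₀
          have e : (g₀⁻¹ * g.1)⁻¹ * (g₀⁻¹ * x * g₀) * (g₀⁻¹ * g.1) = g.1⁻¹ * x * g.1 := by group
          rw [e]
          exact g.2.2
        · have hk := k.2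
          rw [Subgroup.mem_normalizer_iff''] at hk
          have e : (g₀ * k.1)⁻¹ * x * (g₀ * k.1) = k.1⁻¹ * (g₀⁻¹ * x * g₀) * k.1 := by group
          rw [e]
          exact (hk _).1 hg₀
        · intro g
          apply Subtype.ext
          show g₀ * (g₀⁻¹ * g.1) = g.1
          group
        · intro k
          apply Subtype.ext
          show g₀⁻¹ * (g₀ * k.1) = k.1
          group
      · rw [if_neg hx]
        have : IsEmpty {g : G // orderOf x = i ∧ g⁻¹ * x * g ∈ M} := ⟨fun g => hx g.2.1⟩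
        exact Nat.card_of_isEmpty
    simp_rw [hf]
    rw [Finset.sum_ite, Finset.sum_const_zero, add_zero, Finset.sum_const, smul_eq_mul,
      Nat.card_eq_fintype_card (α := {x : G // orderOf x = i}), Fintype.card_subtype]
  -- the incidence set, counted by `g`
  have hB : Nat.card {p : G × G // orderOf p.1 = i ∧ p.2⁻¹ * p.1 * p.2 ∈ M} = c * Nat.card G := by
    have e : {p : G × G // orderOf p.1 = i ∧ p.2⁻¹ * p.1 * p.2 ∈ M}
        ≃ {p : G × G // orderOf p.2 = i ∧ p.1⁻¹ * p.2 * p.1 ∈ M} :=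
      (Equiv.prodComm G G).subtypeEquiv (fun p => Iff.rfl)
    rw [Nat.card_congr e, Nat.card_congr (Equiv.subtypeProdEquivSigmaSubtype
      (fun (g x : G) => orderOf x = i ∧ g⁻¹ * x * g ∈ M)), Nat.card_sigma]
    have hf : ∀ g : G, Nat.card {x : G // orderOf x = i ∧ g⁻¹ * x * g ∈ M} = c := by
      intro g
      rw [← h3]
      apply Nat.card_congr
      refine ⟨fun x => ⟨g⁻¹ * x.1 * g, x.2.2, ?_⟩, fun z => ⟨g * z.1 * g⁻¹, ?_, ?_⟩, ?_, ?_⟩
      · have := (MulAut.conj g⁻¹).orderOf_eq x.1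
        rw [MulAut.conj_apply, inv_inv] at this
        rw [this, x.2.1]
      · have := (MulAut.conj g).orderOf_eq z.1
        rw [MulAut.conj_apply] at this
        rw [this, z.2.2]
      · have e : g⁻¹ * (g * z.1 * g⁻¹) * g = z.1 := by group
        rw [e]
        exact z.2.1
      · intro x
        apply Subtype.ext
        show g * (g⁻¹ * x.1 * g) * g⁻¹ = x.1
        group
      · intro z
        apply Subtype.ext
        show g⁻¹ * (g * z.1 * g⁻¹) * g = z.1
        group
    simp_rw [hf]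
    rw [Finset.sum_const, smul_eq_mul, Finset.card_univ, Nat.card_eq_fintype_card, mul_comm]
  rw [← hA, hB]

theorem gcd_aux (k : ℕ) : Nat.gcd (2 * (2 * k + 1)) (2 * k + 1 + 1) = 2 := by
  have e : 2 * k + 1 + 1 = 2 * (k + 1) := by ring
  rw [e, Nat.gcd_mul_left]
  have h1 : Nat.gcd (2 * k + 1) (k + 1) = 1 := by
    have hl := Nat.gcd_dvd_left (2 * k + 1) (k + 1)
    have hr := Nat.gcd_dvd_right (2 * k + 1) (k + 1)
    have h2 : Nat.gcd (2 * k + 1) (k + 1) ∣ 2 * (k + 1) - (2 * k + 1) :=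
      Nat.dvd_sub (dvd_mul_of_dvd_right hr 2) hl
    have e2 : 2 * (k + 1) - (2 * k + 1) = 1 := by omega
    rw [e2] at h2
    exact Nat.dvd_one.1 h2
  rw [h1]

/-- an element of order `2 (2 k + 1)` is the product of two of its powers, of orders `2 k + 1`
and `2` -/
def twoMulEquiv (k : ℕ) : {z : G // orderOf z = 2 * (2 * k + 1)} ≃
    {p : G × G // orderOf p.1 = 2 * k + 1 ∧ orderOf p.2 = 2 ∧ p.2 * p.1 = p.1 * p.2} where
  toFun z := ⟨(z.1 ^ (2 * k + 1 + 1), z.1 ^ (2 * k + 1)), by
    refine ⟨?_, ?_, ?_⟩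
    · show orderOf (z.1 ^ (2 * k + 1 + 1)) = 2 * k + 1
      rw [orderOf_pow' _ (by omega : 2 * k + 1 + 1 ≠ 0), z.2, gcd_aux]
      omega
    · show orderOf (z.1 ^ (2 * k + 1)) = 2
      rw [orderOf_pow' _ (by omega : 2 * k + 1 ≠ 0), z.2,
        Nat.gcd_eq_right (dvd_mul_left (2 * k + 1) 2)]
      exact Nat.mul_div_cancel _ (by omega)
    · show z.1 ^ (2 * k + 1) * z.1 ^ (2 * k + 1 + 1) = z.1 ^ (2 * k + 1 + 1) * z.1 ^ (2 * k + 1)
      exact pow_mul_comm _ _ _⟩
  invFun p := ⟨p.1.2 * p.1.1, by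
    have hc : Commute p.1.2 p.1.1 := p.2.2.2
    rw [hc.orderOf_mul_eq_mul_orderOf_of_coprime (by
      rw [p.2.1, p.2.2.1, Nat.coprime_two_left]
      exact ⟨k, rfl⟩), p.2.1, p.2.2.1]⟩
  left_inv z := by
    apply Subtype.ext
    show z.1 ^ (2 * k + 1) * z.1 ^ (2 * k + 1 + 1) = z.1
    have h : z.1 ^ (2 * (2 * k + 1)) = 1 := by
      have := pow_orderOf_eq_one z.1
      rwa [z.2] at this
    rw [← pow_add]
    calc z.1 ^ (2 * k + 1 + (2 * k + 1 + 1)) = z.1 ^ (2 * (2 * k + 1)) * z.1 := by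
          rw [← pow_succ]
          congr 1
          ring
      _ = z.1 := by rw [h, one_mul]
  right_inv p := by
    apply Subtype.ext
    have hc : Commute p.1.2 p.1.1 := p.2.2.2
    have h2 : p.1.2 ^ 2 = 1 := by
      have := pow_orderOf_eq_one p.1.2
      rwa [p.2.2.1] at this
    have hx : p.1.1 ^ (2 * k + 1) = 1 := by
      have := pow_orderOf_eq_one p.1.1
      rwa [p.2.1] at this
    have ht : p.1.2 ^ (2 * k + 1) = p.1.2 := by
      rw [pow_succ, pow_mul, h2, one_pow, one_mul]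
    refine Prod.ext ?_ ?_
    · show (p.1.2 * p.1.1) ^ (2 * k + 1 + 1) = p.1.1
      rw [hc.mul_pow, pow_succ p.1.2, ht, ← pow_two, h2, one_mul, pow_succ, hx, one_mul]
    · show (p.1.2 * p.1.1) ^ (2 * k + 1) = p.1.2
      rw [hc.mul_pow, ht, hx, mul_one]

/-- the number of elements of order `2 i`, `i` odd, when every element of order `i` commutes with
the same number of involutions -/
theorem card_order_two_mul [Finite G] (i : ℕ) (hi : Odd i) (c : ℕ)
    (h : ∀ x : G, orderOf x = i → Nat.card {t : G // orderOf t = 2 ∧ t * x = x * t} = c) :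
    Nat.card {z : G // orderOf z = 2 * i} = Nat.card {x : G // orderOf x = i} * c := by
  classical
  have := Fintype.ofFinite G
  obtain ⟨k, rfl⟩ := hi
  rw [Nat.card_congr (twoMulEquiv k),
    Nat.card_congr (Equiv.subtypeProdEquivSigmaSubtype
      (fun (x t : G) => orderOf x = 2 * k + 1 ∧ orderOf t = 2 ∧ t * x = x * t)), Nat.card_sigma]
  have h1 : ∀ x : G, Nat.card {t : G // orderOf x = 2 * k + 1 ∧ orderOf t = 2 ∧ t * x = x * t}
      = if orderOf x = 2 * k + 1 then c else 0 := by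
    intro x
    by_cases hx : orderOf x = 2 * k + 1
    · rw [if_pos hx, ← h x hx]
      apply Nat.card_congr
      exact Equiv.subtypeEquivRight (fun t => ⟨fun ht => ht.2, fun ht => ⟨hx, ht⟩⟩)
    · rw [if_neg hx]
      have : IsEmpty {t : G // orderOf x = 2 * k + 1 ∧ orderOf t = 2 ∧ t * x = x * t} :=
        ⟨fun t => hx t.2.1⟩
      exact Nat.card_of_isEmpty
  simp_rw [h1]
  rw [Finset.sum_ite, Finset.sum_const_zero, add_zero, Finset.sum_const, smul_eq_mul,
    Nat.card_eq_fintype_card, Fintype.card_subtype]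

end

end Cfsg.Agent.Lib.Helper5.Ree.WardCount
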