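import Cfsg.Agent.Lib.Helper5.Ree.WardT3
import Cfsg.Agent.Lib.Helper5.Ree.WardCount
import Mathlib

/-!
# Small Ree groups: the number of elements of order `i ∣ q - 1`, `i > 2` (helper5)
-/

set_option autoImplicit false
set_option maxRecDepth 100000

namespace Cfsg.Agent.Lib.Helper5.Ree

open Cfsg.Lie Cfsg.Agent.Lib.Helper5.Chev Cfsg.Agent.Lib.Helper5.GA Cfsg.Agent.Lib.Helper5.Tw
open Cfsg.Agent.Lib.Helper5.Frob Cfsg.Agent.Lib.Helper5.SL2P Cfsg.Agent.Lib.Helper5.Ree
open Cfsg.Agent.ReeL Cfsg.Agent.ReeTor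

section

/-- a divisor `i > 2` of `2 * odd` has an odd prime factor -/
theorem exists_odd_prime_dvd (i N : ℕ) (hi2 : 2 < i) (hN : Odd N) (hid : i ∣ 2 * N) :
    ∃ p : ℕ, p.Prime ∧ p ≠ 2 ∧ p ∣ i ∧ p ∣ N := by
  by_contra hne
  push Not at hne
  -- every prime factor of `i` is `2`, so `i` is a power of `2` dividing `2 * N`
  have h2 : ∀ p : ℕ, p.Prime → p ∣ i → p = 2 := by
    intro p hp hpi
    by_contra hp2
    apply hne p hp hp2 hpi
    have : p ∣ 2 * N := hpi.trans hid
    rcases (Nat.Prime.dvd_mul hp).1 this with h | h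
    · exact absurd ((Nat.prime_dvd_prime_iff_eq hp Nat.prime_two).1 h) hp2
    · exact h
  have hi0 : i ≠ 0 := by omega
  obtain ⟨k, hk⟩ : ∃ k, i = 2 ^ k := by
    refine ⟨i.primeFactorsList.length, ?_⟩
    exact Nat.eq_prime_pow_of_unique_prime_dvd hi0 (fun {p} hp hpi => h2 p hp hpi)
  rw [hk] at hid hi2
  have hco : Nat.Coprime (2 ^ k) N := by
    apply Nat.Coprime.pow_left
    rw [Nat.coprime_two_left]
    exact hN
  have h3 : 2 ^ k ∣ 2 := hco.dvd_of_dvd_mul_right hid
  have := Nat.le_of_dvd (by norm_num) h3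
  omega

variable {K : Type*} [Field K] [Fintype K] [CharP K 3] {m : ℕ}

/-- the number of elements of order `i ∣ q - 1`, `i > 2`, of the small Ree group -/
theorem card_order_split_aux (hK : Fintype.card K = 3 ^ (2 * m + 1)) (i : ℕ) (hi2 : 2 < i)
    (hid : i ∣ 3 ^ (2 * m + 1) - 1) :
    2 * Nat.card {g : ↥(twistedG2 K (3 ^ m)) // orderOf g = i}
      = Nat.totient i * (3 ^ (2 * m + 1)) ^ 3 * ((3 ^ (2 * m + 1)) ^ 3 + 1) := by
  have hfin := Cfsg.Agent.ReeL.finite_twisted (K := K) (m := m) hK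
  have hq8 := q_mod8 m
  have h3 : 3 ^ 1 ≤ 3 ^ (2 * m + 1) := Nat.pow_le_pow_right (by norm_num) (by omega)
  -- the odd prime
  obtain ⟨N, hN⟩ : ∃ N, N = (3 ^ (2 * m + 1) - 1) / 2 := ⟨_, rfl⟩
  have hq2 : 3 ^ (2 * m + 1) - 1 = 2 * N := by omega
  have hNodd : Odd N := by
    rw [Nat.odd_iff]
    omega
  obtain ⟨p, hp, hp2, hpi, hpN⟩ := exists_odd_prime_dvd i N hi2 hNodd (hq2 ▸ hid)
  have hpodd : Odd p := hp.odd_of_ne_two hp2
  have : Fact p.Prime := ⟨hp⟩
  have hi0 : i ≠ 0 := by omega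
  have hip0 : i / p ≠ 0 := by
    intro h
    have := Nat.div_mul_cancel hpi
    rw [h, zero_mul] at this
    exact hi0 this.symm
  have hipd : i / p ∣ i := Nat.div_dvd_of_dvd hpi
  have hdd : i / (i / p) = p := Nat.div_div_self hpi hi0
  -- the power of order `p`
  have hpow : ∀ x : ↥(twistedG2 K (3 ^ m)), orderOf x = i → orderOf (x ^ (i / p)) = p := by
    intro x hx
    rw [orderOf_pow_of_dvd hip0 (by rw [hx]; exact hipd), hx, hdd]
  -- the normaliser of `H¹`
  have hcardH := card_HH1 (K := K) (m := m) hK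
  have hcycH := isCyclic_HH1 (K := K) (m := m) hK
  have hNH : Subgroup.normalizer (HH1 K m : Set ↥(twistedG2 K (3 ^ m))) = NN1 K m := by
    have hpd : p ∣ Nat.card (HH1 K m) := by
      rw [hcardH, hq2]
      exact hpN.mul_left 2
    obtain ⟨a, ha⟩ := exists_prime_orderOf_dvd_card' (G := HH1 K m) p hpd
    have ha' : orderOf (a : ↥(twistedG2 K (3 ^ m))) = p := by
      rw [Subgroup.orderOf_coe]
      exact ha
    apply normalizer_eq_NN1 hK (HH1 K m) le_rfl a a.2
    · intro h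
      rw [h, orderOf_one] at ha'
      exact hp.one_lt.ne ha'
    · rw [ha']
      exact hpodd
  have key := WardCount.card_mul_normalizer (HH1 K m) i (Nat.totient i) ?_ ?_ ?_
  · rw [hNH, card_NN1 hK, card_twisted hK] at key
    have hpos : 0 < 3 ^ (2 * m + 1) - 1 := by omega
    apply Nat.eq_of_mul_eq_mul_right hpos
    calc 2 * Nat.card {g : ↥(twistedG2 K (3 ^ m)) // orderOf g = i} * (3 ^ (2 * m + 1) - 1)
        = Nat.card {g : ↥(twistedG2 K (3 ^ m)) // orderOf g = i}
            * (2 * (3 ^ (2 * m + 1) - 1)) := by ring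
      _ = Nat.totient i * ((3 ^ (2 * m + 1)) ^ 3 * (3 ^ (2 * m + 1) - 1)
            * ((3 ^ (2 * m + 1)) ^ 3 + 1)) := key
      _ = _ := by ring
  · -- every element of order `i` lies in a conjugate of `H¹`
    intro x hx
    have hpd : p ∣ (3 ^ (2 * m + 1) - 1) / 2 := by
      rw [← hN]
      exact hpN
    obtain ⟨g, hg⟩ := split_cent hK (x ^ (i / p)) p hp hpd (hpow x hx)
    refine ⟨g, (hg x).1 ?_⟩
    rw [Subgroup.mem_centralizer_singleton_iff]
    exact ((Commute.refl x).pow_right _).eq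
  · -- two conjugates of `H¹` through an element of order `i` coincide
    intro x g hx hxH hgH
    rw [hNH]
    have ha₀H : x ^ (i / p) ∈ HH1 K m := Subgroup.pow_mem _ hxH _
    have ha₀o := hpow x hx
    have hdiag := (mem_HH1 _).1 ha₀H
    obtain ⟨μ, hμ⟩ := (mem_diag_twisted_iff hK _).1 ⟨hdiag, (x ^ (i / p)).2⟩
    have hμ1 : μ ≠ 1 := by
      rintro rfl
      have h1 : x ^ (i / p) = 1 := by
        apply Subtype.ext
        rw [← hμ, map_one]
        rfl
      rw [h1, orderOf_one] at ha₀o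
      exact hp.one_lt.ne ha₀o
    have hoμ : Odd (orderOf μ) := by
      rw [← orderOf_injective (tauT K m) tauT_injective μ, hμ, Subgroup.orderOf_coe, ha₀o]
      exact hpodd
    have hconj : g⁻¹ * x ^ (i / p) * g ∈ HH1 K m := by
      have e : g⁻¹ * x ^ (i / p) * g = (g⁻¹ * x * g) ^ (i / p) := by
        have := conj_pow (a := g⁻¹) (b := x) (i := i / p)
        rw [inv_inv] at this
        exact this.symm
      rw [e]
      exact Subgroup.pow_mem _ hgH _
    have hmono : ((g⁻¹ : ↥(twistedG2 K (3 ^ m))) : GL chevG2.Idx K)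
        ∈ chevG2.monomialSubgroup K := by
      apply mono_of_conj_tauT hK μ hμ1 hoμ _ (g⁻¹).2
      rw [hμ]
      have := (mem_HH1 _).1 hconj
      simpa using this
    have : g⁻¹ ∈ NN1 K m := (mem_NN1 _).2 hmono
    simpa using Subgroup.inv_mem _ this
  · exact WardCount.card_order_cyclic (HH1 K m) hcycH i (by rw [hcardH]; exact hid)

end

section

variable {K : Type*} [Field K] [Fintype K] {m : ℕ}

/-- the fifth conjunct of S2357: the number of elements of order `i ∣ q - 1`, `i > 2` -/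
theorem card_order_split (hK : Fintype.card K = 3 ^ (2 * m + 1)) :
    ∀ i : ℕ, 2 < i → i ∣ 3 ^ (2 * m + 1) - 1 →
      2 * Nat.card {g : ↥(twistedG2 K (3 ^ m)) // orderOf g = i}
        = Nat.totient i * (3 ^ (2 * m + 1)) ^ 3 * ((3 ^ (2 * m + 1)) ^ 3 + 1) := by
  have := charP3 hK
  intro i hi2 hid
  exact card_order_split_aux hK i hi2 hid

end

end Cfsg.Agent.Lib.Helper5.Ree
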