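import Cfsg.Agent.Lib.Helper5.Ree.WardQ4
import Cfsg.Agent.Lib.Helper5.Ree.WardCount
import Cfsg.Agent.Lib.Helper5.Ree.WardC1
import Cfsg.Agent.Lib.Lead.ReeCount.ConjUnion
import Mathlib

/-!
# Small Ree groups: the elements of order `i ∣ (q + 1) / 4` and `2 i` (helper5)
-/

set_option autoImplicit false
set_option maxRecDepth 100000

namespace Cfsg.Agent.Lib.Helper5.Ree

open Cfsg.Lie Cfsg.Agent.Lib.Helper5.Chev Cfsg.Agent.Lib.Helper5.GA Cfsg.Agent.Lib.Helper5.Tw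
open Cfsg.Agent.Lib.Helper5.Frob Cfsg.Agent.Lib.Helper5.SL2P Cfsg.Agent.Lib.Helper5.Ree
open Cfsg.Agent.ReeL Cfsg.Agent.ReeTor Cfsg.Agent.Lib.Helper8.ReeSyl

section abs

variable {G : Type*} [Group G]

/-- an element commuting with `w` centralises the powers of `w` -/
theorem mem_centralizer_zpowers (w z : G) (h : w * z = z * w) :
    z ∈ Subgroup.centralizer (Subgroup.zpowers w : Set G) := by
  rw [Subgroup.mem_centralizer_iff]
  intro u hu
  obtain ⟨k, rfl⟩ := Subgroup.mem_zpowers_iff.1 hu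
  have c : Commute w z := h
  exact (c.zpow_left k).eq

theorem zpowers_ne_bot_of_ne_one (w : G) (hw : w ≠ 1) : Subgroup.zpowers w ≠ ⊥ := by
  intro h
  apply hw
  have : w ∈ (⊥ : Subgroup G) := h ▸ Subgroup.mem_zpowers w
  exact Subgroup.mem_bot.1 this

/-- if the centralisers of the powers of `w` and of `g w g⁻¹` are both `A`, then `g` normalises
`A` -/
theorem mem_normalizer_of_centralizer [Finite G] (A : Subgroup G) (w g : G)
    (h1 : Subgroup.centralizer (Subgroup.zpowers w : Set G) = A)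
    (h2 : Subgroup.centralizer (Subgroup.zpowers (g * w * g⁻¹) : Set G) = A) :
    g ∈ Subgroup.normalizer (A : Set G) := by
  apply WardAbs.mem_normalizer_of_conj A g
  intro z hz
  rw [← h2]
  apply mem_centralizer_zpowers
  have hz' : w * z = z * w := by
    rw [← h1] at hz
    exact (Subgroup.mem_centralizer_iff.1 hz) w (Subgroup.mem_zpowers w)
  calc g * w * g⁻¹ * (g * z * g⁻¹) = g * (w * z) * g⁻¹ := by group
    _ = g * (z * w) * g⁻¹ := by rw [hz']
    _ = g * z * g⁻¹ * (g * w * g⁻¹) := by group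

end abs

section ree

variable {K : Type*} [Field K] [Fintype K] [CharP K 3] {m : ℕ}

/-- the `p`-part of the order of the small Ree group, `p ∣ (q + 1) / 4` -/
theorem fact_quarter_D (hK : Fintype.card K = 3 ^ (2 * m + 1)) (p : ℕ) [Fact p.Prime]
    (hpn : p ∣ (3 ^ (2 * m + 1) + 1) / 4) (D : Subgroup ↥(twistedG2 K (3 ^ m)))
    (hDcard : Nat.card D = (3 ^ (2 * m + 1) + 1) / 4) :
    (Nat.card ↥(twistedG2 K (3 ^ m))).factorization p = (Nat.card D).factorization p := by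
  have hpp : p.Prime := Fact.out
  have hp3 : 3 < p := prime_gt_three_of_dvd_quarter hpp hpn
  have hq8 := q_mod8 m
  have h3 : 3 ^ 1 ≤ 3 ^ (2 * m + 1) := Nat.pow_le_pow_right (by norm_num) (by omega)
  obtain ⟨n, hn⟩ : ∃ n, n = (3 ^ (2 * m + 1) + 1) / 4 := ⟨_, rfl⟩
  have hn4 : 3 ^ (2 * m + 1) + 1 = 4 * n := by omega
  have hpq : p ∣ 3 ^ (2 * m + 1) + 1 := by
    rw [hn4, hn]
    exact hpn.mul_left 4
  rw [fact_quarter hK p hp3 hpq, card_cent_aG hK, hDcard, ← hn, hn4]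
  have hn0 : n ≠ 0 := by omega
  have hnq : ¬ p ∣ 3 ^ (2 * m + 1) * (3 ^ (2 * m + 1) - 1) := by
    intro h
    rcases (Nat.Prime.dvd_mul hpp).1 h with h' | h'
    · have := Nat.le_of_dvd (by norm_num) (hpp.dvd_of_dvd_pow h')
      omega
    · have h2 : p ∣ (3 ^ (2 * m + 1) + 1) - (3 ^ (2 * m + 1) - 1) := Nat.dvd_sub hpq h'
      have e : (3 ^ (2 * m + 1) + 1) - (3 ^ (2 * m + 1) - 1) = 2 := by omega
      rw [e] at h2
      have := Nat.le_of_dvd (by norm_num) h2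
      omega
  have hn4' : ¬ p ∣ 4 := by
    intro h
    have := Nat.le_of_dvd (by norm_num) h
    have h2 : p ∣ 2 ^ 2 := by norm_num; exact h
    have := Nat.le_of_dvd (by norm_num) (hpp.dvd_of_dvd_pow h2)
    omega
  rw [fact_mul_right (by omega) (by
    have : 0 < 3 ^ (2 * m + 1) * (3 ^ (2 * m + 1) - 1) := Nat.mul_pos (by omega) (by omega)
    omega) hnq, fact_mul_left (by norm_num) hn0 hn4']

/-- an element whose order is divisible by a prime divisor of `(q + 1) / 4` is conjugate into the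
torus `A` -/
theorem quarter_conj (hK : Fintype.card K = 3 ^ (2 * m + 1))
    (A D : Subgroup ↥(twistedG2 K (3 ^ m)))
    (hDcard : Nat.card D = (3 ^ (2 * m + 1) + 1) / 4)
    (hcent : ∀ A₀ : Subgroup ↥(twistedG2 K (3 ^ m)), A₀ ≤ D → A₀ ≠ ⊥ →
      Subgroup.centralizer (A₀ : Set ↥(twistedG2 K (3 ^ m))) = A)
    (g₀ : ↥(twistedG2 K (3 ^ m))) (p : ℕ) (hp : p.Prime)
    (hpn : p ∣ (3 ^ (2 * m + 1) + 1) / 4) (hpg : p ∣ orderOf g₀) :
    ∃ h : ↥(twistedG2 K (3 ^ m)), h⁻¹ * g₀ * h ∈ A := by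
  have hfin := finite_twisted (K := K) (m := m) hK
  have : Fact p.Prime := ⟨hp⟩
  have ho0 : orderOf g₀ ≠ 0 := (orderOf_pos g₀).ne'
  have ha₀ : orderOf (g₀ ^ (orderOf g₀ / p)) = p := orderOf_pow_orderOf_div ho0 hpg
  obtain ⟨h, hh⟩ := conj_mem_of_fact p D (fact_quarter_D hK p hpn D hDcard)
    (g₀ ^ (orderOf g₀ / p)) (isPGroup_zpowers_of_orderOf p _ ha₀)
  refine ⟨h, ?_⟩
  have hne : h⁻¹ * g₀ ^ (orderOf g₀ / p) * h ≠ 1 := by
    intro e
    have e1 : g₀ ^ (orderOf g₀ / p) = 1 := by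
      have : g₀ ^ (orderOf g₀ / p) = h * (h⁻¹ * g₀ ^ (orderOf g₀ / p) * h) * h⁻¹ := by group
      rw [this, e]
      group
    rw [e1, orderOf_one] at ha₀
    exact hp.one_lt.ne ha₀
  rw [← hcent (Subgroup.zpowers (h⁻¹ * g₀ ^ (orderOf g₀ / p) * h))
    (by rw [Subgroup.zpowers_le]; exact hh) (zpowers_ne_bot_of_ne_one _ hne)]
  apply mem_centralizer_zpowers
  have c : Commute (g₀ ^ (orderOf g₀ / p)) g₀ := (Commute.refl g₀).pow_left _
  calc h⁻¹ * g₀ ^ (orderOf g₀ / p) * h * (h⁻¹ * g₀ * h)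
      = h⁻¹ * (g₀ ^ (orderOf g₀ / p) * g₀) * h := by group
    _ = h⁻¹ * (g₀ * g₀ ^ (orderOf g₀ / p)) * h := by rw [c.eq]
    _ = h⁻¹ * g₀ * h * (h⁻¹ * g₀ ^ (orderOf g₀ / p) * h) := by group

/-- the involutions commuting with an element whose centraliser is the torus `A` -/
theorem card_invol_comm (hK : Fintype.card K = 3 ^ (2 * m + 1))
    (A : Subgroup ↥(twistedG2 K (3 ^ m))) (hcomm : ∀ x ∈ A, ∀ y ∈ A, x * y = y * x)
    (haA : aG K m ∈ A) (hbA : bG K m ∈ A)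
    (hinvA : ∀ x ∈ A, x * x = 1 → x = 1 ∨ x = aG K m ∨ x = bG K m ∨ x = aG K m * bG K m)
    (x : ↥(twistedG2 K (3 ^ m))) (hxA : x ∈ A)
    (hC : Subgroup.centralizer (Subgroup.zpowers x : Set ↥(twistedG2 K (3 ^ m))) = A) :
    Nat.card {t : ↥(twistedG2 K (3 ^ m)) // orderOf t = 2 ∧ t * x = x * t} = 3 := by
  have hab : aG K m ≠ bG K m := aG_ne_of_sq hK _ (bG_sq hK)
  have hcab : aG K m * bG K m = bG K m * aG K m := (aG_comm hK _).eq
  have hab1 : aG K m * bG K m ≠ 1 := by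
    unfold bG
    exact aG_mul_ne hK _
  have habsq : aG K m * bG K m * (aG K m * bG K m) = 1 := by
    have c : Commute (aG K m) (bG K m) := hcab
    rw [c.symm.mul_mul_mul_comm, aG_sq, bG_sq hK, one_mul]
  have h3 : Set.ncard ({aG K m, bG K m, aG K m * bG K m} : Set ↥(twistedG2 K (3 ^ m))) = 3 := by
    apply ncard_three _ _ _ hab
    · intro h
      apply bG_ne_one (K := K) (m := m) hK
      have : aG K m * 1 = aG K m * bG K m := by rw [mul_one]; exact h
      exact (mul_left_cancel this).symm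
    · intro h
      apply aG_ne_one (K := K) (m := m) hK
      have : 1 * bG K m = aG K m * bG K m := by rw [one_mul]; exact h
      exact (mul_right_cancel this).symm
  have hset : {t : ↥(twistedG2 K (3 ^ m)) | orderOf t = 2 ∧ t * x = x * t}
      = {aG K m, bG K m, aG K m * bG K m} := by
    ext t
    constructor
    · rintro ⟨ht2, htx⟩
      have htA : t ∈ A := by
        rw [← hC]
        exact mem_centralizer_zpowers x t htx.symm
      have htt : t * t = 1 := by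
        have := pow_orderOf_eq_one t
        rwa [ht2, pow_two] at this
      rcases hinvA t htA htt with h | h | h | h
      · rw [h, orderOf_one] at ht2
        omega
      · rw [h]
        simp
      · rw [h]
        simp
      · rw [h]
        simp
    · intro ht
      simp only [Set.mem_insert_iff, Set.mem_singleton_iff] at ht
      rcases ht with rfl | rfl | rfl
      · exact ⟨orderOf_eq_prime (by rw [pow_two]; exact aG_sq) (aG_ne_one hK),
          hcomm _ haA _ hxA⟩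
      · exact ⟨orderOf_eq_prime (by rw [pow_two]; exact bG_sq hK) (bG_ne_one hK),
          hcomm _ hbA _ hxA⟩
      · exact ⟨orderOf_eq_prime (by rw [pow_two]; exact habsq) hab1,
          hcomm _ (A.mul_mem haA hbA) _ hxA⟩
  have : Nat.card {t : ↥(twistedG2 K (3 ^ m)) // orderOf t = 2 ∧ t * x = x * t}
      = Set.ncard {t : ↥(twistedG2 K (3 ^ m)) | orderOf t = 2 ∧ t * x = x * t} := rfl
  rw [this, hset, h3]

/-- conjunct 6 of S2357, with the characteristic as an instance -/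
theorem card_order_quarter_aux (hK : Fintype.card K = 3 ^ (2 * m + 1)) (hm : 1 ≤ m) (i : ℕ)
    (hi1 : 1 < i) (hin : i ∣ (3 ^ (2 * m + 1) + 1) / 4) :
    6 * Nat.card {g : ↥(twistedG2 K (3 ^ m)) // orderOf g = i} =
        Nat.totient i * (3 ^ (2 * m + 1)) ^ 3 * (3 ^ (2 * m + 1) - 1)
          * ((3 ^ (2 * m + 1)) ^ 2 - 3 ^ (2 * m + 1) + 1) ∧
      2 * Nat.card {g : ↥(twistedG2 K (3 ^ m)) // orderOf g = 2 * i} =
        Nat.totient i * (3 ^ (2 * m + 1)) ^ 3 * (3 ^ (2 * m + 1) - 1)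
          * ((3 ^ (2 * m + 1)) ^ 2 - 3 ^ (2 * m + 1) + 1) := by
  have hfin := finite_twisted (K := K) (m := m) hK
  obtain ⟨A, D, hcomm, hcardA, hexp, haA, hbA, hinvA, hDmem, hDcyc, hDcard, hcent, hcardN, hNA⟩ :=
    quarter_torus hK hm
  have hDA : D ≤ A := fun x hx => ((hDmem x).1 hx).1
  have hq8 := q_mod8 m
  have h3 : 3 ^ 1 ≤ 3 ^ (2 * m + 1) := Nat.pow_le_pow_right (by norm_num) (by omega)
  have hiodd : Odd i := by
    have hnodd : Odd ((3 ^ (2 * m + 1) + 1) / 4) := by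
      rw [Nat.odd_iff]
      omega
    exact hnodd.of_dvd_nat hin
  have hi0 : i ≠ 0 := by omega
  -- conjugation into `D`
  have hconjD : ∀ x : ↥(twistedG2 K (3 ^ m)), orderOf x = i → ∃ g, g⁻¹ * x * g ∈ D := by
    intro x hx
    obtain ⟨p, hp, hpi⟩ := Nat.exists_prime_and_dvd hi1.ne'
    obtain ⟨h, hh⟩ := quarter_conj hK A D hDcard hcent x p hp (hpi.trans hin) (hx ▸ hpi)
    refine ⟨h, (hDmem _).2 ⟨hh, ?_⟩⟩
    have e : (h⁻¹ * x * h) ^ ((3 ^ (2 * m + 1) + 1) / 4)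
        = h⁻¹ * x ^ ((3 ^ (2 * m + 1) + 1) / 4) * h := by
      have := conj_pow (a := h⁻¹) (b := x) (i := (3 ^ (2 * m + 1) + 1) / 4)
      rwa [inv_inv] at this
    have hxn : x ^ ((3 ^ (2 * m + 1) + 1) / 4) = 1 :=
      orderOf_dvd_iff_pow_eq_one.1 (hx ▸ hin)
    rw [e, hxn]
    group
  have hne1 : ∀ x : ↥(twistedG2 K (3 ^ m)), orderOf x = i → x ≠ 1 := by
    rintro x hx rfl
    rw [orderOf_one] at hx
    omega
  have hconj_ne : ∀ x g : ↥(twistedG2 K (3 ^ m)), x ≠ 1 → g⁻¹ * x * g ≠ 1 := by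
    intro x g hx e
    apply hx
    have : x = g * (g⁻¹ * x * g) * g⁻¹ := by group
    rw [this, e]
    group
  have hnorm : ∀ x g : ↥(twistedG2 K (3 ^ m)), orderOf x = i → x ∈ D → g⁻¹ * x * g ∈ D →
      g ∈ Subgroup.normalizer (D : Set ↥(twistedG2 K (3 ^ m))) := by
    intro x g hx hxD hgD
    have h1 := hcent (Subgroup.zpowers x) (by rw [Subgroup.zpowers_le]; exact hxD)
      (zpowers_ne_bot_of_ne_one x (hne1 x hx))
    have h2 := hcent (Subgroup.zpowers (g⁻¹ * x * g)) (by rw [Subgroup.zpowers_le]; exact hgD)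
      (zpowers_ne_bot_of_ne_one _ (hconj_ne x g (hne1 x hx)))
    have h4 := mem_normalizer_of_centralizer A x g⁻¹ h1 (by rw [inv_inv]; exact h2)
    rw [hNA] at h4
    simpa using Subgroup.inv_mem _ h4
  have key := WardCount.card_mul_normalizer D i (Nat.totient i) hconjD hnorm
    (WardCount.card_order_cyclic D hDcyc i (by rw [hDcard]; exact hin))
  rw [hcardN, card_twisted hK] at key
  -- the first count
  have hfirst : 6 * Nat.card {g : ↥(twistedG2 K (3 ^ m)) // orderOf g = i} =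
      Nat.totient i * (3 ^ (2 * m + 1)) ^ 3 * (3 ^ (2 * m + 1) - 1)
        * ((3 ^ (2 * m + 1)) ^ 2 - 3 ^ (2 * m + 1) + 1) := by
    have hcs := cube_succ (3 ^ (2 * m + 1)) (by omega)
    have e1 : (3 ^ (2 * m + 1)) ^ 2 - 3 ^ (2 * m + 1) + 1
        = 3 ^ (2 * m + 1) * (3 ^ (2 * m + 1) - 1) + 1 := by
      have : (3 ^ (2 * m + 1)) ^ 2 = 3 ^ (2 * m + 1) * (3 ^ (2 * m + 1) - 1) + 3 ^ (2 * m + 1) := by
        obtain ⟨k, hk⟩ : ∃ k, 3 ^ (2 * m + 1) = k + 1 := ⟨3 ^ (2 * m + 1) - 1, by omega⟩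
        rw [hk, Nat.add_sub_cancel]
        ring
      omega
    rw [e1]
    rw [hcs] at key
    have hpos : 0 < 3 ^ (2 * m + 1) + 1 := by omega
    apply Nat.eq_of_mul_eq_mul_right hpos
    calc 6 * Nat.card {g : ↥(twistedG2 K (3 ^ m)) // orderOf g = i} * (3 ^ (2 * m + 1) + 1)
        = Nat.card {g : ↥(twistedG2 K (3 ^ m)) // orderOf g = i}
            * (6 * (3 ^ (2 * m + 1) + 1)) := by ring
      _ = _ := key
      _ = _ := by ring
  refine ⟨hfirst, ?_⟩
  -- the second count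
  have h3inv : ∀ x : ↥(twistedG2 K (3 ^ m)), orderOf x = i →
      Nat.card {t : ↥(twistedG2 K (3 ^ m)) // orderOf t = 2 ∧ t * x = x * t} = 3 := by
    intro x hx
    obtain ⟨g, hg⟩ := hconjD x hx
    have hC := hcent (Subgroup.zpowers (g⁻¹ * x * g)) (by rw [Subgroup.zpowers_le]; exact hg)
      (zpowers_ne_bot_of_ne_one _ (hconj_ne x g (hne1 x hx)))
    refine Eq.trans ?_ (card_invol_comm hK A hcomm haA hbA hinvA (g⁻¹ * x * g) (hDA hg) hC)
    apply Nat.card_congr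
    refine Equiv.subtypeEquiv (MulAut.conj g⁻¹).toEquiv ?_
    intro t
    show orderOf t = 2 ∧ t * x = x * t ↔
      orderOf (g⁻¹ * t * g⁻¹⁻¹) = 2 ∧ g⁻¹ * t * g⁻¹⁻¹ * (g⁻¹ * x * g) = g⁻¹ * x * g * (g⁻¹ * t * g⁻¹⁻¹)
    rw [inv_inv]
    have e3 : orderOf (g⁻¹ * t * g) = orderOf t := by
      have := (MulAut.conj g⁻¹).orderOf_eq t
      rwa [MulAut.conj_apply, inv_inv] at this
    have e1 : g⁻¹ * t * g * (g⁻¹ * x * g) = g⁻¹ * (t * x) * g := by group
    have e2 : g⁻¹ * x * g * (g⁻¹ * t * g) = g⁻¹ * (x * t) * g := by group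
    rw [e3, e1, e2]
    constructor
    · rintro ⟨h1, h2⟩
      exact ⟨h1, by rw [h2]⟩
    · rintro ⟨h1, h2⟩
      exact ⟨h1, mul_left_cancel (mul_right_cancel h2)⟩
  have h2i := WardCount.card_order_two_mul i hiodd 3 h3inv
  rw [h2i, ← hfirst]
  ring

end ree

section final

variable {K : Type*} [Field K] [Fintype K] {m : ℕ}

/-- the sixth conjunct of S2357 -/
theorem card_order_quarter (hm : 1 ≤ m) (hK : Fintype.card K = 3 ^ (2 * m + 1)) :
    ∀ i : ℕ, 1 < i → i ∣ (3 ^ (2 * m + 1) + 1) / 4 →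
      6 * Nat.card {g : ↥(twistedG2 K (3 ^ m)) // orderOf g = i} =
          Nat.totient i * (3 ^ (2 * m + 1)) ^ 3 * (3 ^ (2 * m + 1) - 1)
            * ((3 ^ (2 * m + 1)) ^ 2 - 3 ^ (2 * m + 1) + 1) ∧
        2 * Nat.card {g : ↥(twistedG2 K (3 ^ m)) // orderOf g = 2 * i} =
          Nat.totient i * (3 ^ (2 * m + 1)) ^ 3 * (3 ^ (2 * m + 1) - 1)
            * ((3 ^ (2 * m + 1)) ^ 2 - 3 ^ (2 * m + 1) + 1) := by
  have := charP3 hK
  intro i hi1 hin
  exact card_order_quarter_aux hK hm i hi1 hin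

end final

end Cfsg.Agent.Lib.Helper5.Ree
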