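import Cfsg.Agent.Lib.Helper5.Ree.WardC3
import Cfsg.Agent.Lib.Helper5.Ree.WardT2
import Mathlib

/-!
# Small Ree groups: elements of order `d` for `d ∣ 6`, `d ∣ q - 1`, `d ∣ (q + 1) / 2` (helper5)
-/

set_option autoImplicit false
set_option maxRecDepth 100000

namespace Cfsg.Agent.Lib.Helper5.Ree

open Cfsg.Lie Cfsg.Agent.Lib.Helper5.Chev Cfsg.Agent.Lib.Helper5.GA Cfsg.Agent.Lib.Helper5.Tw
open Cfsg.Agent.Lib.Helper5.Frob Cfsg.Agent.Lib.Helper5.SL2P Cfsg.Agent.Lib.Helper5.Ree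
open Cfsg.Agent.ReeL Cfsg.Agent.ReeTor Cfsg.Agent.Lib.Helper8.ReeSyl

section abs

variable {G : Type*} [Group G]

/-- the divisors of the order of an element are orders of elements -/
theorem exists_orderOf_of_dvd [Finite G] (g : G) (d : ℕ) (hd : d ∣ orderOf g) :
    ∃ x : G, orderOf x = d :=
  ⟨g ^ (orderOf g / d), orderOf_pow_orderOf_div (orderOf_pos g).ne' hd⟩

end abs

section ree

variable {K : Type*} [Field K] [Fintype K] [CharP K 3] {m : ℕ}

theorem exists_order_six_aux (hK : Fintype.card K = 3 ^ (2 * m + 1)) (hm : 1 ≤ m) :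
    ∃ g : ↥(twistedG2 K (3 ^ m)), orderOf g = 6 := by
  have h := card_order_six hK hm
  have h3 : 3 ^ 1 ≤ 3 ^ (2 * m + 1) := Nat.pow_le_pow_right (by norm_num) (by omega)
  have hpos : 0 < (3 ^ (2 * m + 1)) ^ 2 * (3 ^ (2 * m + 1) - 1) * ((3 ^ (2 * m + 1)) ^ 3 + 1) := by
    have h1 : 0 < (3 ^ (2 * m + 1)) ^ 2 := by positivity
    have h2 : 0 < 3 ^ (2 * m + 1) - 1 := by omega
    positivity
  rw [← h] at hpos
  obtain ⟨g⟩ := (Nat.card_pos_iff.1 hpos).1
  exact ⟨g.1, g.2⟩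

theorem exists_order_split_aux (hK : Fintype.card K = 3 ^ (2 * m + 1)) :
    ∃ g : ↥(twistedG2 K (3 ^ m)), orderOf g = 3 ^ (2 * m + 1) - 1 := by
  have hcyc := isCyclic_HH1 (K := K) (m := m) hK
  obtain ⟨x, hx⟩ := hcyc.exists_generator
  refine ⟨(x : ↥(twistedG2 K (3 ^ m))), ?_⟩
  rw [Subgroup.orderOf_coe, orderOf_eq_card_of_forall_mem_zpowers hx, card_HH1 hK]

theorem exists_order_half_aux (hK : Fintype.card K = 3 ^ (2 * m + 1)) (hm : 1 ≤ m) :
    ∃ g : ↥(twistedG2 K (3 ^ m)), orderOf g = (3 ^ (2 * m + 1) + 1) / 2 := by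
  obtain ⟨A, D, hcomm, hcardA, hexp, haA, hbA, hinvA, hDmem, hDcyc, hDcard, hcent, hcardN, hNA⟩ :=
    quarter_torus hK hm
  have hDA : D ≤ A := fun x hx => ((hDmem x).1 hx).1
  have hq8 := q_mod8 m
  obtain ⟨x, hx⟩ := hDcyc.exists_generator
  have hox : orderOf (x : ↥(twistedG2 K (3 ^ m))) = (3 ^ (2 * m + 1) + 1) / 4 := by
    rw [Subgroup.orderOf_coe, orderOf_eq_card_of_forall_mem_zpowers hx, hDcard]
  have hoa : orderOf (aG K m) = 2 :=
    orderOf_eq_prime (by rw [pow_two]; exact aG_sq) (aG_ne_one hK)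
  have hc : Commute (aG K m) (x : ↥(twistedG2 K (3 ^ m))) := hcomm _ haA _ (hDA x.2)
  refine ⟨aG K m * x, ?_⟩
  rw [hc.orderOf_mul_eq_mul_orderOf_of_coprime, hoa, hox]
  · omega
  · rw [hoa, hox, Nat.coprime_two_left, Nat.odd_iff]
    omega

end ree

section final

variable {K : Type*} [Field K] [Fintype K] {m : ℕ}

/-- every divisor of `6`, `q - 1` or `(q + 1) / 2` is the order of an element of the small Ree
group -/
theorem exists_order_of_dvd (hm : 1 ≤ m) (hK : Fintype.card K = 3 ^ (2 * m + 1)) (d : ℕ)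
    (hd : d ∣ 6 ∨ d ∣ 3 ^ (2 * m + 1) - 1 ∨ d ∣ (3 ^ (2 * m + 1) + 1) / 2) :
    ∃ g : ↥(twistedG2 K (3 ^ m)), orderOf g = d := by
  have := charP3 hK
  have hfin := finite_twisted (K := K) (m := m) hK
  rcases hd with h | h | h
  · obtain ⟨g, hg⟩ := exists_order_six_aux hK hm
    exact exists_orderOf_of_dvd g d (hg ▸ h)
  · obtain ⟨g, hg⟩ := exists_order_split_aux (K := K) (m := m) hK
    exact exists_orderOf_of_dvd g d (hg ▸ h)
  · obtain ⟨g, hg⟩ := exists_order_half_aux hK hm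
    exact exists_orderOf_of_dvd g d (hg ▸ h)

end final

end Cfsg.Agent.Lib.Helper5.Ree
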