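import Cfsg.Agent.Lib.Lead.ReeTor.Part2
import Mathlib

/-!
# Small Ree groups: the normaliser of a subgroup of odd order of `H¹` (helper5)

`N_G(A₀) = N¹` for every subgroup `A₀ ≤ H¹` containing a non-trivial element of odd order; the
cyclic subgroup of order `(q - 1) / 2` of Ward's list.
-/

set_option autoImplicit false
set_option maxRecDepth 100000

namespace Cfsg.Agent.Lib.Helper5.Ree

open Cfsg.Lie Cfsg.Agent.Lib.Helper5.Chev Cfsg.Agent.Lib.Helper5.GA Cfsg.Agent.Lib.Helper5.Tw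
open Cfsg.Agent.Lib.Helper5.Frob Cfsg.Agent.Lib.Helper5.SL2P Cfsg.Agent.Lib.Helper5.Ree
open Cfsg.Agent.ReeL Cfsg.Agent.ReeTor

section

variable {K : Type*} [Field K] [Fintype K] [CharP K 3] {m : ℕ}

/-- `N¹` as a subgroup of the twisted group -/
abbrev NN1 (K : Type*) [Field K] (m : ℕ) : Subgroup ↥(twistedG2 K (3 ^ m)) :=
  (chevG2.monomialSubgroup K ⊓ twistedG2 K (3 ^ m)).subgroupOf (twistedG2 K (3 ^ m))

omit [Fintype K] [CharP K 3] in
theorem mem_NN1 (x : ↥(twistedG2 K (3 ^ m))) :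
    x ∈ NN1 K m ↔ (x : GL chevG2.Idx K) ∈ chevG2.monomialSubgroup K := by
  rw [Subgroup.mem_subgroupOf]
  exact ⟨fun h => h.1, fun h => ⟨h, x.2⟩⟩

theorem card_NN1 (hK : Fintype.card K = 3 ^ (2 * m + 1)) :
    Nat.card (NN1 K m) = 2 * (3 ^ (2 * m + 1) - 1) := by
  have hHN : chevG2.diagonalSubgroup K ≤ chevG2.monomialSubgroup K := le_sup_left
  have hle : chevG2.diagonalSubgroup K ⊓ twistedG2 K (3 ^ m)
      ≤ chevG2.monomialSubgroup K ⊓ twistedG2 K (3 ^ m) := inf_le_inf_right _ hHN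
  rw [Nat.card_congr (Subgroup.subgroupOfEquivOfLe
    (inf_le_right : chevG2.monomialSubgroup K ⊓ twistedG2 K (3 ^ m) ≤ _)).toEquiv]
  have h1 := Subgroup.index_mul_card ((chevG2.diagonalSubgroup K ⊓ twistedG2 K (3 ^ m)).subgroupOf
      (chevG2.monomialSubgroup K ⊓ twistedG2 K (3 ^ m)))
  rw [index_two hK, Nat.card_congr (Subgroup.subgroupOfEquivOfLe hle).toEquiv,
    card_diag_twisted hK] at h1
  exact h1.symm

/-- an element of the twisted group which conjugates a non-trivial element of odd order of `H¹`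
into `H¹` is monomial -/
theorem mono_of_conj_tauT (hK : Fintype.card K = 3 ^ (2 * m + 1)) (μ : Kˣ) (hμ : μ ≠ 1)
    (hodd : Odd (orderOf μ)) (g : GL chevG2.Idx K) (hg : g ∈ twistedG2 K (3 ^ m))
    (hc : g * tauT K m μ * g⁻¹ ∈ chevG2.diagonalSubgroup K) :
    g ∈ chevG2.monomialSubgroup K := by
  have hHB : chevG2.diagonalSubgroup K ≤ chevG2.borelSubgroup K := le_sup_right
  have hHN : chevG2.diagonalSubgroup K ≤ chevG2.monomialSubgroup K := le_sup_left
  have hh₀d : tauT K m μ ∈ chevG2.diagonalSubgroup K ⊓ twistedG2 K (3 ^ m) :=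
    (mem_diag_twisted_iff hK _).2 ⟨μ, rfl⟩
  have hh₀1 : tauT K m μ ≠ 1 := fun h =>
    hμ (tauT_injective (K := K) (m := m) (h.trans (map_one _).symm))
  have hh₀odd : Odd (orderOf (tauT K m μ)) := by
    rw [orderOf_injective (tauT K m) tauT_injective μ]
    exact hodd
  have hcent := pos_inf_centralizer hK _ hh₀d hh₀1 hh₀odd
  -- the conjugate
  have hc2 : g * tauT K m μ * g⁻¹ ∈ chevG2.diagonalSubgroup K ⊓ twistedG2 K (3 ^ m) :=
    ⟨hc, Subgroup.mul_mem _ (Subgroup.mul_mem _ hg hh₀d.2) (Subgroup.inv_mem _ hg)⟩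
  obtain ⟨μ', hμ'⟩ := (mem_diag_twisted_iff hK _).1 hc2
  have hrel : g * tauT K m μ = tauT K m μ' * g := by
    rw [hμ']
    group
  have hh₁d : tauT K m μ' ∈ chevG2.diagonalSubgroup K ⊓ twistedG2 K (3 ^ m) :=
    (mem_diag_twisted_iff hK _).2 ⟨μ', rfl⟩
  have hμ'B : tauT K m μ' ∈ chevG2.borelSubgroup K := hHB hh₁d.1
  have hμB : tauT K m μ ∈ chevG2.borelSubgroup K := hHB hh₀d.1
  have hUtriv : ∀ u ∈ chevG2.posUnipotent K ⊓ twistedG2 K (3 ^ m),
      u * tauT K m μ = tauT K m μ * u → u = 1 := by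
    intro u hu hcm
    have hu1 : u ∈ Subgroup.centralizer {tauT K m μ} := by
      rw [Subgroup.mem_centralizer_singleton_iff]
      exact hcm
    have hmem : u ∈ (chevG2.posUnipotent K ⊓ twistedG2 K (3 ^ m)) ⊓
        Subgroup.centralizer {tauT K m μ} := ⟨hu, hu1⟩
    rw [hcent, Subgroup.mem_bot] at hmem
    exact hmem
  rcases twisted_cases hK g hg with ⟨u, hu, h, hh, rfl⟩ | ⟨u, hu, h, hh, u', hu', rfl⟩
  · obtain ⟨ν, rfl⟩ := (mem_diag_twisted_iff hK h).1 hh
    have hcomm : tauT K m ν * tauT K m μ = tauT K m μ * tauT K m ν := by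
      rw [← map_mul, ← map_mul, mul_comm]
    have m3 : tauT K m μ' * u * (tauT K m μ')⁻¹ ∈ chevG2.posUnipotent K ⊓ twistedG2 K (3 ^ m) :=
      ⟨(borel_conj_pos (tauT K m μ') u hμ'B).1 hu.1,
        Subgroup.mul_mem _ (Subgroup.mul_mem _ hh₁d.2 hu.2) (Subgroup.inv_mem _ hh₁d.2)⟩
    have hcell : cellMap hK (Sum.inl (⟨u, hu⟩, ⟨_, hh₀d⟩))
        = cellMap hK (Sum.inl (⟨_, m3⟩, ⟨_, hh₁d⟩)) := by
      apply Subtype.ext
      show u * tauT K m μ = tauT K m μ' * u * (tauT K m μ')⁻¹ * tauT K m μ'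
      have e1 : u * tauT K m μ * tauT K m ν = tauT K m μ' * u * tauT K m ν := by
        calc u * tauT K m μ * tauT K m ν = u * tauT K m ν * tauT K m μ := by
              rw [mul_assoc, ← hcomm, ← mul_assoc]
          _ = tauT K m μ' * (u * tauT K m ν) := hrel
          _ = _ := by group
      have e2 := mul_right_cancel e1
      rw [e2]
      group
    have h1 := Sum.inl.inj ((cellMap_bijective hK).1 hcell)
    have h2 := congrArg (fun p => (p.2 : GL chevG2.Idx K)) h1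
    simp only at h2
    have h3 : μ = μ' := tauT_injective (K := K) (m := m) h2
    subst h3
    have h4 := congrArg (fun p => (p.1 : GL chevG2.Idx K)) h1
    simp only at h4
    have h5 : u * tauT K m μ = tauT K m μ * u := by
      have : u * tauT K m μ = tauT K m μ * u * (tauT K m μ)⁻¹ * tauT K m μ := by
        rw [← h4]
      rw [this]
      group
    rw [hUtriv u hu h5, one_mul]
    exact hHN hh.1
  · obtain ⟨ν, rfl⟩ := (mem_diag_twisted_iff hK h).1 hh
    have hinv := n1_conj_tauT hK μ'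
    have hinv' : tauT K m μ' * n1 hK = n1 hK * (tauT K m μ')⁻¹ := by
      have : n1 hK * (tauT K m μ')⁻¹ * (n1 hK)⁻¹ = tauT K m μ' := by
        have e : n1 hK * (tauT K m μ')⁻¹ * (n1 hK)⁻¹
            = (n1 hK * tauT K m μ' * (n1 hK)⁻¹)⁻¹ := by group
        rw [e, hinv, inv_inv]
      exact (mul_inv_eq_iff_eq_mul.1 this).symm
    have m1 : tauT K m ν * tauT K m μ ∈ chevG2.diagonalSubgroup K ⊓ twistedG2 K (3 ^ m) :=
      Subgroup.mul_mem _ hh hh₀d
    have m2 : (tauT K m μ)⁻¹ * u' * tauT K m μ ∈ chevG2.posUnipotent K ⊓ twistedG2 K (3 ^ m) := by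
      refine ⟨?_, Subgroup.mul_mem _ (Subgroup.mul_mem _ (Subgroup.inv_mem _ hh₀d.2) hu'.2) hh₀d.2⟩
      have := (borel_conj_pos (tauT K m μ)⁻¹ u' (Subgroup.inv_mem _ hμB)).1 hu'.1
      rwa [inv_inv] at this
    have m3 : tauT K m μ' * u * (tauT K m μ')⁻¹ ∈ chevG2.posUnipotent K ⊓ twistedG2 K (3 ^ m) :=
      ⟨(borel_conj_pos (tauT K m μ') u hμ'B).1 hu.1,
        Subgroup.mul_mem _ (Subgroup.mul_mem _ hh₁d.2 hu.2) (Subgroup.inv_mem _ hh₁d.2)⟩
    have m4 : (tauT K m μ')⁻¹ * tauT K m ν ∈ chevG2.diagonalSubgroup K ⊓ twistedG2 K (3 ^ m) :=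
      Subgroup.mul_mem _ (Subgroup.inv_mem _ hh₁d) hh
    have hcell : cellMap hK (Sum.inr (⟨u, hu⟩, ⟨_, m1⟩, ⟨_, m2⟩))
        = cellMap hK (Sum.inr (⟨_, m3⟩, ⟨_, m4⟩, ⟨u', hu'⟩)) := by
      apply Subtype.ext
      show u * n1 hK * (tauT K m ν * tauT K m μ) * ((tauT K m μ)⁻¹ * u' * tauT K m μ)
        = tauT K m μ' * u * (tauT K m μ')⁻¹ * n1 hK * ((tauT K m μ')⁻¹ * tauT K m ν) * u'
      have e1 : u * n1 hK * (tauT K m ν * tauT K m μ) * ((tauT K m μ)⁻¹ * u' * tauT K m μ)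
          = u * n1 hK * tauT K m ν * u' * tauT K m μ := by group
      have e2 : tauT K m μ' * u * (tauT K m μ')⁻¹ * n1 hK * ((tauT K m μ')⁻¹ * tauT K m ν) * u'
          = tauT K m μ' * u * (tauT K m μ')⁻¹ * (n1 hK * (tauT K m μ')⁻¹) * tauT K m ν * u' := by
        group
      rw [e1, e2, ← hinv', hrel]
      group
    have h1 := Sum.inr.inj ((cellMap_bijective hK).1 hcell)
    have h2 := congrArg (fun p => (p.2.1 : GL chevG2.Idx K)) h1
    simp only at h2
    rw [← map_mul, ← map_inv, ← map_mul] at h2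
    have h3 := tauT_injective (K := K) (m := m) h2
    -- `μ' = μ⁻¹`
    have h4 : μ' = μ⁻¹ := by
      have : ν * μ = ν * μ'⁻¹ := by rw [h3, mul_comm]
      have h5 := mul_left_cancel this
      rw [h5, inv_inv]
    subst h4
    have hu1 : u = 1 := by
      have h6 := congrArg (fun p => (p.1 : GL chevG2.Idx K)) h1
      simp only at h6
      apply hUtriv u hu
      have e : tauT K m μ⁻¹ = (tauT K m μ)⁻¹ := map_inv _ _
      rw [e, inv_inv] at h6
      have : tauT K m μ * u = (tauT K m μ * ((tauT K m μ)⁻¹ * u * tauT K m μ)) := by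
        rw [← h6]
      rw [this]
      group
    have hu'1 : u' = 1 := by
      have h6 := congrArg (fun p => (p.2.2 : GL chevG2.Idx K)) h1
      simp only at h6
      apply hUtriv u' hu'
      have : u' * tauT K m μ = tauT K m μ * ((tauT K m μ)⁻¹ * u' * tauT K m μ) := by group
      rw [this, h6]
    rw [hu1, hu'1, one_mul, mul_one]
    exact Subgroup.mul_mem _ (n1_mono hK) (hHN hh.1)

/-- `N¹` normalises every subgroup of `H¹` -/
theorem NN1_conj_mem (hK : Fintype.card K = 3 ^ (2 * m + 1))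
    (A0 : Subgroup ↥(twistedG2 K (3 ^ m))) (hA : A0 ≤ HH1 K m)
    (g : ↥(twistedG2 K (3 ^ m))) (hg : g ∈ NN1 K m) (y : ↥(twistedG2 K (3 ^ m))) (hy : y ∈ A0) :
    g * y * g⁻¹ ∈ A0 := by
  have hyH := hA hy
  rw [mem_HH1] at hyH
  obtain ⟨ξ, hξ⟩ := (mem_diag_twisted_iff hK _).1 ⟨hyH, y.2⟩
  rw [mem_NN1] at hg
  rcases mono_fix_cases' hK _ hg (twisted_le_fixR hK g.2) with h | h
  · obtain ⟨ν, hν⟩ := (mem_diag_twisted_iff hK _).1 ⟨h, g.2⟩
    have e : g * y * g⁻¹ = y := by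
      apply Subtype.ext
      show (g : GL chevG2.Idx K) * (y : GL chevG2.Idx K) * (g : GL chevG2.Idx K)⁻¹
        = (y : GL chevG2.Idx K)
      rw [← hν, ← hξ, ← map_mul, ← map_inv, ← map_mul]
      congr 1
      rw [mul_comm ν ξ, mul_assoc, mul_inv_cancel, mul_one]
    rw [e]
    exact hy
  · have hdt : (n1 hK)⁻¹ * (g : GL chevG2.Idx K) ∈ twistedG2 K (3 ^ m) :=
      Subgroup.mul_mem _ (Subgroup.inv_mem _ (n1_twisted hK)) g.2
    obtain ⟨ν, hν⟩ := (mem_diag_twisted_iff hK _).1 ⟨h, hdt⟩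
    have eg : (g : GL chevG2.Idx K) = n1 hK * tauT K m ν := by
      rw [hν]
      group
    have e : g * y * g⁻¹ = y⁻¹ := by
      apply Subtype.ext
      show (g : GL chevG2.Idx K) * (y : GL chevG2.Idx K) * (g : GL chevG2.Idx K)⁻¹
        = (y : GL chevG2.Idx K)⁻¹
      rw [eg, ← hξ, ← n1_conj_tauT hK ξ]
      have hcomm : tauT K m ν * tauT K m ξ * (tauT K m ν)⁻¹ = tauT K m ξ := by
        rw [← map_mul, ← map_inv, ← map_mul]
        congr 1
        rw [mul_comm ν ξ, mul_assoc, mul_inv_cancel, mul_one]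
      calc n1 hK * tauT K m ν * tauT K m ξ * (n1 hK * tauT K m ν)⁻¹
          = n1 hK * (tauT K m ν * tauT K m ξ * (tauT K m ν)⁻¹) * (n1 hK)⁻¹ := by group
        _ = n1 hK * tauT K m ξ * (n1 hK)⁻¹ := by rw [hcomm]
    rw [e]
    exact Subgroup.inv_mem _ hy

/-- the normaliser of a subgroup of `H¹` containing a non-trivial element of odd order is `N¹` -/
theorem normalizer_eq_NN1 (hK : Fintype.card K = 3 ^ (2 * m + 1))
    (A0 : Subgroup ↥(twistedG2 K (3 ^ m))) (hA : A0 ≤ HH1 K m)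
    (a : ↥(twistedG2 K (3 ^ m))) (ha : a ∈ A0) (ha1 : a ≠ 1) (hodd : Odd (orderOf a)) :
    Subgroup.normalizer (A0 : Set ↥(twistedG2 K (3 ^ m))) = NN1 K m := by
  have haH := hA ha
  rw [mem_HH1] at haH
  obtain ⟨μ, hμ⟩ := (mem_diag_twisted_iff hK _).1 ⟨haH, a.2⟩
  have hμ1 : μ ≠ 1 := by
    rintro rfl
    apply ha1
    apply Subtype.ext
    rw [← hμ, map_one]
    rfl
  have hoμ : Odd (orderOf μ) := by
    rw [← orderOf_injective (tauT K m) tauT_injective μ, hμ, Subgroup.orderOf_coe]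
    exact hodd
  apply le_antisymm
  · intro g hg
    rw [Subgroup.mem_normalizer_iff] at hg
    have h1 := hA ((hg a).1 ha)
    rw [mem_HH1] at h1
    rw [mem_NN1]
    apply mono_of_conj_tauT hK μ hμ1 hoμ _ g.2
    rw [hμ]
    exact h1
  · intro g hg
    rw [Subgroup.mem_normalizer_iff]
    intro x
    constructor
    · intro hx
      exact NN1_conj_mem hK A0 hA g hg x hx
    · intro hx
      have := NN1_conj_mem hK A0 hA g⁻¹ (Subgroup.inv_mem _ hg) _ hx
      have e : g⁻¹ * (g * x * g⁻¹) * g⁻¹⁻¹ = x := by group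
      rw [e] at this
      exact this

end

section

variable {K : Type*} [Field K] [Fintype K] {m : ℕ}

/-- Ward's list, the split torus: a cyclic subgroup of order `(q - 1) / 2` with normaliser of
order `2 (q - 1)`, which is the normaliser of each of its non-trivial subgroups -/
theorem ward_split (hm : 1 ≤ m) (hK : Fintype.card K = 3 ^ (2 * m + 1)) :
    ∃ A : Subgroup ↥(twistedG2 K (3 ^ m)), IsCyclic A ∧
      Nat.card A = (3 ^ (2 * m + 1) - 1) / 2 ∧
      Nat.card (Subgroup.normalizer (A : Set ↥(twistedG2 K (3 ^ m)))) = 2 * (3 ^ (2 * m + 1) - 1) ∧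
      ∀ A₀ : Subgroup ↥(twistedG2 K (3 ^ m)), A₀ ≤ A → A₀ ≠ ⊥ →
        Subgroup.normalizer (A₀ : Set ↥(twistedG2 K (3 ^ m)))
          = Subgroup.normalizer (A : Set ↥(twistedG2 K (3 ^ m))) := by
  have := charP3 hK
  have hfin := Cfsg.Agent.ReeL.finite_twisted (K := K) (m := m) hK
  have hq8 := q_mod8 m
  have h27 : 3 ^ (2 * 1 + 1) ≤ 3 ^ (2 * m + 1) := Nat.pow_le_pow_right (by norm_num) (by omega)
  have hcyc := isCyclic_HH1 (K := K) (m := m) hK
  obtain ⟨x, hx⟩ := hcyc.exists_generator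
  have hox : orderOf x = 3 ^ (2 * m + 1) - 1 := by
    rw [orderOf_eq_card_of_forall_mem_zpowers hx, card_HH1 hK]
  have hox' : orderOf (x : ↥(twistedG2 K (3 ^ m))) = 3 ^ (2 * m + 1) - 1 := by
    rw [Subgroup.orderOf_coe]
    exact hox
  set A : Subgroup ↥(twistedG2 K (3 ^ m)) :=
    Subgroup.zpowers ((x : ↥(twistedG2 K (3 ^ m))) ^ 2) with hAdef
  have hAle : A ≤ HH1 K m := by
    rw [hAdef, Subgroup.zpowers_le]
    exact Subgroup.pow_mem _ x.2 2
  have hcardA : Nat.card A = (3 ^ (2 * m + 1) - 1) / 2 := by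
    rw [hAdef, Nat.card_zpowers, orderOf_pow' _ (by norm_num : (2 : ℕ) ≠ 0), hox']
    have : Nat.gcd (3 ^ (2 * m + 1) - 1) 2 = 2 := by
      apply Nat.gcd_eq_right
      omega
    rw [this]
  have hoddA : Odd (Nat.card A) := by
    rw [hcardA, Nat.odd_iff]
    omega
  have hkey : ∀ A₀ : Subgroup ↥(twistedG2 K (3 ^ m)), A₀ ≤ A → A₀ ≠ ⊥ →
      Subgroup.normalizer (A₀ : Set ↥(twistedG2 K (3 ^ m))) = NN1 K m := by
    intro A₀ hle hne
    obtain ⟨a, ha, ha1⟩ : ∃ a ∈ A₀, a ≠ (1 : ↥(twistedG2 K (3 ^ m))) := by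
      rcases A₀.bot_or_exists_ne_one with h | h
      · exact absurd h hne
      · exact h
    apply normalizer_eq_NN1 hK A₀ (hle.trans hAle) a ha ha1
    have hd : orderOf a ∣ Nat.card A := by
      have := orderOf_dvd_natCard (⟨a, hle ha⟩ : A)
      rwa [← Subgroup.orderOf_coe] at this
    exact hoddA.of_dvd_nat hd
  have hAne : A ≠ ⊥ := by
    intro h
    rw [h, Subgroup.card_bot] at hcardA
    omega
  refine ⟨A, ?_, hcardA, ?_, ?_⟩
  · rw [hAdef]
    exact Subgroup.isCyclic_zpowers _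
  · rw [hkey A le_rfl hAne, card_NN1 hK]
  · intro A₀ hle hne
    rw [hkey A₀ hle hne, hkey A le_rfl hAne]

end

end Cfsg.Agent.Lib.Helper5.Ree
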