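import Cfsg.Agent.Lib.Helper5.Ree.Solv2
import Cfsg.Agent.Lib.Helper5.Ree.Ward3c
import Cfsg.Agent.Lib.Helper5.PG.Cyc
import Cfsg.Agent.Lib.Lead.ReeHex.Main
import Cfsg.Agent.Lib.Helper7.KWTools
import Mathlib

/-!
# Small Ree groups: the solvable subgroups lie in local normalisers (helper5, for S2361)
-/

set_option autoImplicit false
set_option maxRecDepth 100000

namespace Cfsg.Agent.Lib.Helper5.Ree

open Cfsg.Lie Cfsg.Agent.Lib.Helper5.Chev Cfsg.Agent.Lib.Helper5.GA Cfsg.Agent.Lib.Helper5.Tw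
open Cfsg.Agent.Lib.Helper5.Frob Cfsg.Agent.Lib.Helper5.SL2P Cfsg.Agent.Lib.Helper5.Ree
open Cfsg.Agent.ReeL Cfsg.Agent.ReeTor Cfsg.Agent.Lib.Helper8.ReeSyl
open scoped Pointwise

namespace SolvAbs

variable {G : Type*} [Group G]

theorem mem_map_conj (D : Subgroup G) (g x : G) :
    x ∈ D.map (MulAut.conj g⁻¹).toMonoidHom ↔ g * x * g⁻¹ ∈ D := by
  rw [Subgroup.mem_map_equiv, MulAut.conj_symm_apply, inv_inv]

/-- the normaliser of a conjugate subgroup -/
theorem mem_normalizer_map_conj (D : Subgroup G) (g h : G) :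
    h ∈ Subgroup.normalizer ((D.map (MulAut.conj g⁻¹).toMonoidHom : Subgroup G) : Set G)
      ↔ g * h * g⁻¹ ∈ Subgroup.normalizer (D : Set G) := by
  rw [Subgroup.mem_normalizer_iff, Subgroup.mem_normalizer_iff]
  constructor
  · intro H y
    have := H (g⁻¹ * y * g)
    rw [mem_map_conj, mem_map_conj] at this
    have e1 : g * (g⁻¹ * y * g) * g⁻¹ = y := by group
    have e2 : g * (h * (g⁻¹ * y * g) * h⁻¹) * g⁻¹ = g * h * g⁻¹ * y * (g * h * g⁻¹)⁻¹ := by group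
    rw [e1, e2] at this
    exact this
  · intro H x
    rw [mem_map_conj, mem_map_conj]
    have := H (g * x * g⁻¹)
    have e2 : g * (h * x * h⁻¹) * g⁻¹ = g * h * g⁻¹ * (g * x * g⁻¹) * (g * h * g⁻¹)⁻¹ := by group
    rw [e2]
    exact this

/-- in a cyclic subgroup two elements of the same order generate the same subgroup -/
theorem zpowers_eq_of_cyclic [Finite G] (Q : Subgroup G) (hQ : IsCyclic Q) (x y : G)
    (hx : x ∈ Q) (hy : y ∈ Q) (h : orderOf x = orderOf y) :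
    Subgroup.zpowers x = Subgroup.zpowers y := by
  obtain ⟨c, hc⟩ := hQ.exists_generator
  have hmem : ∀ w ∈ Q, w ∈ Subgroup.zpowers (c : G) := by
    intro w hw
    obtain ⟨k, hk⟩ := Subgroup.mem_zpowers_iff.1 (hc ⟨w, hw⟩)
    refine Subgroup.mem_zpowers_iff.2 ⟨k, ?_⟩
    have := congrArg (fun z : ↥Q => (z : G)) hk
    simpa using this
  apply Cfsg.Agent.Lib.Helper5.PG.zpowers_eq_of_mem_of_mem
  · rw [Cfsg.Agent.Lib.Helper5.PG.mem_zpowers_iff_dvd (hmem x hx) (hmem y hy), h]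
  · rw [Cfsg.Agent.Lib.Helper5.PG.mem_zpowers_iff_dvd (hmem y hy) (hmem x hx), h]

/-- normalising a cyclic group of prime power order normalises its subgroup of order `s` -/
theorem normalizer_le_of_cyclic [Finite G] (Q N : Subgroup G) (hQ : IsCyclic Q) (hNQ : N ≤ Q)
    (x : G) (hx : x ∈ N) :
    Subgroup.normalizer (N : Set G) ≤ Subgroup.normalizer (Subgroup.zpowers x : Set G) := by
  intro h hh
  apply WardAbs.mem_normalizer_of_conj
  have hx' : h * x * h⁻¹ ∈ N := (Subgroup.mem_normalizer_iff.1 hh x).1 hx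
  have ho : orderOf (h * x * h⁻¹) = orderOf x := by
    have := (MulAut.conj h).orderOf_eq x
    rwa [MulAut.conj_apply] at this
  have hz := zpowers_eq_of_cyclic Q hQ _ _ (hNQ hx') (hNQ hx) ho
  intro w hw
  obtain ⟨k, rfl⟩ := Subgroup.mem_zpowers_iff.1 hw
  rw [← hz]
  refine Subgroup.mem_zpowers_iff.2 ⟨k, ?_⟩
  have := map_zpow (MulAut.conj h).toMonoidHom x k
  simp only [MulEquiv.coe_toMonoidHom, MulAut.conj_apply] at this
  exact this.symm

end SolvAbs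

section ree

variable {K : Type*} [Field K] [Fintype K] [CharP K 3] {m : ℕ}

/-- a nontrivial 3-subgroup is normalised only inside the normaliser of a Sylow 3-subgroup -/
theorem three_normalizer (hK : Fintype.card K = 3 ^ (2 * m + 1))
    (N : Subgroup ↥(twistedG2 K (3 ^ m))) (hN : IsPGroup 3 N) (hN1 : N ≠ ⊥) :
    ∃ P : Sylow 3 ↥(twistedG2 K (3 ^ m)),
      Subgroup.normalizer (N : Set ↥(twistedG2 K (3 ^ m)))
        ≤ Subgroup.normalizer ((P : Subgroup ↥(twistedG2 K (3 ^ m))) : Set ↥(twistedG2 K (3 ^ m))) := by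
  have : Fact (Nat.Prime 3) := ⟨Nat.prime_three⟩
  obtain ⟨P, hP⟩ := hN.exists_le_sylow
  refine ⟨P, ?_⟩
  intro g hg
  apply Sylow.smul_eq_iff_mem_normalizer.1
  by_contra hne
  have hbot := sylow_three_inf_eq_bot hK (g • P) P hne
  apply hN1
  rw [eq_bot_iff, ← hbot]
  intro x hx
  refine Subgroup.mem_inf.2 ⟨?_, hP hx⟩
  rw [Sylow.coe_subgroup_smul, Subgroup.mem_pointwise_smul_iff_inv_smul_mem, MulAut.smul_def,
    MulAut.conj_inv_apply]
  apply hP
  have := (Subgroup.mem_normalizer_iff.1 (Subgroup.inv_mem _ hg) x).1 hx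
  rwa [inv_inv] at this

/-- a nontrivial `s`-subgroup, `s > 3`, is normalised only inside the normaliser of a cyclic Hall
subgroup -/
theorem big_normalizer (hK : Fintype.card K = 3 ^ (2 * m + 1)) (hm : 1 ≤ m)
    (N : Subgroup ↥(twistedG2 K (3 ^ m))) (s : ℕ) (hs : s.Prime) (hs3 : 3 < s)
    (hN : IsPGroup s N) (hN1 : N ≠ ⊥) :
    ∃ A : Subgroup ↥(twistedG2 K (3 ^ m)), IsCyclic A ∧
      (Nat.card A = (3 ^ (2 * m + 1) - 1) / 2 ∨ Nat.card A = (3 ^ (2 * m + 1) + 1) / 4 ∨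
        Nat.card A = 3 ^ (2 * m + 1) - 3 ^ (m + 1) + 1 ∨
        Nat.card A = 3 ^ (2 * m + 1) + 3 ^ (m + 1) + 1) ∧
      Subgroup.normalizer (N : Set ↥(twistedG2 K (3 ^ m)))
        ≤ Subgroup.normalizer (A : Set ↥(twistedG2 K (3 ^ m))) := by
  have hfin := finite_twisted (K := K) (m := m) hK
  have : Fact s.Prime := ⟨hs⟩
  -- an element of order `s` of `N`
  have hsN : s ∣ Nat.card N := by
    rcases hN.card_eq_or_dvd with h | h
    · exact absurd (Subgroup.card_eq_one.1 h) hN1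
    · exact h
  obtain ⟨⟨x, hxN⟩, hx⟩ := exists_prime_orderOf_dvd_card' s hsN
  rw [Subgroup.orderOf_mk] at hx
  -- the Sylow subgroup
  obtain ⟨Q, hQ⟩ := hN.exists_le_sylow
  have hQcyc := sylow_cyclic hm hK hs3 Q
  -- the torus
  have hsG : s ∣ (3 ^ (2 * m + 1)) ^ 3 * (3 ^ (2 * m + 1) - 1) * ((3 ^ (2 * m + 1)) ^ 3 + 1) := by
    rw [← card_twisted hK]
    exact dvd_trans hsN (Subgroup.card_subgroup_dvd_card N)
  have htori := Cfsg.Agent.ReeHex.main_tori hK hm (fun g hg => order_cover hK hm g hg)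
  have hkn : ∃ kn ∈ ({((3 ^ (2 * m + 1) - 1) / 2, 2 * (3 ^ (2 * m + 1) - 1)),
        ((3 ^ (2 * m + 1) + 1) / 4, 6 * (3 ^ (2 * m + 1) + 1)),
        (3 ^ (2 * m + 1) - 3 ^ (m + 1) + 1, 6 * (3 ^ (2 * m + 1) - 3 ^ (m + 1) + 1)),
        (3 ^ (2 * m + 1) + 3 ^ (m + 1) + 1, 6 * (3 ^ (2 * m + 1) + 3 ^ (m + 1) + 1))} :
        Set (ℕ × ℕ)), s ∣ kn.1 ∧
        (kn.1 = (3 ^ (2 * m + 1) - 1) / 2 ∨ kn.1 = (3 ^ (2 * m + 1) + 1) / 4 ∨
          kn.1 = 3 ^ (2 * m + 1) - 3 ^ (m + 1) + 1 ∨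
          kn.1 = 3 ^ (2 * m + 1) + 3 ^ (m + 1) + 1) := by
    rcases Cfsg.Agent.ReeHex.prime_cases hs hs3 hsG with h | h | h
    · exact ⟨_, Set.mem_insert _ _, h, Or.inl rfl⟩
    · exact ⟨_, Set.mem_insert_of_mem _ (Set.mem_insert _ _), h, Or.inr (Or.inl rfl)⟩
    · rw [← Cfsg.Agent.ReeHex.hex_factor m] at h
      rcases (Nat.Prime.dvd_mul hs).1 h with h | h
      · exact ⟨_, Set.mem_insert_of_mem _ (Set.mem_insert_of_mem _ (Set.mem_insert _ _)), h,
          Or.inr (Or.inr (Or.inl rfl))⟩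
      · exact ⟨_, Set.mem_insert_of_mem _ (Set.mem_insert_of_mem _
          (Set.mem_insert_of_mem _ (Set.mem_singleton _))), h, Or.inr (Or.inr (Or.inr rfl))⟩
  obtain ⟨kn, hkn, hsk, hcases⟩ := hkn
  obtain ⟨A, hAcyc, hAcard, -, hAnorm⟩ := htori kn hkn
  -- an element of order `s` of `A`
  have hsA : s ∣ Nat.card A := by rw [hAcard]; exact hsk
  obtain ⟨⟨y, hyA⟩, hy⟩ := exists_prime_orderOf_dvd_card' s hsA
  rw [Subgroup.orderOf_mk] at hy
  have hy1 : Subgroup.zpowers y ≠ ⊥ := by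
    rw [Ne, Subgroup.zpowers_eq_bot]
    rintro rfl
    rw [orderOf_one] at hy
    exact hs.one_lt.ne hy
  have hyN := hAnorm (Subgroup.zpowers y) (Subgroup.zpowers_le.2 hyA) hy1
  -- conjugating `y` into `Q`
  have hpy : IsPGroup s (Subgroup.zpowers y) :=
    IsPGroup.of_card (n := 1) (by rw [Nat.card_zpowers, hy, pow_one])
  obtain ⟨Q', hQ'⟩ := hpy.exists_le_sylow
  obtain ⟨g, hg⟩ := MulAction.exists_smul_eq ↥(twistedG2 K (3 ^ m)) Q Q'
  have hyQ : g⁻¹ * y * g ∈ (Q : Subgroup ↥(twistedG2 K (3 ^ m))) := by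
    have := hQ' (Subgroup.mem_zpowers y)
    rw [← hg, Sylow.coe_subgroup_smul, Subgroup.mem_pointwise_smul_iff_inv_smul_mem,
      MulAut.smul_def, MulAut.conj_inv_apply] at this
    exact this
  have hoy : orderOf (g⁻¹ * y * g) = s := by
    have := (MulAut.conj g⁻¹).orderOf_eq y
    rw [MulAut.conj_apply, inv_inv] at this
    rw [this, hy]
  have hz : Subgroup.zpowers x = Subgroup.zpowers (g⁻¹ * y * g) :=
    SolvAbs.zpowers_eq_of_cyclic Q hQcyc _ _ (hQ hxN) hyQ (by rw [hx, hoy])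
  have hmap : (Subgroup.zpowers y).map (MulAut.conj g⁻¹).toMonoidHom
      = Subgroup.zpowers (g⁻¹ * y * g) := by
    rw [MonoidHom.map_zpowers]
    congr 1
  have hinj : Function.Injective (MulAut.conj g⁻¹).toMonoidHom := (MulAut.conj g⁻¹).injective
  refine ⟨A.map (MulAut.conj g⁻¹).toMonoidHom,
    ((Subgroup.equivMapOfInjective A _ hinj).isCyclic).1 hAcyc, ?_, ?_⟩
  · rw [Subgroup.card_map_of_injective hinj, hAcard]
    exact hcases
  · intro h hh
    have h1 := SolvAbs.normalizer_le_of_cyclic Q N hQcyc hQ x hxN hh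
    rw [hz, ← hmap, SolvAbs.mem_normalizer_map_conj, hyN] at h1
    rw [SolvAbs.mem_normalizer_map_conj]
    exact h1

end ree

end Cfsg.Agent.Lib.Helper5.Ree
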