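import Cfsg.Agent.Lib.Helper5.Ree.Solv3
import Mathlib

/-!
# Small Ree groups: the solvable subgroups lie in local normalisers, main theorem (helper5, S2361)
-/

set_option autoImplicit false
set_option maxRecDepth 100000

namespace Cfsg.Agent.Lib.Helper5.Ree

open Cfsg.Lie Cfsg.Agent.Lib.Helper5.Chev Cfsg.Agent.Lib.Helper5.GA Cfsg.Agent.Lib.Helper5.Tw
open Cfsg.Agent.Lib.Helper5.Frob Cfsg.Agent.Lib.Helper5.SL2P Cfsg.Agent.Lib.Helper5.Ree
open Cfsg.Agent.ReeL Cfsg.Agent.ReeTor Cfsg.Agent.Lib.Helper8.ReeSyl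

section ree

variable {K : Type*} [Field K] [Fintype K] [CharP K 3] {m : ℕ}

/-- every solvable subgroup of the small Ree group lies in the normaliser of a Sylow 2-subgroup, of a
Sylow 3-subgroup or of a cyclic Hall subgroup -/
theorem solvable_local (hK : Fintype.card K = 3 ^ (2 * m + 1)) (hm : 1 ≤ m)
    (S : Subgroup ↥(twistedG2 K (3 ^ m))) (hS : Group.IsSolvable S) :
    ∃ A : Subgroup ↥(twistedG2 K (3 ^ m)),
      S ≤ Subgroup.normalizer (A : Set ↥(twistedG2 K (3 ^ m))) ∧
      ((∃ P : Sylow 2 ↥(twistedG2 K (3 ^ m)), A = P) ∨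
       (∃ P : Sylow 3 ↥(twistedG2 K (3 ^ m)), A = P) ∨
       (IsCyclic A ∧ (Nat.card A = (3 ^ (2 * m + 1) - 1) / 2 ∨
          Nat.card A = (3 ^ (2 * m + 1) + 1) / 4 ∨
          Nat.card A = 3 ^ (2 * m + 1) - 3 ^ (m + 1) + 1 ∨
          Nat.card A = 3 ^ (2 * m + 1) + 3 ^ (m + 1) + 1))) := by
  have hfin := finite_twisted (K := K) (m := m) hK
  have : Fact (Nat.Prime 2) := ⟨Nat.prime_two⟩
  by_cases hA : ∃ (s : ℕ) (N : Subgroup ↥(twistedG2 K (3 ^ m))), s.Prime ∧ s ≠ 2 ∧ N ≠ ⊥ ∧ N ≤ S ∧
      IsPGroup s N ∧ S ≤ Subgroup.normalizer (N : Set ↥(twistedG2 K (3 ^ m)))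
  · obtain ⟨s, N, hs, hs2, hN1, -, hNp, hSN⟩ := hA
    by_cases h3 : s = 3
    · subst h3
      obtain ⟨P, hP⟩ := three_normalizer hK N hNp hN1
      exact ⟨P, hSN.trans hP, Or.inr (Or.inl ⟨P, rfl⟩)⟩
    · have hs3 : 3 < s := by
        have := hs.two_le
        omega
      obtain ⟨A, hAc, hAcard, hAN⟩ := big_normalizer hK hm N s hs hs3 hNp hN1
      exact ⟨A, hSN.trans hAN, Or.inr (Or.inr ⟨hAc, hAcard⟩)⟩
  · by_cases hB : ∃ N : Subgroup ↥(twistedG2 K (3 ^ m)), N ≤ S ∧ IsPGroup 2 N ∧
        S ≤ Subgroup.normalizer (N : Set ↥(twistedG2 K (3 ^ m))) ∧ 4 ≤ Nat.card N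
    · obtain ⟨N, -, hNp, hSN, h4⟩ := hB
      obtain ⟨P, hP⟩ := hNp.exists_le_sylow
      obtain ⟨hP8, hPsq⟩ := sylow_two hK P
      have hdvd : Nat.card N ∣ 8 := by
        rw [← hP8]
        exact Subgroup.card_dvd_of_le hP
      have hcases : Nat.card N = 4 ∨ Nat.card N = 8 := by
        have hle : Nat.card N ≤ 8 := Nat.le_of_dvd (by norm_num) hdvd
        obtain ⟨c, hc⟩ : ∃ c, Nat.card N = c := ⟨_, rfl⟩
        rw [hc] at hdvd hle h4 ⊢
        interval_cases c <;> omega
      rcases hcases with h | h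
      · obtain ⟨D, hDc, hDcard, hD⟩ := four_normalizer hK hm N h (fun x hx => hPsq x (hP hx))
        exact ⟨D, hSN.trans hD, Or.inr (Or.inr ⟨hDc, Or.inr (Or.inl hDcard)⟩)⟩
      · have hNP : N = P := Subgroup.eq_of_le_of_card_ge hP (by rw [hP8, h])
        refine ⟨P, ?_, Or.inl ⟨P, rfl⟩⟩
        rw [← hNP]
        exact hSN
    · -- `S` is a 2-group
      have hprime : ∀ {d : ℕ}, d.Prime → d ∣ Nat.card S → d = 2 := by
        intro d hd hdS
        by_contra hd2
        have : Fact d.Prime := ⟨hd⟩
        obtain ⟨⟨x, hxS⟩, hx⟩ := exists_prime_orderOf_dvd_card' d hdS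
        rw [Subgroup.orderOf_mk] at hx
        have hxd : x ^ d ^ 1 = 1 := by
          rw [pow_one, ← hx]
          exact pow_orderOf_eq_one x
        obtain ⟨N, hNS, hSN, hNp, hxN⟩ := Cfsg.Agent.Lib.Helper7.KW.fit_amb hS hd hxS hxd (by
          intro q N' hq hN'S hSN' hN'p n hn
          by_cases hq2 : q = 2
          · subst hq2
            by_cases hn1 : n = 1
            · rw [hn1, one_mul, mul_one]
            -- `N'` has at most two elements
            have hcard : Nat.card N' < 4 := by
              by_contra hc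
              exact hB ⟨N', hN'S, hN'p, hSN', by omega⟩
            have hx' : x * n * x⁻¹ ∈ N' :=
              (Subgroup.mem_normalizer_iff.1 (hSN' hxS) n).1 hn
            have hx1 : x * n * x⁻¹ ≠ 1 := by
              intro e
              apply hn1
              have : n = x⁻¹ * (x * n * x⁻¹) * x := by group
              rw [this, e]
              group
            have heq : n = x * n * x⁻¹ := by
              by_contra hne
              have h3 : Set.ncard ({1, n, x * n * x⁻¹} : Set ↥(twistedG2 K (3 ^ m))) = 3 :=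
                ncard_three _ _ _ (Ne.symm hn1) (Ne.symm hx1) hne
              have hsub : ({1, n, x * n * x⁻¹} : Set ↥(twistedG2 K (3 ^ m)))
                  ⊆ (N' : Set ↥(twistedG2 K (3 ^ m))) := by
                intro w hw
                simp only [Set.mem_insert_iff, Set.mem_singleton_iff] at hw
                rcases hw with rfl | rfl | rfl
                exacts [N'.one_mem, hn, hx']
              have hle := Set.ncard_le_ncard hsub (Set.toFinite _)
              rw [h3] at hle
              have : Set.ncard (N' : Set ↥(twistedG2 K (3 ^ m))) = Nat.card N' :=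
                (Nat.card_coe_set_eq _).symm
              obtain ⟨k, hk⟩ := hN'p.exists_card_eq
              have hk3 : Nat.card N' ≠ 3 := by
                rw [hk]
                intro h3'
                have hk2 : k < 2 := by
                  by_contra hk2
                  have : 2 ^ 2 ≤ 2 ^ k := Nat.pow_le_pow_right (by norm_num) (by omega)
                  omega
                interval_cases k <;> omega
              omega
            calc n * x = (x * n * x⁻¹) * x := by rw [← heq]
              _ = x * n := by group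
          · have hN'1 : N' = ⊥ := by
              by_contra hne
              exact hA ⟨q, N', hq, hq2, hne, hN'S, hN'p, hSN'⟩
            rw [hN'1, Subgroup.mem_bot] at hn
            rw [hn, one_mul, mul_one])
        have hN1 : N = ⊥ := by
          by_contra hne
          exact hA ⟨d, N, hd, hd2, hne, hNS, hNp, hSN⟩
        rw [hN1, Subgroup.mem_bot] at hxN
        rw [hxN, orderOf_one] at hx
        exact hd.one_lt.ne hx
      have hS2 : IsPGroup 2 S :=
        IsPGroup.of_card (Nat.eq_prime_pow_of_unique_prime_dvd Nat.card_pos.ne' hprime)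
      obtain ⟨P, hP⟩ := hS2.exists_le_sylow
      exact ⟨P, hP.trans Subgroup.le_normalizer, Or.inl ⟨P, rfl⟩⟩

end ree

end Cfsg.Agent.Lib.Helper5.Ree
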