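import Cfsg.Agent.Lib.Helper5.Ree.Torus
import Cfsg.Agent.Lib.Helper5.Tw.SigmaStab
import Mathlib

/-!
# The twisting automorphism of `G₂` preserves the standard subgroups (helper5)
-/

set_option autoImplicit false

namespace Cfsg.Agent.Lib.Helper5.Ree

open Cfsg.Lie Cfsg.Agent.Lib.Helper5.Chev Cfsg.Agent.Lib.Helper5.GA Cfsg.Agent.Lib.Helper5.Tw
open Cfsg.Agent.Lib.Helper5.Frob
open scoped Matrix

section

variable {K : Type*} [Field K] [Fintype K] [CharP K 3] {m : ℕ}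

/-- the elements of the group whose image lies in a given subgroup -/
noncomputable def pre (hK : Fintype.card K = 3 ^ (2 * m + 1)) (S' : Subgroup (GL chevG2.Idx K)) :
    Subgroup (GL chevG2.Idx K) :=
  ((S'.subgroupOf (chevG2.group K)).comap (sg hK)).map (chevG2.group K).subtype

theorem mem_pre (hK : Fintype.card K = 3 ^ (2 * m + 1)) (S' : Subgroup (GL chevG2.Idx K))
    (a : GL chevG2.Idx K) :
    a ∈ pre hK S' ↔ ∃ ha : a ∈ chevG2.group K,
      ((sg hK ⟨a, ha⟩ : ↥(chevG2.group K)) : GL chevG2.Idx K) ∈ S' := by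
  unfold pre
  rw [Subgroup.mem_map]
  constructor
  · rintro ⟨x, hx, rfl⟩
    rw [Subgroup.mem_comap, Subgroup.mem_subgroupOf] at hx
    exact ⟨x.2, hx⟩
  · rintro ⟨ha, h⟩
    refine ⟨⟨a, ha⟩, ?_, rfl⟩
    rw [Subgroup.mem_comap, Subgroup.mem_subgroupOf]
    exact h

theorem sg_mem_of_le_pre (hK : Fintype.card K = 3 ^ (2 * m + 1))
    {S S' : Subgroup (GL chevG2.Idx K)} (h : S ≤ pre hK S') (g : ↥(chevG2.group K))
    (hg : (g : GL chevG2.Idx K) ∈ S) :
    ((sg hK g : ↥(chevG2.group K)) : GL chevG2.Idx K) ∈ S' := by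
  obtain ⟨ha, h'⟩ := (mem_pre hK S' _).1 (h hg)
  exact h'

theorem xG_mem_pre (hK : Fintype.card K = 3 ^ (2 * m + 1)) (S' : Subgroup (GL chevG2.Idx K))
    (r : ℕ) (hr : r < chevG2.nroots) (t : K)
    (h : (hadd2 K).xU (G2.rho r) (fpar K m r t) ∈ S') : (hadd2 K).xU r t ∈ pre hK S' := by
  rw [mem_pre]
  refine ⟨(hadd2 K).xU_mem_group r t, ?_⟩
  have e : (⟨(hadd2 K).xU r t, (hadd2 K).xU_mem_group r t⟩ : ↥(chevG2.group K)) = xG K r t := rfl
  rw [e, sg_xG hK r hr]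
  exact h

omit [Fintype K] [CharP K 3] in
theorem pos_iff6 (r : ℕ) (hr : r < chevG2.nroots) : chevG2.IsPosRoot r ↔ 6 ≤ r :=
  pos_iff_all chevG2 (by simp) r hr

omit [Fintype K] [CharP K 3] in
theorem neg_iff6 (r : ℕ) (hr : r < chevG2.nroots) : chevG2.IsNegRoot r ↔ r < 6 := by
  constructor
  · intro h
    by_contra hcon
    rw [not_lt] at hcon
    have hp := (pos_iff6 r hr).2 hcon
    have h1 : ∀ r < chevG2.nroots, chevG2.IsPosRoot r → ¬ chevG2.IsNegRoot r := by decide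
    exact h1 r hr hp h
  · intro h
    exact neg_of_lt_half chevG2 (by simp) r hr h

theorem rho_pos6 : ∀ r < chevG2.nroots, 6 ≤ r → 6 ≤ G2.rho r := by decide

theorem rho_neg6 : ∀ r < chevG2.nroots, r < 6 → G2.rho r < 6 := by decide

theorem fpar_surj (hK : Fintype.card K = 3 ^ (2 * m + 1)) (r : ℕ) (hr : r < chevG2.nroots) :
    Function.Surjective (fpar K m r) := by
  intro y
  rcases G2.lam_eq r hr with h | h
  · refine ⟨ph3 K m y, ?_⟩
    unfold fpar
    rw [h, pow_one, ph1_ph3 hK]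
  · refine ⟨ph1 K m y, ?_⟩
    unfold fpar
    rw [h, ph1_pow3, ph3_ph1 hK]

omit [Fintype K] in
theorem fpar_ne_zero (r : ℕ) (t : K) (ht : t ≠ 0) : fpar K m r t ≠ 0 := by
  unfold fpar
  apply pow_ne_zero
  rw [Ne, map_eq_zero]
  exact ht

omit [Fintype K] in
theorem fpar_one (r : ℕ) : fpar K m r 1 = 1 := by
  unfold fpar
  rw [map_one, one_pow]

/-- the twisting automorphism preserves `U` -/
theorem pos_le_pre (hK : Fintype.card K = 3 ^ (2 * m + 1)) :
    chevG2.posUnipotent K ≤ pre hK (chevG2.posUnipotent K) := by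
  unfold ChevalleyDatum.posUnipotent
  rw [Subgroup.closure_le]
  rintro x ⟨r, t, hr, hx⟩
  have hx' : x = (hadd2 K).xU r t := Units.ext hx
  rw [SetLike.mem_coe, hx']
  apply xG_mem_pre hK _ r hr.1
  apply Subgroup.subset_closure
  exact ⟨_, _, (pos_iff6 _ (G2.rho_lt r hr.1)).2 (rho_pos6 r hr.1 ((pos_iff6 r hr.1).1 hr)), rfl⟩

/-- the twisting automorphism preserves `V` -/
theorem neg_le_pre (hK : Fintype.card K = 3 ^ (2 * m + 1)) :
    chevG2.negUnipotent K ≤ pre hK (chevG2.negUnipotent K) := by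
  unfold ChevalleyDatum.negUnipotent
  rw [Subgroup.closure_le]
  rintro x ⟨r, t, hr, hx⟩
  have hx' : x = (hadd2 K).xU r t := Units.ext hx
  rw [SetLike.mem_coe, hx']
  apply xG_mem_pre hK _ r hr.1
  apply Subgroup.subset_closure
  exact ⟨_, _, (neg_iff6 _ (G2.rho_lt r hr.1)).2 (rho_neg6 r hr.1 ((neg_iff6 r hr.1).1 hr)), rfl⟩

/-- the twisting automorphism preserves `H` -/
theorem diag_le_pre (hK : Fintype.card K = 3 ^ (2 * m + 1)) :
    chevG2.diagonalSubgroup K ≤ pre hK (chevG2.diagonalSubgroup K) := by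
  unfold ChevalleyDatum.diagonalSubgroup
  rw [Subgroup.closure_le]
  rintro x ⟨r, t, hr, ht, hx⟩
  have hx' : x = nUt (hadd2 K) r t * nUt (hadd2 K) r (-1) :=
    Units.ext (hx.trans (hMat_eq (hadd2 K) r t).symm)
  rw [SetLike.mem_coe, hx', mem_pre]
  have hmem : nUt (hadd2 K) r t * nUt (hadd2 K) r (-1) ∈ chevG2.group K := (hG K r t).2
  refine ⟨hmem, ?_⟩
  have e : (⟨nUt (hadd2 K) r t * nUt (hadd2 K) r (-1), hmem⟩ : ↥(chevG2.group K)) = hG K r t := rfl
  rw [e, sg_hG hK r hr, hG_val]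
  exact hU_mem (hadd2 K) _ (G2.rho_lt r hr) _ (fpar_ne_zero r t ht)

/-- the twisting automorphism preserves `N` -/
theorem mono_le_pre (hK : Fintype.card K = 3 ^ (2 * m + 1)) :
    chevG2.monomialSubgroup K ≤ pre hK (chevG2.monomialSubgroup K) := by
  have hmono : pre hK (chevG2.diagonalSubgroup K) ≤ pre hK (chevG2.monomialSubgroup K) := by
    intro a ha
    obtain ⟨h1, h2⟩ := (mem_pre hK _ a).1 ha
    exact (mem_pre hK _ a).2 ⟨h1, Subgroup.mem_sup_left h2⟩
  unfold ChevalleyDatum.monomialSubgroup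
  apply sup_le
  · exact le_trans (diag_le_pre hK) hmono
  · rw [Subgroup.closure_le]
    rintro x ⟨r, hr, hx⟩
    have hx' : x = nUt (hadd2 K) r 1 := Units.ext (hx.trans (nUt_val (hadd2 K) r 1).symm)
    rw [SetLike.mem_coe, hx', mem_pre]
    have hmem : nUt (hadd2 K) r (1 : K) ∈ chevG2.group K := (nG K r 1).2
    refine ⟨hmem, ?_⟩
    have e : (⟨nUt (hadd2 K) r (1 : K), hmem⟩ : ↥(chevG2.group K)) = nG K r 1 := rfl
    rw [e, sg_nG hK r hr, nG_val, fpar_one]
    apply Subgroup.mem_sup_right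
    exact Subgroup.subset_closure ⟨_, G2.rho_lt r hr, nUt_val (hadd2 K) _ 1⟩

theorem sg_pos_mem (hK : Fintype.card K = 3 ^ (2 * m + 1)) (g : ↥(chevG2.group K))
    (hg : (g : GL chevG2.Idx K) ∈ chevG2.posUnipotent K) :
    ((sg hK g : ↥(chevG2.group K)) : GL chevG2.Idx K) ∈ chevG2.posUnipotent K :=
  sg_mem_of_le_pre hK (pos_le_pre hK) g hg

theorem sg_neg_mem (hK : Fintype.card K = 3 ^ (2 * m + 1)) (g : ↥(chevG2.group K))
    (hg : (g : GL chevG2.Idx K) ∈ chevG2.negUnipotent K) :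
    ((sg hK g : ↥(chevG2.group K)) : GL chevG2.Idx K) ∈ chevG2.negUnipotent K :=
  sg_mem_of_le_pre hK (neg_le_pre hK) g hg

theorem sg_diag_mem (hK : Fintype.card K = 3 ^ (2 * m + 1)) (g : ↥(chevG2.group K))
    (hg : (g : GL chevG2.Idx K) ∈ chevG2.diagonalSubgroup K) :
    ((sg hK g : ↥(chevG2.group K)) : GL chevG2.Idx K) ∈ chevG2.diagonalSubgroup K :=
  sg_mem_of_le_pre hK (diag_le_pre hK) g hg

theorem sg_mono_mem (hK : Fintype.card K = 3 ^ (2 * m + 1)) (g : ↥(chevG2.group K))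
    (hg : (g : GL chevG2.Idx K) ∈ chevG2.monomialSubgroup K) :
    ((sg hK g : ↥(chevG2.group K)) : GL chevG2.Idx K) ∈ chevG2.monomialSubgroup K :=
  sg_mem_of_le_pre hK (mono_le_pre hK) g hg

/-- the conjugate of a root subgroup by the image of `n` -/
theorem sg_conj_root (hK : Fintype.card K = 3 ^ (2 * m + 1)) (n : ↥(chevG2.group K)) (r : ℕ)
    (hr : r < chevG2.nroots)
    (hmap : (chevG2.rootSubgroup K r).map (MulAut.conj (n : GL chevG2.Idx K)).toMonoidHom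
      ≤ chevG2.negUnipotent K) :
    (chevG2.rootSubgroup K (G2.rho r)).map
      (MulAut.conj ((sg hK n : ↥(chevG2.group K)) : GL chevG2.Idx K)).toMonoidHom
      ≤ chevG2.negUnipotent K := by
  rw [map_root_le_iff (hadd2 K)] at hmap ⊢
  intro t'
  obtain ⟨t, rfl⟩ := fpar_surj hK r hr t'
  have h1 := sg_neg_mem hK (n * xG K r t * n⁻¹) (hmap t)
  rw [map_mul, map_mul, map_inv, sg_xG hK r hr] at h1
  exact h1

/-- the twisting automorphism maps `U_n⁻` into `U_{σ n}⁻` -/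
theorem sg_uneg_mem (hK : Fintype.card K = 3 ^ (2 * m + 1)) (n u : ↥(chevG2.group K))
    (hu : (u : GL chevG2.Idx K) ∈ Subgroup.closure (unegSet K chevG2 (n : GL chevG2.Idx K))) :
    ((sg hK u : ↥(chevG2.group K)) : GL chevG2.Idx K) ∈
      Subgroup.closure (unegSet K chevG2 ((sg hK n : ↥(chevG2.group K)) : GL chevG2.Idx K)) := by
  refine sg_mem_of_le_pre hK ?_ u hu
  rw [Subgroup.closure_le]
  rintro x ⟨r, t, hr, hmap, hx⟩
  have hx' : x = (hadd2 K).xU r t := Units.ext hx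
  rw [SetLike.mem_coe, hx']
  apply xG_mem_pre hK _ r hr.1
  apply Subgroup.subset_closure
  exact ⟨_, _, (pos_iff6 _ (G2.rho_lt r hr.1)).2 (rho_pos6 r hr.1 ((pos_iff6 r hr.1).1 hr)),
    sg_conj_root hK n r hr.1 hmap, rfl⟩

end

end Cfsg.Agent.Lib.Helper5.Ree
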