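import Cfsg.Agent.Lib.Helper5.Ree.Cent4
import Mathlib

/-!
# The Sylow 2-subgroups of the small Ree group are elementary abelian of order 8 (helper5)
-/

set_option autoImplicit false
set_option maxRecDepth 100000

namespace Cfsg.Agent.Lib.Helper5.Ree

open Cfsg.Lie Cfsg.Agent.Lib.Helper5.Chev Cfsg.Agent.Lib.Helper5.GA Cfsg.Agent.Lib.Helper5.Tw
open Cfsg.Agent.Lib.Helper5.Frob Cfsg.Agent.Lib.Helper5.SL2P

section

variable {K : Type*} [Field K]

/-- the matrix `[[0, 1], [-1, 0]]` -/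
def wq (K : Type*) [Field K] : Matrix.SpecialLinearGroup (Fin 2) K :=
  ⟨!![0, 1; -1, 0], by simp [Matrix.det_fin_two_of]⟩

/-- the matrix `[[x, y], [y, -x]]` with `x² + y² = -1` -/
def dq (x y : K) (h : x ^ 2 + y ^ 2 = -1) : Matrix.SpecialLinearGroup (Fin 2) K :=
  ⟨!![x, y; y, -x], by rw [Matrix.det_fin_two_of]; linear_combination (-1 : K) * h⟩

theorem wq_val : ((wq K : Matrix.SpecialLinearGroup (Fin 2) K) : Matrix (Fin 2) (Fin 2) K)
    = !![0, 1; -1, 0] := rfl

theorem dq_val (x y : K) (h : x ^ 2 + y ^ 2 = -1) :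
    ((dq x y h : Matrix.SpecialLinearGroup (Fin 2) K) : Matrix (Fin 2) (Fin 2) K)
      = !![x, y; y, -x] := rfl

theorem neg_one_val : ((-1 : Matrix.SpecialLinearGroup (Fin 2) K) : Matrix (Fin 2) (Fin 2) K)
    = !![-1, 0; 0, -1] := by
  rw [Matrix.SpecialLinearGroup.coe_neg, Matrix.SpecialLinearGroup.coe_one]
  ext i j
  fin_cases i <;> fin_cases j <;> simp

theorem wq_sq : wq K * wq K = -1 := by
  apply Subtype.ext
  rw [Matrix.SpecialLinearGroup.coe_mul, wq_val, neg_one_val, Matrix.mul_fin_two]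
  ext i j
  fin_cases i <;> fin_cases j <;> simp

theorem dq_sq (x y : K) (h : x ^ 2 + y ^ 2 = -1) : dq x y h * dq x y h = -1 := by
  apply Subtype.ext
  rw [Matrix.SpecialLinearGroup.coe_mul, dq_val, neg_one_val, Matrix.mul_fin_two]
  ext i j
  fin_cases i <;> fin_cases j <;> simp
  · linear_combination h
  · ring
  · ring
  · linear_combination h

theorem wq_dq_val (x y : K) (h : x ^ 2 + y ^ 2 = -1) :
    ((wq K * dq x y h : Matrix.SpecialLinearGroup (Fin 2) K) : Matrix (Fin 2) (Fin 2) K)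
      = !![y, -x; -x, -y] := by
  rw [Matrix.SpecialLinearGroup.coe_mul, wq_val, dq_val, Matrix.mul_fin_two]
  ext i j
  fin_cases i <;> fin_cases j <;> simp

theorem wq_dq (x y : K) (h : x ^ 2 + y ^ 2 = -1) : wq K * dq x y h = -(dq x y h * wq K) := by
  apply Subtype.ext
  rw [Matrix.SpecialLinearGroup.coe_neg, wq_dq_val, Matrix.SpecialLinearGroup.coe_mul, wq_val,
    dq_val, Matrix.mul_fin_two]
  ext i j
  fin_cases i <;> fin_cases j <;> simp

theorem sl_ne_pm (s : Matrix.SpecialLinearGroup (Fin 2) K)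
    (h : (s : Matrix (Fin 2) (Fin 2) K) 0 1 ≠ 0
      ∨ (s : Matrix (Fin 2) (Fin 2) K) 0 0 ≠ (s : Matrix (Fin 2) (Fin 2) K) 1 1) :
    ¬ (s = 1 ∨ s = -1) := by
  rintro (rfl | rfl)
  · rcases h with h | h
    · exact h (by simp)
    · exact h (by simp)
  · rcases h with h | h
    · exact h (by rw [neg_one_val]; simp)
    · exact h (by rw [neg_one_val]; simp)

end

section

variable {K : Type*} [Field K] [Fintype K] [CharP K 3] {m : ℕ}

omit [Fintype K] in
theorem wq_ne : ¬ (wq K = 1 ∨ wq K = -1) := by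
  apply sl_ne_pm
  left
  rw [wq_val]
  simp

omit [Fintype K] in
theorem dq_ne (x y : K) (h : x ^ 2 + y ^ 2 = -1) : ¬ (dq x y h = 1 ∨ dq x y h = -1) := by
  apply sl_ne_pm
  rw [dq_val]
  by_cases hy : y = 0
  · right
    intro e
    have e' : x = -x := by simpa using e
    have h3 := three_eq_zero (K := K)
    have hx : x = 0 := by linear_combination (-x) * h3 + 2 * e'
    rw [hx, hy] at h
    have : (0 : K) = -1 := by
      rw [← h]
      ring
    have h1 : (1 : K) = 0 := by linear_combination this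
    exact one_ne_zero h1
  · left
    simpa using hy

omit [Fintype K] in
theorem wq_dq_ne (x y : K) (h : x ^ 2 + y ^ 2 = -1) :
    ¬ (wq K * dq x y h = 1 ∨ wq K * dq x y h = -1) := by
  apply sl_ne_pm
  rw [wq_dq_val]
  by_cases hx : x = 0
  · right
    intro e
    have e' : y = -y := by simpa using e
    have h3 := three_eq_zero (K := K)
    have hy : y = 0 := by linear_combination (-y) * h3 + 2 * e'
    rw [hx, hy] at h
    have : (0 : K) = -1 := by
      rw [← h]
      ring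
    have h1 : (1 : K) = 0 := by linear_combination this
    exact one_ne_zero h1
  · left
    simpa using hx

/-- `3^(2m+1) ≡ 3 (mod 8)` -/
theorem exists_eight (m : ℕ) : ∃ j : ℕ, 3 ^ (2 * m + 1) = 8 * j + 3 := by
  induction m with
  | zero => exact ⟨0, rfl⟩
  | succ k ih =>
    obtain ⟨j, hj⟩ := ih
    refine ⟨9 * j + 3, ?_⟩
    have : 3 ^ (2 * (k + 1) + 1) = 9 * 3 ^ (2 * k + 1) := by ring
    rw [this, hj]
    ring

/-- the order of the small Ree group is `8` times an odd number -/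
theorem card_twisted_eight (hK : Fintype.card K = 3 ^ (2 * m + 1)) :
    ∃ k : ℕ, Odd k ∧ Nat.card ↥(twistedG2 K (3 ^ m)) = 8 * k := by
  obtain ⟨j, hj⟩ := exists_eight m
  refine ⟨(8 * j + 3) ^ 3 * (4 * j + 1) * ((2 * j + 1) * (64 * j ^ 2 + 40 * j + 7)), ?_, ?_⟩
  · apply Odd.mul (Odd.mul (Odd.pow ⟨4 * j + 1, by ring⟩) ⟨2 * j, by ring⟩)
    exact Odd.mul ⟨j, by ring⟩ ⟨32 * j ^ 2 + 20 * j + 3, by ring⟩
  · rw [card_twisted hK, hj]
    have : 8 * j + 3 - 1 = 8 * j + 2 := by omega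
    rw [this]
    ring

theorem zz_mul_phiG_ne_one (hK : Fintype.card K = 3 ^ (2 * m + 1))
    (s : Matrix.SpecialLinearGroup (Fin 2) K) :
    (⟨zz K m, zz_mem⟩ : ↥(twistedG2 K (3 ^ m))) * phiG K m s ≠ 1 := by
  intro h
  have h' : zz K m * phiL K m s = 1 := congrArg Subtype.val h
  have : phiL K m s⁻¹ = zz K m := by
    rw [map_inv]
    exact (eq_inv_of_mul_eq_one_left h').symm
  exact zz_not_range hK _ this

/-- the Sylow 2-subgroups of the small Ree group are elementary abelian of order 8 -/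
theorem sylow_two (hK : Fintype.card K = 3 ^ (2 * m + 1)) :
    ∀ S : Sylow 2 ↥(twistedG2 K (3 ^ m)), Nat.card S = 8 ∧ ∀ x ∈ S, x * x = 1 := by
  obtain ⟨k, hk, hcard⟩ := card_twisted_eight (K := K) (m := m) hK
  have hfin : Finite ↥(twistedG2 K (3 ^ m)) := by
    apply Nat.finite_of_card_ne_zero
    rw [hcard]
    have : k ≠ 0 := by
      obtain ⟨r, hr⟩ := hk
      omega
    positivity
  obtain ⟨x, y, hxy⟩ := sq_add_sq_field hK (-1 : K)
  set a : ↥(twistedG2 K (3 ^ m)) := ⟨zz K m, zz_mem⟩ with ha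
  set b : ↥(twistedG2 K (3 ^ m)) := phiG K m (wq K) with hb
  set c : ↥(twistedG2 K (3 ^ m)) := phiG K m (dq x y hxy) with hc
  have ha2 : a * a = 1 := Subtype.ext zz_mul_self
  have hb2 : b * b = 1 := by
    rw [hb, ← map_mul, wq_sq, phiG_neg_one hK]
  have hc2 : c * c = 1 := by
    rw [hc, ← map_mul, dq_sq, phiG_neg_one hK]
  have hab : Commute a b := Subtype.ext (zz_comm_phiL hK _).eq
  have hac : Commute a c := Subtype.ext (zz_comm_phiL hK _).eq
  have hbc : Commute b c := by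
    show b * c = c * b
    rw [hb, hc, ← map_mul, ← map_mul, wq_dq, phiG_neg hK]
  have h1 : c ≠ 1 := fun h => dq_ne x y hxy (phiG_ker hK _ h)
  have h2 : b ≠ 1 := fun h => wq_ne (phiG_ker hK _ h)
  have h3 : b * c ≠ 1 := by
    rw [hb, hc, ← map_mul]
    exact fun h => wq_dq_ne x y hxy (phiG_ker hK _ h)
  have h4 : a ≠ 1 := by
    have := zz_mul_phiG_ne_one hK (1 : Matrix.SpecialLinearGroup (Fin 2) K)
    rwa [map_one, mul_one] at this
  have h5 : a * c ≠ 1 := zz_mul_phiG_ne_one hK _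
  have h6 : a * b ≠ 1 := zz_mul_phiG_ne_one hK _
  have h7 : a * (b * c) ≠ 1 := by
    rw [hb, hc, ← map_mul]
    exact zz_mul_phiG_ne_one hK _
  obtain ⟨E, hE, hexp⟩ := exists_elem_abelian_8 a b c ha2 hb2 hc2 hab hac hbc h1 h2 h3 h4 h5 h6 h7
  exact sylow_of_subgroup E k hk hcard hE hexp

end

end Cfsg.Agent.Lib.Helper5.Ree
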