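import Cfsg.Agent.Lib.Helper5.Ree.Three
import Mathlib

/-!
# The stabilisers of three points in the small Ree group have order at most two (helper5)
-/

set_option autoImplicit false

namespace Cfsg.Agent.Lib.Helper5.Ree

open Cfsg.Lie Cfsg.Agent.Lib.Helper5.Chev Cfsg.Agent.Lib.Helper5.GA Cfsg.Agent.Lib.Helper5.Tw
open Cfsg.Agent.Lib.Helper5.Frob
open scoped Matrix

section

variable {K : Type*} [Field K] [Fintype K] [CharP K 3] {m : ℕ}

omit [CharP K 3] in
theorem card_le_two_of_inj {α : Type*} (f : α → Kˣ) (hf : Function.Injective f)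
    (h : ∀ a, f a = 1 ∨ f a = -1) : Nat.card α ≤ 2 := by
  rw [← Set.ncard_univ, ← Set.ncard_image_of_injective _ hf]
  have hsub : f '' Set.univ ⊆ ({1, -1} : Set Kˣ) := by
    rintro _ ⟨a, -, rfl⟩
    rcases h a with h | h <;> simp [h]
  calc (f '' Set.univ).ncard ≤ ({1, -1} : Set Kˣ).ncard :=
        Set.ncard_le_ncard hsub (Set.toFinite _)
    _ ≤ ({-1} : Set Kˣ).ncard + 1 := Set.ncard_insert_le _ _
    _ = 2 := by rw [Set.ncard_singleton]

/-- an element of `H¹` commuting with a nontrivial element of `U¹` has square one -/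
theorem comm_sq_one (hK : Fintype.card K = 3 ^ (2 * m + 1)) (μ : Kˣ) (a b c : K)
    (hne : ¬(a = 0 ∧ b = 0 ∧ c = 0))
    (hc : tauT K m μ * uu K m a b c = uu K m a b c * tauT K m μ) : μ ^ 2 = 1 := by
  obtain ⟨χ, h2, e6, e10, e11⟩ := tauT_char (m := m) μ
  have hconj : tauT K m μ * uu K m a b c * (tauT K m μ)⁻¹ = uu K m a b c := by
    rw [hc]
    group
  rw [tauT_conj_uu hK μ χ h2] at hconj
  obtain ⟨ea, eb, ec⟩ := uu_injective _ _ _ _ _ _ hconj
  have hx0 : (μ : K) ≠ 0 := μ.ne_zero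
  have hph : ((Units.map (ph1 K m : K →* K) μ : Kˣ) : K) = ph1 K m (μ : K) := rfl
  by_cases hc0 : c = 0
  · by_cases hb0 : b = 0
    · have ha0 : a ≠ 0 := fun h => hne ⟨h, hb0, hc0⟩
      -- χ 6 = 1
      have h6 : (χ 6 : K) = 1 := by
        have : ((χ 6 : K) - 1) * a = 0 := by rw [sub_mul, ea, one_mul, sub_self]
        rcases mul_eq_zero.1 this with h | h
        · exact sub_eq_zero.1 h
        · exact absurd h ha0
      have h6' : χ 6 = 1 := Units.ext h6
      rw [e6] at h6'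
      have h7 : μ ^ 2 = (Units.map (ph1 K m : K →* K) μ) ^ 3 := by
        have := h6'
        rw [zpow_neg, inv_mul_eq_one] at this
        rw [← zpow_natCast, ← zpow_natCast]
        exact this.symm
      have h8 : (μ : K) ^ 2 = (ph1 K m (μ : K)) ^ 3 := by
        have := congrArg Units.val h7
        rwa [Units.val_pow_eq_pow_val, Units.val_pow_eq_pow_val, hph] at this
      rw [ph1_pow3] at h8
      have h9 : (ph1 K m (μ : K)) ^ 2 = (μ : K) := by
        have := congrArg (ph1 K m) h8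
        rwa [map_pow, ph1_ph3 hK] at this
      have h10 : ph1 K m (μ : K) = (μ : K) := by
        have e : (μ : K) * (μ : K) = (μ : K) * ph1 K m (μ : K) := by
          calc (μ : K) * (μ : K) = (μ : K) ^ 2 := (sq _).symm
            _ = ph3 K m (μ : K) := h8
            _ = (ph1 K m (μ : K)) ^ 3 := (ph1_pow3 _).symm
            _ = (ph1 K m (μ : K)) ^ 2 * ph1 K m (μ : K) := pow_succ _ 2
            _ = (μ : K) * ph1 K m (μ : K) := by rw [h9]
        exact (mul_left_cancel₀ hx0 e).symm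
      rw [h10] at h9
      have h11 : (μ : K) = 1 := by
        have e : (μ : K) * (μ : K) = (μ : K) * 1 := by rw [mul_one, ← sq, h9]
        exact mul_left_cancel₀ hx0 e
      have : μ = 1 := Units.ext h11
      rw [this, one_pow]
    · -- χ 10 = 1
      have h10 : (χ 10 : K) = 1 := by
        have : ((χ 10 : K) - 1) * b = 0 := by rw [sub_mul, eb, one_mul, sub_self]
        rcases mul_eq_zero.1 this with h | h
        · exact sub_eq_zero.1 h
        · exact absurd h hb0
      have h10' : χ 10 = 1 := Units.ext h10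
      rw [e10] at h10'
      have h7 : (Units.map (ph1 K m : K →* K) μ) ^ 3 = μ := by
        have := h10'
        rw [zpow_neg, zpow_one, mul_inv_eq_one] at this
        rw [← zpow_natCast]
        exact this
      have h8 : (ph1 K m (μ : K)) ^ 3 = (μ : K) := by
        have := congrArg Units.val h7
        rwa [Units.val_pow_eq_pow_val, hph] at this
      have h8' := h8
      rw [ph1_pow3] at h8
      have h9 : ph1 K m (μ : K) = (μ : K) := by
        have := congrArg (ph1 K m) h8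
        rw [ph1_ph3 hK] at this
        exact this.symm
      rw [h9] at h8'
      -- μ^3 = μ
      have h11 : (μ : K) ^ 2 = 1 := by
        have e : (μ : K) * (μ : K) ^ 2 = (μ : K) * 1 := by
          rw [mul_one, ← pow_succ']
          exact h8'
        exact mul_left_cancel₀ hx0 e
      apply Units.ext
      rw [Units.val_pow_eq_pow_val, h11, Units.val_one]
  · have h11 : (χ 11 : K) = 1 := by
      have : ((χ 11 : K) - 1) * c = 0 := by rw [sub_mul, ec, one_mul, sub_self]
      rcases mul_eq_zero.1 this with h | h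
      · exact sub_eq_zero.1 h
      · exact absurd h hc0
    have : μ = 1 := by
      rw [← e11]
      exact Units.ext h11
    rw [this, one_pow]

/-- the stabiliser of `B¹`, `n₁⁻¹ B¹`, `u n₁⁻¹ B¹` has at most two elements -/
theorem card_stab3_le (hK : Fintype.card K = 3 ^ (2 * m + 1)) (u : GL chevG2.Idx K)
    (hu : u ∈ chevG2.posUnipotent K ⊓ twistedG2 K (3 ^ m)) (hu1 : u ≠ 1) :
    Nat.card ↥(MulAction.stabilizer ↥(twistedG2 K (3 ^ m)) (pt (1 : ↥(twistedG2 K (3 ^ m)))) ⊓
      MulAction.stabilizer ↥(twistedG2 K (3 ^ m)) (pt (s1 hK)⁻¹) ⊓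
      MulAction.stabilizer ↥(twistedG2 K (3 ^ m)) (pt (uT u hu * (s1 hK)⁻¹))) ≤ 2 := by
  obtain ⟨a, b, c, rfl⟩ := pos_fixed' hK u hu.1 (twisted_le_fixR hK hu.2)
  have hne : ¬(a = 0 ∧ b = 0 ∧ c = 0) := by
    rintro ⟨rfl, rfl, rfl⟩
    exact hu1 uu_zero_zero
  have key : ∀ t : ↥(MulAction.stabilizer ↥(twistedG2 K (3 ^ m))
      (pt (1 : ↥(twistedG2 K (3 ^ m)))) ⊓
      MulAction.stabilizer ↥(twistedG2 K (3 ^ m)) (pt (s1 hK)⁻¹) ⊓
      MulAction.stabilizer ↥(twistedG2 K (3 ^ m)) (pt (uT (uu K m a b c) hu * (s1 hK)⁻¹))),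
      ∃ μ : Kˣ, tauT K m μ = ((t : ↥(twistedG2 K (3 ^ m))) : GL chevG2.Idx K) := by
    intro t
    obtain ⟨hH, -⟩ := stab3_sub hK _ hu t.1 t.2
    have : ((t : ↥(twistedG2 K (3 ^ m))) : GL chevG2.Idx K)
        ∈ chevG2.diagonalSubgroup K ⊓ fixR hK := ⟨hH, twisted_le_fixR hK t.1.2⟩
    exact (diag_fixed_iff hK _).1 this
  choose f hf using key
  apply card_le_two_of_inj f
  · intro t t' h
    apply Subtype.ext
    apply Subtype.ext
    rw [← hf t, ← hf t', h]
  · intro t
    obtain ⟨-, hcomm⟩ := stab3_sub hK _ hu t.1 t.2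
    rw [← hf t] at hcomm
    have hsq := comm_sq_one hK (f t) a b c hne hcomm
    have h1 : ((f t : Kˣ) : K) ^ 2 = 1 := by
      have := congrArg Units.val hsq
      rwa [Units.val_pow_eq_pow_val, Units.val_one] at this
    rcases sq_eq_one_iff.1 h1 with h | h
    · left
      exact Units.ext h
    · right
      apply Units.ext
      rw [h, Units.val_neg, Units.val_one]

/-- the stabiliser of three distinct points has at most two elements, and exactly two for some
triple -/
theorem three_points (hK : Fintype.card K = 3 ^ (2 * m + 1)) :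
    (∀ x y z : ↥(twistedG2 K (3 ^ m)) ⧸ B1 K m, x ≠ y → x ≠ z → y ≠ z →
      Nat.card ↥(MulAction.stabilizer ↥(twistedG2 K (3 ^ m)) x ⊓
        MulAction.stabilizer ↥(twistedG2 K (3 ^ m)) y ⊓
        MulAction.stabilizer ↥(twistedG2 K (3 ^ m)) z) ≤ 2) ∧
    ∃ x y z : ↥(twistedG2 K (3 ^ m)) ⧸ B1 K m, x ≠ y ∧ x ≠ z ∧ y ≠ z ∧
      Nat.card ↥(MulAction.stabilizer ↥(twistedG2 K (3 ^ m)) x ⊓
        MulAction.stabilizer ↥(twistedG2 K (3 ^ m)) y ⊓
        MulAction.stabilizer ↥(twistedG2 K (3 ^ m)) z) = 2 := by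
  have hHB : chevG2.diagonalSubgroup K ≤ chevG2.borelSubgroup K := le_sup_right
  have hUB : chevG2.posUnipotent K ≤ chevG2.borelSubgroup K := le_sup_left
  constructor
  · intro x y z hxy hxz hyz
    obtain ⟨g, u, hu, hu1, ex, ey, ez⟩ := normalize3 hK x y z hxy hxz hyz
    rw [← card_stab3_smul g x y z, ex, ey, ez]
    exact card_stab3_le hK u hu hu1
  · have hu0 : uu K m 0 1 0 ∈ chevG2.posUnipotent K ⊓ twistedG2 K (3 ^ m) :=
      ⟨uu_mem_pos _ _ _, uu_mem_twisted _ _ _⟩
    have hu01 : uu K m (0 : K) 1 0 ≠ 1 := by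
      intro h
      rw [← uu_zero_zero (K := K) (m := m)] at h
      exact one_ne_zero (uu_injective _ _ _ _ _ _ h).2.1
    have hn1B : n1 hK ∉ chevG2.borelSubgroup K := by
      intro h
      apply n1_not_diag hK
      rw [← borel_inf_mono]
      exact ⟨h, n1_mono hK⟩
    refine ⟨pt 1, pt (s1 hK)⁻¹, pt (uT _ hu0 * (s1 hK)⁻¹), ?_, ?_, ?_, ?_⟩
    · intro h
      rw [pt_eq_iff] at h
      apply hn1B
      have e : ((1 : ↥(twistedG2 K (3 ^ m))) : GL chevG2.Idx K)⁻¹ *
          (((s1 hK)⁻¹ : ↥(twistedG2 K (3 ^ m))) : GL chevG2.Idx K) = (n1 hK)⁻¹ := by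
        show (1 : GL chevG2.Idx K)⁻¹ * (n1 hK)⁻¹ = _
        group
      rw [e] at h
      exact (Subgroup.inv_mem_iff _).1 h
    · intro h
      rw [pt_eq_iff] at h
      apply hn1B
      have e : ((1 : ↥(twistedG2 K (3 ^ m))) : GL chevG2.Idx K)⁻¹ *
          ((uT _ hu0 * (s1 hK)⁻¹ : ↥(twistedG2 K (3 ^ m))) : GL chevG2.Idx K)
          = uu K m 0 1 0 * (n1 hK)⁻¹ := by
        show (1 : GL chevG2.Idx K)⁻¹ * (uu K m 0 1 0 * (n1 hK)⁻¹) = _
        group
      rw [e] at h
      have e2 : n1 hK = (uu K m 0 1 0 * (n1 hK)⁻¹)⁻¹ * uu K m 0 1 0 := by group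
      rw [e2]
      exact Subgroup.mul_mem _ (Subgroup.inv_mem _ h) (hUB hu0.1)
    · intro h
      rw [pt_eq_iff] at h
      apply hu01
      apply n1_conj_not_borel hK _ hu0.1
      have e : (((s1 hK)⁻¹ : ↥(twistedG2 K (3 ^ m))) : GL chevG2.Idx K)⁻¹ *
          ((uT _ hu0 * (s1 hK)⁻¹ : ↥(twistedG2 K (3 ^ m))) : GL chevG2.Idx K)
          = n1 hK * uu K m 0 1 0 * (n1 hK)⁻¹ := by
        show ((n1 hK)⁻¹)⁻¹ * (uu K m 0 1 0 * (n1 hK)⁻¹) = _
        group
      rwa [e] at h
    · apply le_antisymm (card_stab3_le hK _ hu0 hu01)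
      -- the involution of `H¹` fixes the three points
      have ht0 : tauT K m (-1) ∈ twistedG2 K (3 ^ m) := tauT_mem hK (-1)
      have ht0H : tauT K m (-1) ∈ chevG2.diagonalSubgroup K := tauT_mem_diag (-1)
      obtain ⟨χ, h2, e6, e10, e11⟩ := tauT_char (m := m) (-1 : Kˣ)
      have hχ : χ 10 = 1 := by
        have hm1 : Units.map (ph1 K m : K →* K) (-1) = -1 := by
          apply Units.ext
          show ph1 K m (-1) = -1
          rw [map_neg, map_one]
        rw [e10, hm1, ← zpow_add]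
        exact Even.neg_one_zpow ⟨1, by norm_num⟩
      have hcomm : tauT K m (-1) * uu K m 0 1 0 * (tauT K m (-1))⁻¹ = uu K m 0 1 0 := by
        rw [tauT_conj_uu hK _ χ h2, hχ, mul_zero, mul_zero, Units.val_one, one_mul]
      have hconjH := (mono_conj_diag _ _ (n1_mono hK) ht0H).1
      have hmem : (⟨tauT K m (-1), ht0⟩ : ↥(twistedG2 K (3 ^ m))) ∈
          MulAction.stabilizer ↥(twistedG2 K (3 ^ m)) (pt (1 : ↥(twistedG2 K (3 ^ m)))) ⊓
          MulAction.stabilizer ↥(twistedG2 K (3 ^ m)) (pt (s1 hK)⁻¹) ⊓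
          MulAction.stabilizer ↥(twistedG2 K (3 ^ m)) (pt (uT _ hu0 * (s1 hK)⁻¹)) := by
        rw [Subgroup.mem_inf, Subgroup.mem_inf, mem_stab_pt, mem_stab_pt, mem_stab_pt]
        refine ⟨⟨?_, ?_⟩, ?_⟩
        · have e : ((1 : ↥(twistedG2 K (3 ^ m))) : GL chevG2.Idx K)⁻¹ * tauT K m (-1) *
              ((1 : ↥(twistedG2 K (3 ^ m))) : GL chevG2.Idx K) = tauT K m (-1) := by
            rw [Subgroup.coe_one]
            group
          rw [e]
          exact hHB ht0H
        · have e : (((s1 hK)⁻¹ : ↥(twistedG2 K (3 ^ m))) : GL chevG2.Idx K)⁻¹ * tauT K m (-1) *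
              (((s1 hK)⁻¹ : ↥(twistedG2 K (3 ^ m))) : GL chevG2.Idx K)
              = n1 hK * tauT K m (-1) * (n1 hK)⁻¹ := by
            show ((n1 hK)⁻¹)⁻¹ * tauT K m (-1) * (n1 hK)⁻¹ = _
            group
          rw [e]
          exact hHB hconjH
        · have e : ((uT _ hu0 * (s1 hK)⁻¹ : ↥(twistedG2 K (3 ^ m))) : GL chevG2.Idx K)⁻¹ *
              tauT K m (-1) *
              ((uT _ hu0 * (s1 hK)⁻¹ : ↥(twistedG2 K (3 ^ m))) : GL chevG2.Idx K)
              = n1 hK * tauT K m (-1) * (n1 hK)⁻¹ := by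
            show (uu K m 0 1 0 * (n1 hK)⁻¹)⁻¹ * tauT K m (-1) * (uu K m 0 1 0 * (n1 hK)⁻¹) = _
            have e3 : tauT K m (-1) * uu K m 0 1 0 = uu K m 0 1 0 * tauT K m (-1) := by
              calc tauT K m (-1) * uu K m 0 1 0
                  = (tauT K m (-1) * uu K m 0 1 0 * (tauT K m (-1))⁻¹) * tauT K m (-1) := by group
                _ = _ := by rw [hcomm]
            calc (uu K m 0 1 0 * (n1 hK)⁻¹)⁻¹ * tauT K m (-1) * (uu K m 0 1 0 * (n1 hK)⁻¹)
                = n1 hK * (uu K m 0 1 0)⁻¹ * (tauT K m (-1) * uu K m 0 1 0) * (n1 hK)⁻¹ := by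
                  group
              _ = _ := by
                  rw [e3]
                  group
          rw [e]
          exact hHB hconjH
      have hne1 : (⟨tauT K m (-1), ht0⟩ : ↥(twistedG2 K (3 ^ m))) ≠ 1 := by
        intro h
        have h1 : tauT K m (-1) = 1 := congrArg Subtype.val h
        rw [← map_one (tauT K m)] at h1
        have h2' : (-1 : Kˣ) = 1 := tauT_injective h1
        have h3 : (-1 : K) = 1 := by
          have := congrArg Units.val h2'
          rwa [Units.val_neg, Units.val_one] at this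
        have h4 : (2 : K) = 0 := by linear_combination -h3
        have h5 : (3 : K) = 0 := by
          have := CharP.cast_eq_zero K 3
          exact_mod_cast this
        have h6 : (1 : K) = 0 := by linear_combination h5 - h4
        exact one_ne_zero h6
      have hfin : Finite ↥(twistedG2 K (3 ^ m)) := by
        apply Nat.finite_of_card_ne_zero
        rw [card_twisted hK]
        have h3 : 3 ^ 1 ≤ 3 ^ (2 * m + 1) := Nat.pow_le_pow_right (by norm_num) (by omega)
        have h4 : 3 ^ (2 * m + 1) - 1 ≠ 0 := by omega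
        have h5 : (3 ^ (2 * m + 1)) ^ 3 ≠ 0 := by positivity
        exact Nat.mul_ne_zero (Nat.mul_ne_zero h5 h4) (by omega)
      have hnt : Nontrivial ↥(MulAction.stabilizer ↥(twistedG2 K (3 ^ m))
          (pt (1 : ↥(twistedG2 K (3 ^ m)))) ⊓
          MulAction.stabilizer ↥(twistedG2 K (3 ^ m)) (pt (s1 hK)⁻¹) ⊓
          MulAction.stabilizer ↥(twistedG2 K (3 ^ m)) (pt (uT _ hu0 * (s1 hK)⁻¹))) :=
        ⟨⟨⟨_, hmem⟩, 1, fun h => hne1 (congrArg Subtype.val h)⟩⟩
      exact Finite.one_lt_card_iff_nontrivial.2 hnt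

end

end Cfsg.Agent.Lib.Helper5.Ree
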