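import Cfsg.Agent.Lib.Helper5.Ree.Sigma
import Cfsg.Agent.Lib.Helper5.Tw.Ordered
import Cfsg.Prelude.Def_LieTwisted
import Mathlib

/-!
# The fixed points of the twisting automorphism in the unipotent subgroups of `G₂` (helper5)
-/

set_option autoImplicit false

namespace Cfsg.Agent.Lib.Helper5.Ree

open Cfsg.Lie Cfsg.Agent.Lib.Helper5.Chev Cfsg.Agent.Lib.Helper5.GA Cfsg.Agent.Lib.Helper5.Tw
open Cfsg.Agent.Lib.Helper5.Frob
open scoped Matrix

section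

variable {K : Type*} [Field K]

/-- the compatibility of a side with the twisting automorphism -/
structure SideSg (S : Side K (hadd2 K)) : Prop where
  la : S.ra < chevG2.nroots
  lb : S.rb < chevG2.nroots
  l1 : S.r1 < chevG2.nroots
  l2 : S.r2 < chevG2.nroots
  l3 : S.r3 < chevG2.nroots
  l4 : S.r4 < chevG2.nroots
  ρa : G2.rho S.ra = S.rb
  ρb : G2.rho S.rb = S.ra
  ρ1 : G2.rho S.r1 = S.r3
  ρ2 : G2.rho S.r2 = S.r4
  ρ3 : G2.rho S.r3 = S.r1
  ρ4 : G2.rho S.r4 = S.r2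
  ma : G2.lam S.ra = 3
  mb : G2.lam S.rb = 1
  m1 : G2.lam S.r1 = 3
  m2 : G2.lam S.r2 = 3
  m3 : G2.lam S.r3 = 1
  m4 : G2.lam S.r4 = 1
  e13 : S.e1 + S.e3 = 0
  e24 : S.e2 + S.e4 = 0
  he1 : S.e1 = 1 ∨ S.e1 = -1
  he2 : S.e2 = 1 ∨ S.e2 = -1

/-- the words of a side -/
def Side.w6 (S : Side K (hadd2 K)) (t₁ t₂ t₃ t₄ t₅ t₆ : K) : List (ℕ × K) :=
  [(S.ra, t₁), (S.rb, t₂), (S.r1, t₃), (S.r2, t₄), (S.r3, t₅), (S.r4, t₆)]

theorem Side.wordU_w6 (S : Side K (hadd2 K)) (t₁ t₂ t₃ t₄ t₅ t₆ : K) :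
    (hadd2 K).wordU (S.w6 t₁ t₂ t₃ t₄ t₅ t₆)
      = (hadd2 K).xU S.ra t₁ * (hadd2 K).xU S.rb t₂ * S.z t₃ t₄ t₅ t₆ := by
  unfold Side.w6 Side.z
  simp only [wordU_cons, wordU_nil, mul_one, mul_assoc]

end

section

variable {K : Type*} [Field K] [Fintype K] [CharP K 3] {m : ℕ}
  {S : Side K (hadd2 K)}

omit [Fintype K] [CharP K 3] in
theorem map_sign (φ : K →+* K) {e : K} (he : e = 1 ∨ e = -1) : φ e = e := by
  rcases he with rfl | rfl
  · exact map_one φ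
  · rw [map_neg, map_one]

omit [Fintype K] in
/-- the image of a word of a side under the twisting automorphism, in canonical form -/
theorem SideSg.sw_w6 (h : SideSg S) (t₁ t₂ t₃ t₄ t₅ t₆ : K) :
    (hadd2 K).wordU (sw K m (S.w6 t₁ t₂ t₃ t₄ t₅ t₆))
      = (hadd2 K).xU S.ra (ph1 K m t₂) * (hadd2 K).xU S.rb (ph3 K m t₁) *
        S.z (ph1 K m t₅ + S.e1 * (ph1 K m t₂ * ph3 K m t₁))
          (ph1 K m t₆ + S.e2 * ((ph1 K m t₂) ^ 2 * ph3 K m t₁))
          (ph3 K m t₃ + S.e3 * ((ph1 K m t₂) ^ 3 * ph3 K m t₁))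
          (ph3 K m t₄ + S.e4 * ((ph1 K m t₂) ^ 3 * (ph3 K m t₁) ^ 2)) := by
  rw [← S.reorder]
  unfold sw Side.w6 fpar
  simp only [List.map_cons, List.map_nil, wordU_cons, wordU_nil, mul_one, h.ρa, h.ρb, h.ρ1, h.ρ2,
    h.ρ3, h.ρ4, h.ma, h.mb, h.m1, h.m2, h.m3, h.m4, pow_one, ph1_pow3, mul_assoc]

/-- the words of a side fixed by the twisting automorphism -/
noncomputable def Side.rw (S : Side K (hadd2 K)) (m : ℕ) (t u v : K) : List (ℕ × K) :=
  S.w6 (ph1 K m t) t (ph1 K m u + S.e1 * (ph1 K m t * t))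
    (ph1 K m v + S.e2 * ((ph1 K m t) ^ 2 * t)) u v

theorem SideSg.sw_rw (h : SideSg S) (hK : Fintype.card K = 3 ^ (2 * m + 1)) (t u v : K) :
    (hadd2 K).wordU (sw K m (S.rw m t u v)) = (hadd2 K).wordU (S.rw m t u v) := by
  unfold Side.rw
  rw [h.sw_w6, S.wordU_w6, ph3_ph1 hK]
  congr 1
  have e3 : S.e3 = -S.e1 := by
    have := h.e13
    linear_combination this
  have e4 : S.e4 = -S.e2 := by
    have := h.e24
    linear_combination this
  congr 1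
  · rw [map_add, map_mul, map_mul, ph3_ph1 hK, ph3_ph1 hK, map_sign _ h.he1, ph1_pow3, e3]
    ring
  · rw [map_add, map_mul, map_mul, map_pow, ph3_ph1 hK, ph3_ph1 hK, map_sign _ h.he2, ph1_pow3, e4]
    ring

theorem SideSg.rw_mem_fixR (h : SideSg S) (hK : Fintype.card K = 3 ^ (2 * m + 1)) (t u v : K) :
    (hadd2 K).wordU (S.rw m t u v) ∈ fixR hK := by
  apply wordU_mem_fixR hK _ _ (h.sw_rw hK t u v)
  intro p hp
  unfold Side.rw Side.w6 at hp
  simp only [List.mem_cons, List.not_mem_nil, or_false] at hp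
  rcases hp with rfl | rfl | rfl | rfl | rfl | rfl
  · exact h.la
  · exact h.lb
  · exact h.l1
  · exact h.l2
  · exact h.l3
  · exact h.l4

omit [Fintype K] in
theorem posSideSg : SideSg (posSide (hadd2 K)) where
  la := (by decide : (7 : ℕ) < chevG2.nroots)
  lb := (by decide : (6 : ℕ) < chevG2.nroots)
  l1 := (by decide : (8 : ℕ) < chevG2.nroots)
  l2 := (by decide : (9 : ℕ) < chevG2.nroots)
  l3 := (by decide : (10 : ℕ) < chevG2.nroots)
  l4 := (by decide : (11 : ℕ) < chevG2.nroots)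
  ρa := rfl
  ρb := rfl
  ρ1 := rfl
  ρ2 := rfl
  ρ3 := rfl
  ρ4 := rfl
  ma := rfl
  mb := rfl
  m1 := rfl
  m2 := rfl
  m3 := rfl
  m4 := rfl
  e13 := by show (1 : K) + -1 = 0; ring
  e24 := by show (1 : K) + -1 = 0; ring
  he1 := Or.inl rfl
  he2 := Or.inl rfl

omit [Fintype K] in
theorem negSideSg : SideSg (negSide (hadd2 K)) where
  la := (by decide : (4 : ℕ) < chevG2.nroots)
  lb := (by decide : (5 : ℕ) < chevG2.nroots)
  l1 := (by decide : (3 : ℕ) < chevG2.nroots)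
  l2 := (by decide : (2 : ℕ) < chevG2.nroots)
  l3 := (by decide : (1 : ℕ) < chevG2.nroots)
  l4 := (by decide : (0 : ℕ) < chevG2.nroots)
  ρa := rfl
  ρb := rfl
  ρ1 := rfl
  ρ2 := rfl
  ρ3 := rfl
  ρ4 := rfl
  ma := rfl
  mb := rfl
  m1 := rfl
  m2 := rfl
  m3 := rfl
  m4 := rfl
  e13 := by show (-1 : K) + 1 = 0; ring
  e24 := by show (1 : K) + -1 = 0; ring
  he1 := Or.inr rfl
  he2 := Or.inl rfl

omit [Fintype K] in
/-- the words of the positive side are the words of the definition of the twisted group -/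
theorem posSide_rw (t u v : K) :
    (posSide (hadd2 K)).rw m t u v = reeWordU (3 ^ m) t u v := by
  show [((7 : ℕ), ph1 K m t), (6, t), (8, ph1 K m u + 1 * (ph1 K m t * t)),
    (9, ph1 K m v + 1 * ((ph1 K m t) ^ 2 * t)), (10, u), (11, v)]
    = [(7, t ^ 3 ^ m), (6, t), (8, t ^ (3 ^ m + 1) + u ^ 3 ^ m),
      (9, t ^ (2 * 3 ^ m + 1) + v ^ 3 ^ m), (10, u), (11, v)]
  rw [ph1_apply, ph1_apply, ph1_apply]
  have e1 : t ^ 3 ^ m * t = t ^ (3 ^ m + 1) := (pow_succ t _).symm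
  have e2 : (t ^ 3 ^ m) ^ 2 * t = t ^ (2 * 3 ^ m + 1) := by
    rw [← pow_mul, ← pow_succ, mul_comm]
  rw [one_mul, one_mul, e1, e2, add_comm (u ^ 3 ^ m), add_comm (v ^ 3 ^ m)]

omit [Fintype K] in
theorem negSide_rw (t u v : K) :
    (negSide (hadd2 K)).rw m (-t) (-u) (-v) = reeWordV (3 ^ m) t u v := by
  show [((4 : ℕ), ph1 K m (-t)), (5, -t), (3, ph1 K m (-u) + -1 * (ph1 K m (-t) * -t)),
    (2, ph1 K m (-v) + 1 * ((ph1 K m (-t)) ^ 2 * -t)), (1, -u), (0, -v)]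
    = [(4, -(t ^ 3 ^ m)), (5, -t), (3, -(t ^ (3 ^ m + 1) + u ^ 3 ^ m)),
      (2, -(t ^ (2 * 3 ^ m + 1) + v ^ 3 ^ m)), (1, -u), (0, -v)]
  rw [map_neg, map_neg, map_neg, ph1_apply, ph1_apply, ph1_apply]
  have e1 : t ^ 3 ^ m * t = t ^ (3 ^ m + 1) := (pow_succ t _).symm
  have e2 : (t ^ 3 ^ m) ^ 2 * t = t ^ (2 * 3 ^ m + 1) := by
    rw [← pow_mul, ← pow_succ, mul_comm]
  rw [← e1, ← e2]
  congr 2
  · congr 1
    · congr 1; ring
    · congr 1
      congr 1; ring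
  
/-- the twisted group lies in the fixed points of the twisting automorphism -/
theorem twisted_le_fixR (hK : Fintype.card K = 3 ^ (2 * m + 1)) :
    twistedG2 K (3 ^ m) ≤ fixR hK := by
  unfold twistedG2 ChevalleyDatum.genSubgroup
  rw [Subgroup.closure_le]
  rintro g ⟨w, ⟨t, u, v, hw | hw⟩, hg⟩
  · have e : g = (hadd2 K).wordU (reeWordU (3 ^ m) t u v) := by
      apply Units.ext
      rw [hg, hw, (hadd2 K).wordU_val]
    rw [SetLike.mem_coe, e, ← posSide_rw]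
    exact posSideSg.rw_mem_fixR hK t u v
  · have e : g = (hadd2 K).wordU (reeWordV (3 ^ m) t u v) := by
      apply Units.ext
      rw [hg, hw, (hadd2 K).wordU_val]
    rw [SetLike.mem_coe, e, ← negSide_rw]
    exact negSideSg.rw_mem_fixR hK (-t) (-u) (-v)

end

end Cfsg.Agent.Lib.Helper5.Ree
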