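import Cfsg.Agent.Lib.Helper5.Ree.Core
import Mathlib

/-!
# The elements of `U` in the small Ree group: products and the action of the torus (helper5)
-/

set_option autoImplicit false

namespace Cfsg.Agent.Lib.Helper5.Ree

open Cfsg.Lie Cfsg.Agent.Lib.Helper5.Chev Cfsg.Agent.Lib.Helper5.GA Cfsg.Agent.Lib.Helper5.Tw
open Cfsg.Agent.Lib.Helper5.Frob
open scoped Matrix

section

variable {K : Type*} [Field K] [Fintype K] [CharP K 3] {m : ℕ}

/-- the fixed element `U(t, u, v)` of `U` -/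
noncomputable def uu (K : Type*) [Field K] [CharP K 3] (m : ℕ) (t u v : K) : GL chevG2.Idx K :=
  (hadd2 K).wordU ((posSide (hadd2 K)).rw m t u v)

omit [Fintype K] in
theorem uu_eq (t u v : K) : uu K m t u v
    = (hadd2 K).xU 7 (ph1 K m t) * (hadd2 K).xU 6 t *
      (posSide (hadd2 K)).z (ph1 K m u + 1 * (ph1 K m t * t))
        (ph1 K m v + 1 * ((ph1 K m t) ^ 2 * t)) u v := by
  unfold uu Side.rw
  rw [Side.wordU_w6]
  rfl

omit [Fintype K] in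
theorem uu_mem_pos (t u v : K) : uu K m t u v ∈ chevG2.posUnipotent K := w6_mem_pos _ _ _ _ _ _

theorem uu_mem_fix (hK : Fintype.card K = 3 ^ (2 * m + 1)) (t u v : K) :
    uu K m t u v ∈ fixR hK := posSideSg.rw_mem_fixR hK t u v

omit [Fintype K] in
theorem uu_mem_twisted (t u v : K) : uu K m t u v ∈ twistedG2 K (3 ^ m) := by
  unfold uu
  rw [posSide_rw]
  exact reeU_mem_twisted _ t u v

theorem uu_injective (t u v t' u' v' : K) (e : uu K m t u v = uu K m t' u' v') :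
    t = t' ∧ u = u' ∧ v = v' := by
  unfold uu Side.rw at e
  obtain ⟨-, e6, -, -, e10, e11⟩ := w6_injective _ _ _ _ _ _ _ _ _ _ _ _ e
  exact ⟨e6, e10, e11⟩

theorem pos_fixed' (hK : Fintype.card K = 3 ^ (2 * m + 1)) (g : GL chevG2.Idx K)
    (hg : g ∈ chevG2.posUnipotent K) (hf : g ∈ fixR hK) : ∃ t u v : K, g = uu K m t u v :=
  pos_fixed hK g hg hf

omit [Fintype K] in
theorem z_zero : (posSide (hadd2 K)).z (0 : K) 0 0 0 = 1 := by
  unfold Side.z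
  rw [xU0, xU0, xU0, xU0]
  group

omit [Fintype K] in
theorem uu_zero (u v : K) :
    uu K m 0 u v = (posSide (hadd2 K)).z (ph1 K m u) (ph1 K m v) u v := by
  rw [uu_eq, map_zero, xU0, xU0]
  have e1 : ph1 K m u + 1 * ((0 : K) * 0) = ph1 K m u := by ring
  have e2 : ph1 K m v + 1 * ((0 : K) ^ 2 * 0) = ph1 K m v := by ring
  rw [e1, e2, one_mul, one_mul]

omit [Fintype K] in
theorem uu_zero_zero : uu K m 0 0 0 = 1 := by
  rw [uu_zero, map_zero, z_zero]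

omit [Fintype K] in
theorem uu_split (t u v : K) : uu K m t u v = uu K m t 0 0 * uu K m 0 u v := by
  rw [uu_zero, uu_eq t u v, uu_eq t 0 0, mul_assoc _ ((posSide (hadd2 K)).z _ _ _ _), Side.z_mul,
    map_zero]
  have e1 : (0 : K) + 1 * (ph1 K m t * t) + ph1 K m u = ph1 K m u + 1 * (ph1 K m t * t) := by ring
  have e2 : (0 : K) + 1 * ((ph1 K m t) ^ 2 * t) + ph1 K m v
      = ph1 K m v + 1 * ((ph1 K m t) ^ 2 * t) := by ring
  rw [e1, e2, zero_add, zero_add]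

omit [Fintype K] in
theorem uu_zero_mul (u v u' v' : K) :
    uu K m 0 u v * uu K m 0 u' v' = uu K m 0 (u + u') (v + v') := by
  rw [uu_zero, uu_zero, uu_zero, Side.z_mul, map_add, map_add]

omit [Fintype K] in
theorem uu_zero_inv (u v : K) : (uu K m 0 u v)⁻¹ = uu K m 0 (-u) (-v) := by
  rw [inv_eq_iff_mul_eq_one, uu_zero_mul, add_neg_cancel, add_neg_cancel, uu_zero_zero]

/-- the roots `a+b`, `2a+b`, `3a+b`, `3a+2b` -/
def LZ : List ℕ := [8, 9, 10, 11]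

theorem good7 : GoodL chevG2 (7 :: LZ) := by decide +kernel

theorem good6 : GoodL chevG2 (6 :: LZ) := by decide +kernel

omit [Fintype K] in
theorem z_mem (c1 c2 c3 c4 : K) : (posSide (hadd2 K)).z c1 c2 c3 c4 ∈ UL K chevG2 LZ := by
  unfold Side.z
  exact Subgroup.mul_mem _ (Subgroup.mul_mem _ (Subgroup.mul_mem _
    (xU_mem_UL (hadd2 K) LZ 8 (by decide) c1) (xU_mem_UL (hadd2 K) LZ 9 (by decide) c2))
    (xU_mem_UL (hadd2 K) LZ 10 (by decide) c3)) (xU_mem_UL (hadd2 K) LZ 11 (by decide) c4)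

omit [Fintype K] in
theorem exists_z (g : GL chevG2.Idx K) (hg : g ∈ UL K chevG2 LZ) :
    ∃ c1 c2 c3 c4 : K, g = (posSide (hadd2 K)).z c1 c2 c3 c4 := by
  obtain ⟨τ, rfl⟩ := exists_wordL hD2 (hadd2 K) LZ good7.2 g hg
  refine ⟨τ 8, τ 9, τ 10, τ 11, ?_⟩
  show (hadd2 K).wordU [(8, τ 8), (9, τ 9), (10, τ 10), (11, τ 11)] = _
  unfold Side.z
  simp only [wordU_cons, Tw.wordU_nil, mul_one, mul_assoc]
  rfl

/-- `g ∈ x_a(p) x_b(q) Z` -/
def InAB (g : GL chevG2.Idx K) (p q : K) : Prop :=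
  ∃ z ∈ UL K chevG2 LZ, g = (hadd2 K).xU 7 p * (hadd2 K).xU 6 q * z

omit [Fintype K] in
theorem InAB.mul {g g' : GL chevG2.Idx K} {p q p' q' : K} (h : InAB g p q) (h' : InAB g' p' q') :
    InAB (g * g') (p + p') (q + q') := by
  obtain ⟨z, hz, rfl⟩ := h
  obtain ⟨z', hz', rfl⟩ := h'
  have n7 := xU_mem_normalizer_UL hD2 (hadd2 K) 7 LZ good7 p'
  have n6 := xU_mem_normalizer_UL hD2 (hadd2 K) 6 LZ good6 q'
  have hc : (hadd2 K).xU 6 q * (hadd2 K).xU 7 p' = (hadd2 K).xU 7 p' * (hadd2 K).xU 6 q *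
      (posSide (hadd2 K)).z (1 * (p' * q)) (1 * (p' ^ 2 * q)) (-1 * (p' ^ 3 * q))
        (-1 * (p' ^ 3 * q ^ 2)) := (posSide (hadd2 K)).hcomm p' q
  set z3 := (posSide (hadd2 K)).z (1 * (p' * q)) (1 * (p' ^ 2 * q)) (-1 * (p' ^ 3 * q))
        (-1 * (p' ^ 3 * q ^ 2)) with hz3
  have hz3m : z3 ∈ UL K chevG2 LZ := z_mem _ _ _ _
  have hn76 : (hadd2 K).xU 7 p' * (hadd2 K).xU 6 q' ∈
      Subgroup.normalizer (UL K chevG2 LZ : Set (GL chevG2.Idx K)) := Subgroup.mul_mem _ n7 n6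
  refine ⟨((hadd2 K).xU 6 q')⁻¹ * z3 * (hadd2 K).xU 6 q' *
    (((hadd2 K).xU 7 p' * (hadd2 K).xU 6 q')⁻¹ * z * ((hadd2 K).xU 7 p' * (hadd2 K).xU 6 q')) * z',
    ?_, ?_⟩
  · exact Subgroup.mul_mem _ (Subgroup.mul_mem _ (conj_mem_of_normalizer _ _ _ n6 hz3m).2
      (conj_mem_of_normalizer _ _ _ hn76 hz).2) hz'
  · rw [← xU_add, ← xU_add]
    calc (hadd2 K).xU 7 p * (hadd2 K).xU 6 q * z * ((hadd2 K).xU 7 p' * (hadd2 K).xU 6 q' * z')
        = (hadd2 K).xU 7 p * ((hadd2 K).xU 6 q * (hadd2 K).xU 7 p') * ((hadd2 K).xU 7 p')⁻¹ * z *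
            (hadd2 K).xU 7 p' * (hadd2 K).xU 6 q' * z' := by group
      _ = (hadd2 K).xU 7 p * ((hadd2 K).xU 7 p' * (hadd2 K).xU 6 q * z3) * ((hadd2 K).xU 7 p')⁻¹ *
            z * (hadd2 K).xU 7 p' * (hadd2 K).xU 6 q' * z' := by rw [hc]
      _ = _ := by group

omit [Fintype K] in
theorem InAB.eq_w6 {g : GL chevG2.Idx K} {p q : K} (h : InAB g p q) :
    ∃ c1 c2 c3 c4 : K, g = (hadd2 K).wordU ((posSide (hadd2 K)).w6 p q c1 c2 c3 c4) := by
  obtain ⟨z, hz, rfl⟩ := h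
  obtain ⟨c1, c2, c3, c4, rfl⟩ := exists_z z hz
  refine ⟨c1, c2, c3, c4, ?_⟩
  rw [Side.wordU_w6]
  rfl

omit [Fintype K] in
theorem uu_inAB (t u v : K) : InAB (uu K m t u v) (ph1 K m t) t :=
  ⟨_, z_mem _ _ _ _, uu_eq t u v⟩

/-- the first coordinate of a product -/
theorem uu_mul (hK : Fintype.card K = 3 ^ (2 * m + 1)) (t u v t' u' v' : K) :
    ∃ u'' v'' : K, uu K m t u v * uu K m t' u' v' = uu K m (t + t') u'' v'' := by
  have hU : uu K m t u v * uu K m t' u' v' ∈ chevG2.posUnipotent K :=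
    Subgroup.mul_mem _ (uu_mem_pos t u v) (uu_mem_pos t' u' v')
  have hf : uu K m t u v * uu K m t' u' v' ∈ fixR hK :=
    Subgroup.mul_mem _ (uu_mem_fix hK t u v) (uu_mem_fix hK t' u' v')
  obtain ⟨t'', u'', v'', e⟩ := pos_fixed' hK _ hU hf
  obtain ⟨c1, c2, c3, c4, e2⟩ := ((uu_inAB t u v).mul (uu_inAB t' u' v')).eq_w6
  refine ⟨u'', v'', ?_⟩
  rw [e]
  have e3 := e.symm.trans e2
  unfold uu Side.rw at e3
  obtain ⟨-, e6, -, -, -, -⟩ := w6_injective _ _ _ _ _ _ _ _ _ _ _ _ e3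
  rw [e6]

end

end Cfsg.Agent.Lib.Helper5.Ree
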