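import Cfsg.Agent.Lib.Helper5.Ree.ULaw
import Cfsg.Agent.Lib.Lead.ReeCube
import Mathlib

/-!
# The full product law of `U¹` in the small Ree group (helper5)

`U(t,u,v) U(t',u',v') = U(t+t', u+u' - t'^{3θ} t, v+v' - t' u + t'^{3θ+1} t - t'^{3θ} t²)`.
-/

set_option autoImplicit false

namespace Cfsg.Agent.Lib.Helper5.Ree

open Cfsg.Lie Cfsg.Agent.Lib.Helper5.Chev Cfsg.Agent.Lib.Helper5.GA Cfsg.Agent.Lib.Helper5.Tw
open Cfsg.Agent.Lib.Helper5.Frob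
open Cfsg.Agent.ReeL (X Z)

section

variable {K : Type*} [Field K] [CharP K 3]

/-- the product of two elements of `U` in normal form -/
theorem g_mul (A B d1 d2 d3 d4 A' B' e1 e2 e3 e4 : K) :
    (X 7 A * X 6 B * Z d1 d2 d3 d4) * (X 7 A' * X 6 B' * Z e1 e2 e3 e4)
      = X 7 (A + A') * X 6 (B + B') *
        Z (A' * B + e1 + d1) (A' ^ 2 * B + e2 + (d2 - A' * d1)) (-(A' ^ 3 * B) + e3 + d3)
          (-(A' ^ 3 * B ^ 2) - B' * (-(A' ^ 3 * B)) + e4 + (d4 - B' * d3)) := by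
  have hc : X 6 B * X 7 A' = X 7 A' * X 6 B *
      Z (A' * B) (A' ^ 2 * B) (-(A' ^ 3 * B)) (-(A' ^ 3 * B ^ 2)) := by
    have h : (hadd2 K).xU 6 B * (hadd2 K).xU 7 A' = (hadd2 K).xU 7 A' * (hadd2 K).xU 6 B *
        (posSide (hadd2 K)).z (1 * (A' * B)) (1 * (A' ^ 2 * B)) (-1 * (A' ^ 3 * B))
          (-1 * (A' ^ 3 * B ^ 2)) := (posSide (hadd2 K)).hcomm A' B
    rw [one_mul, one_mul, neg_one_mul, neg_one_mul] at h
    exact h
  calc (X 7 A * X 6 B * Z d1 d2 d3 d4) * (X 7 A' * X 6 B' * Z e1 e2 e3 e4)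
      = X 7 A * X 6 B * (Z d1 d2 d3 d4 * (X 7 A' * X 6 B' * Z e1 e2 e3 e4)) := by
        simp only [mul_assoc]
    _ = X 7 A * X 6 B * ((X 7 A' * X 6 B' * Z e1 e2 e3 e4)
          * Z d1 (d2 - A' * d1) d3 (d4 - B' * d3)) := by rw [ReeL.Z_mul_g]
    _ = X 7 A * (X 6 B * X 7 A') * X 6 B' * Z e1 e2 e3 e4
          * Z d1 (d2 - A' * d1) d3 (d4 - B' * d3) := by simp only [mul_assoc]
    _ = X 7 A * (X 7 A' * X 6 B *
          Z (A' * B) (A' ^ 2 * B) (-(A' ^ 3 * B)) (-(A' ^ 3 * B ^ 2))) * X 6 B' * Z e1 e2 e3 e4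
          * Z d1 (d2 - A' * d1) d3 (d4 - B' * d3) := by rw [hc]
    _ = (X 7 A * X 7 A') * X 6 B *
          (Z (A' * B) (A' ^ 2 * B) (-(A' ^ 3 * B)) (-(A' ^ 3 * B ^ 2)) * X 6 B') * Z e1 e2 e3 e4
          * Z d1 (d2 - A' * d1) d3 (d4 - B' * d3) := by simp only [mul_assoc]
    _ = (X 7 A * X 7 A') * X 6 B *
          (X 6 B' * Z (A' * B) (A' ^ 2 * B) (-(A' ^ 3 * B))
            (-(A' ^ 3 * B ^ 2) - B' * (-(A' ^ 3 * B)))) * Z e1 e2 e3 e4
          * Z d1 (d2 - A' * d1) d3 (d4 - B' * d3) := by rw [ReeL.Z_mul_Xb]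
    _ = (X 7 A * X 7 A') * (X 6 B * X 6 B') *
          (Z (A' * B) (A' ^ 2 * B) (-(A' ^ 3 * B)) (-(A' ^ 3 * B ^ 2) - B' * (-(A' ^ 3 * B)))
            * Z e1 e2 e3 e4 * Z d1 (d2 - A' * d1) d3 (d4 - B' * d3)) := by simp only [mul_assoc]
    _ = _ := by rw [ReeL.X_add, ReeL.X_add, ReeL.Z_mul, ReeL.Z_mul]

end

section

variable {K : Type*} [Field K] [Fintype K] [CharP K 3] {m : ℕ}

/-- the product law of `U¹` -/
theorem uu_mul_full (hK : Fintype.card K = 3 ^ (2 * m + 1)) (t u v t' u' v' : K) :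
    uu K m t u v * uu K m t' u' v' = uu K m (t + t') (u + u' - ph3 K m t' * t)
      (v + v' - t' * u + t' * ph3 K m t' * t - ph3 K m t' * t ^ 2) := by
  have hU : uu K m t u v * uu K m t' u' v' ∈ chevG2.posUnipotent K :=
    Subgroup.mul_mem _ (uu_mem_pos t u v) (uu_mem_pos t' u' v')
  have hf : uu K m t u v * uu K m t' u' v' ∈ fixR hK :=
    Subgroup.mul_mem _ (uu_mem_fix hK t u v) (uu_mem_fix hK t' u' v')
  obtain ⟨T, U, V, e⟩ := pos_fixed' hK _ hU hf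
  have e2 : uu K m t u v * uu K m t' u' v' = (hadd2 K).wordU ((posSide (hadd2 K)).w6
      (ph1 K m t + ph1 K m t') (t + t')
      (ph1 K m t' * t + (ph1 K m u' + 1 * (ph1 K m t' * t')) + (ph1 K m u + 1 * (ph1 K m t * t)))
      ((ph1 K m t') ^ 2 * t + (ph1 K m v' + 1 * ((ph1 K m t') ^ 2 * t'))
        + ((ph1 K m v + 1 * ((ph1 K m t) ^ 2 * t)) - ph1 K m t' * (ph1 K m u + 1 * (ph1 K m t * t))))
      (-((ph1 K m t') ^ 3 * t) + u' + u)
      (-((ph1 K m t') ^ 3 * t ^ 2) - t' * (-((ph1 K m t') ^ 3 * t)) + v' + (v - t' * u))) := by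
    rw [uu_eq, uu_eq, ← ReeL.Z_eq, ← ReeL.Z_eq, g_mul, ReeL.wordU_w6_pos]
  rw [e]
  have e3 := e.symm.trans e2
  unfold uu Side.rw at e3
  obtain ⟨-, e6, -, -, e10, e11⟩ := w6_injective _ _ _ _ _ _ _ _ _ _ _ _ e3
  rw [e6, e10, e11, ← ph1_pow3]
  congr 1 <;> ring

/-- right multiplication by an element of the second layer -/
theorem uu_mul_zero (hK : Fintype.card K = 3 ^ (2 * m + 1)) (t u v u' v' : K) :
    uu K m t u v * uu K m 0 u' v' = uu K m t (u + u') (v + v') := by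
  rw [uu_mul_full hK, map_zero]
  congr 1 <;> ring

/-- left multiplication by an element of the second layer -/
theorem uu_zero_mul' (hK : Fintype.card K = 3 ^ (2 * m + 1)) (t u v u' v' : K) :
    uu K m 0 u' v' * uu K m t u v = uu K m t (u' + u) (v' + v - t * u') := by
  rw [uu_mul_full hK]
  congr 1 <;> ring

end

end Cfsg.Agent.Lib.Helper5.Ree
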