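import Cfsg.Agent.Lib.Lead.ReeTI
import Cfsg.Agent.Lib.Lead.ReeCube
import Cfsg.Agent.Lib.Lead.ReeCount.ConjUnion
import Cfsg.Agent.Lib.Lead.ReeTor.QuarterB
import Cfsg.Agent.Lib.Helper5.Ree.AutB
import Mathlib

/-!
# Small Ree groups: the Sylow 3-subgroup `U¹` (helper5)

`U¹` is strongly closed with respect to `B¹`, the parametrisation of `U¹`, the orders of its
elements, and the 3-elements are conjugate into `U¹`.
-/

set_option autoImplicit false
set_option maxRecDepth 100000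

namespace Cfsg.Agent.Lib.Helper5.Ree

open Cfsg.Lie Cfsg.Agent.Lib.Helper5.Chev Cfsg.Agent.Lib.Helper5.GA Cfsg.Agent.Lib.Helper5.Tw
open Cfsg.Agent.Lib.Helper5.Frob Cfsg.Agent.Lib.Helper5.SL2P Cfsg.Agent.Lib.Helper5.Ree
open Cfsg.Agent.ReeL Cfsg.Agent.ReeTor Cfsg.Agent.ReeCount

section

variable {K : Type*} [Field K] [Fintype K] [CharP K 3] {m : ℕ}

/-- a nontrivial element of `U¹` is conjugated into `U¹` only by the elements of `B¹` -/
theorem mem_B1_of_conj_mem_UU1 (hK : Fintype.card K = 3 ^ (2 * m + 1))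
    (g x : ↥(twistedG2 K (3 ^ m))) (hx : x ∈ UU1 K m) (hx1 : x ≠ 1)
    (hg : g * x * g⁻¹ ∈ UU1 K m) : g ∈ B1 K m := by
  rw [mem_B1]
  by_contra hgB
  rw [mem_UU1] at hx hg
  have e : (g : GL chevG2.Idx K)⁻¹ *
      ((g * x * g⁻¹ : ↥(twistedG2 K (3 ^ m))) : GL chevG2.Idx K) * (g : GL chevG2.Idx K)
      = (x : GL chevG2.Idx K) := by
    rw [Subgroup.coe_mul, Subgroup.coe_mul, Subgroup.coe_inv]
    group
  have h1 := eq_one_of_conj_mem_pos hK (g : GL chevG2.Idx K)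
    ((g * x * g⁻¹ : ↥(twistedG2 K (3 ^ m))) : GL chevG2.Idx K) g.2 hgB hg (by rw [e]; exact hx)
  apply hx1
  have h2 : g * x * g⁻¹ = 1 := Subtype.ext h1
  have : x = g⁻¹ * (g * x * g⁻¹) * g := by group
  rw [this, h2]
  group

/-- the parametrisation of `U¹` -/
noncomputable def XgMap (K : Type*) [Field K] [CharP K 3] (m : ℕ) (w : K × K × K) :
    ↥(twistedG2 K (3 ^ m)) := Xg K m w.1 w.2.1 w.2.2

theorem XgMap_injective : Function.Injective (XgMap K m) := by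
  rintro ⟨t, u, v⟩ ⟨t', u', v'⟩ h
  have h' : uu K m t u v = uu K m t' u' v' := congrArg Subtype.val h
  obtain ⟨rfl, rfl, rfl⟩ := uu_injective _ _ _ _ _ _ h'
  rfl

theorem mem_UU1_iff_range (hK : Fintype.card K = 3 ^ (2 * m + 1))
    (x : ↥(twistedG2 K (3 ^ m))) : x ∈ UU1 K m ↔ ∃ w, x = XgMap K m w := by
  rw [mem_UU1_iff hK]
  constructor
  · rintro ⟨t, u, v, rfl⟩
    exact ⟨(t, u, v), rfl⟩
  · rintro ⟨⟨t, u, v⟩, rfl⟩
    exact ⟨t, u, v, rfl⟩

/-- counting the elements of `U¹` with a given property of the parameters -/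
theorem card_UU1_of (hK : Fintype.card K = 3 ^ (2 * m + 1))
    (p : ↥(twistedG2 K (3 ^ m)) → Prop) (T : Set (K × K × K))
    (hT : ∀ w, p (XgMap K m w) ↔ w ∈ T) :
    Nat.card {x : ↥(twistedG2 K (3 ^ m)) // x ∈ UU1 K m ∧ p x} = T.ncard := by
  have e : {x : ↥(twistedG2 K (3 ^ m)) | x ∈ UU1 K m ∧ p x} = XgMap K m '' T := by
    ext x
    constructor
    · rintro ⟨hx, hp⟩
      obtain ⟨w, rfl⟩ := (mem_UU1_iff_range hK x).1 hx
      exact ⟨w, (hT w).1 hp, rfl⟩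
    · rintro ⟨w, hw, rfl⟩
      exact ⟨(mem_UU1_iff_range hK _).2 ⟨w, rfl⟩, (hT w).2 hw⟩
  show Nat.card ↥{x : ↥(twistedG2 K (3 ^ m)) | x ∈ UU1 K m ∧ p x} = T.ncard
  rw [e, Nat.card_coe_set_eq, Set.ncard_image_of_injective _ XgMap_injective]

omit [Fintype K] in
theorem coe_XgMap (w : K × K × K) :
    ((XgMap K m w : ↥(twistedG2 K (3 ^ m))) : GL chevG2.Idx K)
      = (hadd2 K).wordU ((posSide (hadd2 K)).rw m w.1 w.2.1 w.2.2) := rfl

theorem XgMap_eq_one_iff (w : K × K × K) : XgMap K m w = 1 ↔ w = 0 := by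
  constructor
  · intro h
    have h' : (hadd2 K).wordU ((posSide (hadd2 K)).rw m w.1 w.2.1 w.2.2) = 1 := by
      rw [← coe_XgMap, h]
      rfl
    obtain ⟨h1, h2, h3⟩ := (rw_eq_one_iff (m := m) _ _ _).1 h'
    exact Prod.ext h1 (Prod.ext h2 h3)
  · rintro rfl
    apply Subtype.ext
    rw [coe_XgMap]
    exact (rw_eq_one_iff (m := m) _ _ _).2 ⟨rfl, rfl, rfl⟩

theorem XgMap_cube_eq_one_iff (w : K × K × K) : XgMap K m w ^ 3 = 1 ↔ w.1 = 0 := by
  rw [← cube_rw_eq_one_iff (m := m) w.1 w.2.1 w.2.2, ← coe_XgMap, ← Subgroup.coe_pow]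
  constructor
  · intro h
    rw [h]
    rfl
  · intro h
    exact Subtype.ext h

omit [Fintype K] in
/-- every element of `U¹` has ninth power one -/
theorem XgMap_pow_nine (w : K × K × K) : XgMap K m w ^ 9 = 1 := by
  apply Subtype.ext
  rw [Subgroup.coe_pow, coe_XgMap, (by norm_num : 9 = 3 * 3), pow_mul, cube_rw, pow_succ, pow_two,
    Z_mul, Z_mul]
  have h3 := three_eq_zero (K := K)
  have e1 : ∀ c : K, c + c + c = 0 := fun c => by linear_combination c * h3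
  simp only [e1]
  rw [Z_zero]
  rfl

theorem orderOf_XgMap_eq_three_iff (w : K × K × K) :
    orderOf (XgMap K m w) = 3 ↔ w.1 = 0 ∧ w ≠ 0 := by
  have : Fact (Nat.Prime 3) := ⟨Nat.prime_three⟩
  constructor
  · intro h
    have h1 : XgMap K m w ^ 3 = 1 := by
      have := pow_orderOf_eq_one (XgMap K m w)
      rwa [h] at this
    refine ⟨(XgMap_cube_eq_one_iff w).1 h1, fun h0 => ?_⟩
    rw [(XgMap_eq_one_iff w).2 h0, orderOf_one] at h
    omega
  · rintro ⟨h1, h0⟩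
    exact orderOf_eq_prime ((XgMap_cube_eq_one_iff w).2 h1) (fun h => h0 ((XgMap_eq_one_iff w).1 h))

theorem orderOf_XgMap_eq_nine_iff (w : K × K × K) :
    orderOf (XgMap K m w) = 9 ↔ w.1 ≠ 0 := by
  have : Fact (Nat.Prime 3) := ⟨Nat.prime_three⟩
  constructor
  · intro h h1
    have h3 := (XgMap_cube_eq_one_iff (m := m) w).2 h1
    have := orderOf_dvd_of_pow_eq_one h3
    rw [h] at this
    omega
  · intro h1
    have h3 : ¬ XgMap K m w ^ 3 ^ 1 = 1 := by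
      rw [pow_one]
      exact fun h => h1 ((XgMap_cube_eq_one_iff w).1 h)
    have h9 : XgMap K m w ^ 3 ^ (1 + 1) = 1 := XgMap_pow_nine w
    exact orderOf_eq_prime_pow h3 h9

end

end Cfsg.Agent.Lib.Helper5.Ree
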