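import Mathlib

/-!
# Abstract group theory for Ward's list (helper5)
-/

set_option autoImplicit false

namespace Cfsg.Agent.Lib.Helper5.Ree.WardAbs

section comm

variable {C : Type*} [CommGroup C] [Finite C]

/-- a subgroup of `C` killed by `4` has order dividing `4`, when `|C| = 4 n` with `n` odd -/
theorem card_dvd_four (n : ℕ) (hn : Odd n) (hcard : Nat.card C = 4 * n) (T : Subgroup C)
    (hT : ∀ x ∈ T, x ^ 4 = 1) : Nat.card T ∣ 4 := by
  have : Fact (Nat.Prime 2) := ⟨Nat.prime_two⟩
  have hp : IsPGroup 2 T := by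
    intro x
    refine ⟨2, ?_⟩
    apply Subtype.ext
    rw [Subgroup.coe_pow]
    exact hT x.1 x.2
  obtain ⟨k, hk⟩ := hp.exists_card_eq
  have hd : Nat.card T ∣ 4 * n := by
    rw [← hcard]
    exact Subgroup.card_subgroup_dvd_card T
  rw [hk] at hd ⊢
  have hco : Nat.Coprime (2 ^ k) n := by
    apply Nat.Coprime.pow_left
    rw [Nat.coprime_two_left]
    exact hn
  exact hco.dvd_of_dvd_mul_right hd

/-- the Hall subgroup of odd order `n` of a commutative group of order `4 n` -/
theorem card_ker_pow (n : ℕ) (hn : Odd n) (hcard : Nat.card C = 4 * n) :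
    Nat.card (powMonoidHom n : C →* C).ker = n := by
  have : Fact (Nat.Prime 2) := ⟨Nat.prime_two⟩
  set f : C →* C := powMonoidHom n with hf
  have h1 : Nat.card f.ker * Nat.card f.range = 4 * n := by
    rw [← hcard, ← Subgroup.index_ker, Subgroup.card_mul_index]
  have h2 : Nat.card f.range ∣ 4 := by
    apply card_dvd_four n hn hcard
    rintro y ⟨x, rfl⟩
    rw [hf, powMonoidHom_apply, ← pow_mul, mul_comm, ← hcard]
    exact pow_card_eq_one'
  have h3 : ¬ 2 ∣ Nat.card f.ker := by
    intro h
    obtain ⟨x, hx⟩ := exists_prime_orderOf_dvd_card' (G := f.ker) 2 h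
    have hx1 : (x : C) ^ n = 1 := by
      have := x.2
      rw [MonoidHom.mem_ker] at this
      exact this
    have hd : orderOf (x : C) ∣ n := orderOf_dvd_of_pow_eq_one hx1
    rw [Subgroup.orderOf_coe, hx] at hd
    rcases hn with ⟨j, rfl⟩
    omega
  have hco : Nat.Coprime 4 (Nat.card f.ker) := by
    have : (4 : ℕ) = 2 ^ 2 := by norm_num
    rw [this]
    apply Nat.Coprime.pow_left
    rw [Nat.coprime_two_left, ← Nat.not_even_iff_odd, even_iff_two_dvd]
    exact h3
  have h4 : 4 ∣ Nat.card f.range := by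
    apply hco.dvd_of_dvd_mul_left
    rw [h1]
    exact dvd_mul_right _ _
  have h5 : Nat.card f.range = 4 := Nat.dvd_antisymm h2 h4
  rw [h5, mul_comm] at h1
  exact Nat.eq_of_mul_eq_mul_left (by norm_num) h1

end comm

section cyc

variable {G : Type*} [Group G]

/-- a commutative subgroup all of whose relevant `p`-subgroups are cyclic is cyclic -/
theorem isCyclic_of_pgroups [Finite G] (D : Subgroup G)
    (hcomm : ∀ x ∈ D, ∀ y ∈ D, x * y = y * x)
    (h : ∀ p : ℕ, p.Prime → p ∣ Nat.card D → ∀ P : Subgroup G, IsPGroup p P → IsCyclic P) :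
    IsCyclic D := by
  have hc : IsMulCommutative D := ⟨⟨fun x y => Subtype.ext (hcomm x x.2 y y.2)⟩⟩
  have hz : IsZGroup D := by
    refine ⟨fun p hp P => ?_⟩
    have : Fact p.Prime := ⟨hp⟩
    by_cases hd : p ∣ Nat.card D
    · have hP : IsPGroup p ((P : Subgroup D).map D.subtype) := P.2.map _
      have hcyc := h p hp hd _ hP
      have e : (P : Subgroup D) ≃* ((P : Subgroup D).map D.subtype) :=
        (P : Subgroup D).equivMapOfInjective D.subtype D.subtype_injective
      exact isCyclic_of_injective e.toMonoidHom e.injective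
    · obtain ⟨k, hk⟩ := P.2.exists_card_eq
      have hdv : Nat.card (P : Subgroup D) ∣ Nat.card D := Subgroup.card_subgroup_dvd_card _
      have hk0 : k = 0 := by
        by_contra hk0
        apply hd
        rw [hk] at hdv
        exact (dvd_pow_self p hk0).trans hdv
      rw [hk0, pow_zero] at hk
      have : Subsingleton (P : Subgroup D) := (Nat.card_eq_one_iff_unique.1 hk).1
      exact isCyclic_of_subsingleton
  have hnil : Group.IsNilpotent D := by
    open scoped IsMulCommutative in
    exact CommGroup.isNilpotent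
  infer_instance

/-- an element normalising a cyclic subgroup normalises each of its subgroups -/
theorem conj_mem_of_cyclic (D : Subgroup G) (hD : IsCyclic D) (A₀ : Subgroup G) (hA : A₀ ≤ D)
    (g : G) (hg : ∀ x ∈ D, g * x * g⁻¹ ∈ D) : ∀ x ∈ A₀, g * x * g⁻¹ ∈ A₀ := by
  let σ : D →* D :=
    { toFun := fun x => ⟨g * x * g⁻¹, hg x x.2⟩
      map_one' := by
        apply Subtype.ext
        show g * (1 : G) * g⁻¹ = 1
        group
      map_mul' := by
        intro x y
        apply Subtype.ext
        show g * ((x : G) * y) * g⁻¹ = g * x * g⁻¹ * (g * y * g⁻¹)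
        group }
  obtain ⟨k, hk⟩ := MonoidHom.map_cyclic σ
  intro x hx
  have h1 := congrArg Subtype.val (hk ⟨x, hA hx⟩)
  have h2 : g * x * g⁻¹ = x ^ k := by
    rw [Subgroup.coe_zpow] at h1
    exact h1
  rw [h2]
  exact Subgroup.zpow_mem _ hx k

/-- an element mapping a finite subgroup into itself normalises it -/
theorem mem_normalizer_of_conj [Finite G] (E : Subgroup G) (g : G)
    (h : ∀ x ∈ E, g * x * g⁻¹ ∈ E) : g ∈ Subgroup.normalizer (E : Set G) := by
  rw [Subgroup.mem_normalizer_iff]
  intro x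
  constructor
  · exact h x
  · intro hx
    -- conjugation by `g` is an injective self-map of the finite set `E`
    let φ : E → E := fun y => ⟨g * y * g⁻¹, h y y.2⟩
    have hinj : Function.Injective φ := by
      intro y z e
      have e' : g * (y : G) * g⁻¹ = g * z * g⁻¹ := congrArg Subtype.val e
      apply Subtype.ext
      exact mul_left_cancel (mul_right_cancel e')
    obtain ⟨y, hy⟩ := (Finite.surjective_of_injective hinj) ⟨g * x * g⁻¹, hx⟩
    have e' : g * (y : G) * g⁻¹ = g * x * g⁻¹ := congrArg Subtype.val hy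
    have : (y : G) = x := mul_left_cancel (mul_right_cancel e')
    rw [← this]
    exact y.2

/-- a subgroup of `A` killed by `4` has order dividing `4`, when `|A| = 4 n` with `n` odd -/
theorem card_dvd_four' (A T : Subgroup G) [Finite A] (hTA : T ≤ A) (n : ℕ) (hn : Odd n)
    (hcard : Nat.card A = 4 * n) (hT : ∀ x ∈ T, x ^ 4 = 1) : Nat.card T ∣ 4 := by
  have : Fact (Nat.Prime 2) := ⟨Nat.prime_two⟩
  have hfin : Finite T := Finite.of_injective (Subgroup.inclusion hTA)
    (Subgroup.inclusion_injective hTA)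
  have hp : IsPGroup 2 T := by
    intro x
    refine ⟨2, ?_⟩
    apply Subtype.ext
    rw [Subgroup.coe_pow]
    exact hT x.1 x.2
  obtain ⟨k, hk⟩ := hp.exists_card_eq
  have hd : Nat.card T ∣ 4 * n := by
    rw [← hcard]
    exact Subgroup.card_dvd_of_le hTA
  rw [hk] at hd ⊢
  have hco : Nat.Coprime (2 ^ k) n := by
    apply Nat.Coprime.pow_left
    rw [Nat.coprime_two_left]
    exact hn
  exact hco.dvd_of_dvd_mul_right hd

/-- the Hall subgroup of odd order `n` of a commutative subgroup of order `4 n` -/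
theorem exists_hall (A : Subgroup G) [Finite A] (hcomm : ∀ x ∈ A, ∀ y ∈ A, x * y = y * x)
    (n : ℕ) (hn : Odd n) (hcard : Nat.card A = 4 * n) :
    ∃ D : Subgroup G, (∀ x, x ∈ D ↔ x ∈ A ∧ x ^ n = 1) ∧ Nat.card D = n := by
  have hc : IsMulCommutative A := ⟨⟨fun x y => Subtype.ext (hcomm x x.2 y y.2)⟩⟩
  open scoped IsMulCommutative in
  refine ⟨((powMonoidHom n : A →* A).ker).map A.subtype, ?_, ?_⟩
  · intro x
    rw [Subgroup.mem_map]
    constructor
    · rintro ⟨z, hz, rfl⟩
      refine ⟨z.2, ?_⟩
      rw [MonoidHom.mem_ker, powMonoidHom_apply] at hz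
      have := congrArg Subtype.val hz
      rw [Subgroup.coe_pow] at this
      exact this
    · rintro ⟨hxA, hxn⟩
      refine ⟨⟨x, hxA⟩, ?_, rfl⟩
      rw [MonoidHom.mem_ker, powMonoidHom_apply]
      apply Subtype.ext
      rw [Subgroup.coe_pow]
      exact hxn
  · rw [Subgroup.card_map_of_injective A.subtype_injective]
    exact card_ker_pow (C := A) n hn hcard

/-- the involutions of a commutative subgroup of order `4 n`, `n` odd -/
theorem invol_cases (A : Subgroup G) [Finite A] (hcomm : ∀ x ∈ A, ∀ y ∈ A, x * y = y * x)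
    (n : ℕ) (hn : Odd n) (hcard : Nat.card A = 4 * n) (a b : G) (ha : a ∈ A) (hb : b ∈ A)
    (ha2 : a * a = 1) (hb2 : b * b = 1) (ha1 : a ≠ 1) (hb1 : b ≠ 1) (hab : a ≠ b) :
    ∀ x ∈ A, x * x = 1 → x = 1 ∨ x = a ∨ x = b ∨ x = a * b := by
  let T : Subgroup G :=
    { carrier := {x | x ∈ A ∧ x * x = 1}
      mul_mem' := by
        rintro x y ⟨hx, hx2⟩ ⟨hy, hy2⟩
        refine ⟨A.mul_mem hx hy, ?_⟩
        have c : Commute x y := hcomm x hx y hy
        rw [c.symm.mul_mul_mul_comm, hx2, hy2, one_mul]
      one_mem' := ⟨A.one_mem, one_mul 1⟩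
      inv_mem' := by
        rintro x ⟨hx, hx2⟩
        refine ⟨A.inv_mem hx, ?_⟩
        rw [← mul_inv_rev, hx2, inv_one] }
  have hTA : T ≤ A := fun x hx => hx.1
  have hfin : Finite T := Finite.of_injective (Subgroup.inclusion hTA)
    (Subgroup.inclusion_injective hTA)
  have hT4 : Nat.card T ∣ 4 := by
    apply card_dvd_four' A T hTA n hn hcard
    rintro x ⟨-, hx2⟩
    calc x ^ 4 = (x * x) * (x * x) := by
          rw [← pow_two, ← pow_two, ← pow_mul]
      _ = 1 := by rw [hx2, one_mul]
  have hle : Set.ncard (T : Set G) ≤ 4 := Nat.le_of_dvd (by norm_num) hT4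
  have c : Commute a b := hcomm a ha b hb
  have hab2 : a * b * (a * b) = 1 := by
    rw [c.symm.mul_mul_mul_comm, ha2, hb2, one_mul]
  have hsub : ({1, a, b, a * b} : Set G) ⊆ (T : Set G) := by
    intro x hx
    simp only [Set.mem_insert_iff, Set.mem_singleton_iff] at hx
    rcases hx with rfl | rfl | rfl | rfl
    · exact T.one_mem
    · exact ⟨ha, ha2⟩
    · exact ⟨hb, hb2⟩
    · exact ⟨A.mul_mem ha hb, hab2⟩
  have h4 : Set.ncard ({1, a, b, a * b} : Set G) = 4 := by
    have d1 : (1 : G) ≠ a := fun h => ha1 h.symm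
    have d2 : (1 : G) ≠ b := fun h => hb1 h.symm
    have d3 : (1 : G) ≠ a * b := by
      intro h
      apply hab
      have : a * b = b * b := by rw [← h, hb2]
      exact mul_right_cancel this
    have d5 : a ≠ a * b := by
      intro h
      apply hb1
      have : a * 1 = a * b := by rw [mul_one]; exact h
      exact (mul_left_cancel this).symm
    have d6 : b ≠ a * b := by
      intro h
      apply ha1
      have : 1 * b = a * b := by rw [one_mul]; exact h
      exact (mul_right_cancel this).symm
    rw [Set.ncard_insert_of_notMem, Set.ncard_insert_of_notMem, Set.ncard_pair d6]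
    · simp [hab, d5]
    · simp [d1, d2, d3]
  have heq := Set.eq_of_subset_of_ncard_le hsub (by rw [h4]; exact hle) (Set.toFinite _)
  intro x hx hx2
  have : x ∈ (T : Set G) := ⟨hx, hx2⟩
  rw [← heq] at this
  simpa using this

/-- an element normalising a subset normalises its centraliser -/
theorem conj_mem_centralizer (D : Subgroup G) (g : G)
    (hg : g ∈ Subgroup.normalizer (D : Set G)) (x : G)
    (hx : x ∈ Subgroup.centralizer (D : Set G)) :
    g * x * g⁻¹ ∈ Subgroup.centralizer (D : Set G) := by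
  rw [Subgroup.mem_normalizer_iff] at hg
  rw [Subgroup.mem_centralizer_iff] at hx ⊢
  intro d hd
  have hd' : g⁻¹ * d * g ∈ D := by
    rw [hg]
    have : g * (g⁻¹ * d * g) * g⁻¹ = d := by group
    rw [this]
    exact hd
  have h1 := hx _ hd'
  calc d * (g * x * g⁻¹) = g * ((g⁻¹ * d * g) * x) * g⁻¹ := by group
    _ = g * (x * (g⁻¹ * d * g)) * g⁻¹ := by rw [h1]
    _ = g * x * g⁻¹ * d := by group

end cyc

end Cfsg.Agent.Lib.Helper5.Ree.WardAbs
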