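import Mathlib

/-!
# The Diophantine step of Ward's count for the small Ree groups (helper5)

Pure arithmetic.  `q = 3^(2m+1)`, `r = 3^(m+1)`, `N = q (q - 1) + 1`,
`Gc = q³ (q - 1) (q³ + 1)`, and `T` with `3 N T = Gc · q (q - 2)`.
-/

set_option autoImplicit false

namespace Cfsg.Agent.Lib.Helper5.Ree.WardArith

theorem dvd_six {w : ℕ} (hw : w ∣ 6) : w = 1 ∨ w = 2 ∨ w = 3 ∨ w = 6 := by
  have h6 := Nat.le_of_dvd (by norm_num) hw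
  interval_cases w <;> revert hw <;> decide

/-- a class with `w ≤ k` contributes at least `4 Gc / (5 k)` -/
theorem class_lower_gen {Gc a w m₁ k : ℕ} (h5 : 5 ≤ m₁) (hw0 : 0 < w) (hwk : w ≤ k)
    (h : a * (w * m₁) = Gc * (m₁ - 1)) : 4 * Gc ≤ 5 * k * a := by
  have h45 : 4 * m₁ ≤ 5 * (m₁ - 1) := by omega
  have hpos : 0 < w * m₁ := Nat.mul_pos hw0 (by omega)
  have hmain : 4 * Gc * (w * m₁) ≤ 5 * k * a * (w * m₁) := by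
    calc 4 * Gc * (w * m₁) = Gc * w * (4 * m₁) := by ring
      _ ≤ Gc * w * (5 * (m₁ - 1)) := Nat.mul_le_mul_left _ h45
      _ ≤ Gc * k * (5 * (m₁ - 1)) :=
          Nat.mul_le_mul_right _ (Nat.mul_le_mul_left _ hwk)
      _ = 5 * k * (Gc * (m₁ - 1)) := by ring
      _ = 5 * k * (a * (w * m₁)) := by rw [h]
      _ = 5 * k * a * (w * m₁) := by ring
  exact Nat.le_of_mul_le_mul_right hmain hpos

/-- (A0) -/
theorem class_lower {Gc a w m₁ : ℕ} (h5 : 5 ≤ m₁) (hw : w ∣ 6)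
    (h : a * (w * m₁) = Gc * (m₁ - 1)) : 2 * Gc ≤ 15 * a := by
  have hw0 : 0 < w := Nat.pos_of_dvd_of_pos hw (by norm_num)
  have hw6 : w ≤ 6 := Nat.le_of_dvd (by norm_num) hw
  have := class_lower_gen h5 hw0 hw6 h
  omega

section gen

variable {q N Gc T : ℕ}

theorem three_T_lt (hq : 3 ≤ q) (hN : N = q * (q - 1) + 1) (hGc : 0 < Gc)
    (hT : 3 * N * T = Gc * (q * (q - 2))) : 3 * T < Gc := by
  have hlt : q * (q - 2) < N := by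
    rw [hN]
    have : q * (q - 2) ≤ q * (q - 1) := Nat.mul_le_mul_left _ (by omega)
    omega
  have h1 : 3 * T * N < Gc * N := by
    calc 3 * T * N = 3 * N * T := by ring
      _ = Gc * (q * (q - 2)) := hT
      _ < Gc * N := Nat.mul_lt_mul_of_pos_left hlt hGc
  exact Nat.lt_of_mul_lt_mul_right h1

/-- (A1), general form -/
theorem three_classes_false_gen (hq : 3 ≤ q) (hN : N = q * (q - 1) + 1) (hGc : 0 < Gc)
    (hT : 3 * N * T = Gc * (q * (q - 2))) {a₁ a₂ a₃ : ℕ} (h1 : 2 * Gc ≤ 15 * a₁)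
    (h2 : 2 * Gc ≤ 15 * a₂) (h3 : 2 * Gc ≤ 15 * a₃) (hsum : a₁ + a₂ + a₃ ≤ T) : False := by
  have := three_T_lt hq hN hGc hT
  omega

/-- (A2), general form -/
theorem one_class_false_gen (hq : 4 ≤ q) (hN : N = q * (q - 1) + 1) (hGc : 0 < Gc)
    (hT : 3 * N * T = Gc * (q * (q - 2))) {w : ℕ} (hw : w ∣ 6)
    (h : T * (w * N) = Gc * (N - 1)) : False := by
  have hN1 : N - 1 = q * (q - 1) := by
    rw [hN]
    omega
  rw [hN1] at h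
  have e : Gc * q * ((q - 2) * w) = Gc * q * (3 * (q - 1)) := by
    calc Gc * q * ((q - 2) * w) = (Gc * (q * (q - 2))) * w := by ring
      _ = 3 * N * T * w := by rw [hT]
      _ = 3 * (T * (w * N)) := by ring
      _ = 3 * (Gc * (q * (q - 1))) := by rw [h]
      _ = Gc * q * (3 * (q - 1)) := by ring
  have hpos : 0 < Gc * q := Nat.mul_pos hGc (by omega)
  have e2 : (q - 2) * w = 3 * (q - 1) := Nat.eq_of_mul_eq_mul_left hpos e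
  rcases dvd_six hw with rfl | rfl | rfl | rfl <;> omega

/-- (A3), general form -/
theorem two_classes_gen {r : ℕ} (hq : 4 ≤ q) (hr : r * r = 3 * q) (hrq : r ≤ q)
    (hN : N = q * (q - 1) + 1) (hGc : 0 < Gc)
    (hT : 3 * N * T = Gc * (q * (q - 2))) {m₁ m₂ w₁ w₂ a₁ a₂ : ℕ} (hmm : m₁ * m₂ = N)
    (h51 : 5 ≤ m₁) (h52 : 5 ≤ m₂) (hw1 : w₁ ∣ 6) (hw2 : w₂ ∣ 6)
    (h1 : a₁ * (w₁ * m₁) = Gc * (m₁ - 1)) (h2 : a₂ * (w₂ * m₂) = Gc * (m₂ - 1))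
    (hsum : a₁ + a₂ = T) :
    w₁ = 6 ∧ w₂ = 6 ∧ ((m₁ = q - r + 1 ∧ m₂ = q + r + 1) ∨ (m₁ = q + r + 1 ∧ m₂ = q - r + 1)) := by
  have h3T := three_T_lt (by omega) hN hGc hT
  have hw10 : 0 < w₁ := Nat.pos_of_dvd_of_pos hw1 (by norm_num)
  have hw20 : 0 < w₂ := Nat.pos_of_dvd_of_pos hw2 (by norm_num)
  have hw16 : w₁ ≤ 6 := Nat.le_of_dvd (by norm_num) hw1
  have hw26 : w₂ ≤ 6 := Nat.le_of_dvd (by norm_num) hw2
  have l1 := class_lower_gen h51 hw10 hw16 h1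
  have l2 := class_lower_gen h52 hw20 hw26 h2
  have hw1' : w₁ = 6 := by
    rcases dvd_six hw1 with h | h | h | h
    · have := class_lower_gen h51 hw10 (by omega : w₁ ≤ 2) h1
      omega
    · have := class_lower_gen h51 hw10 (by omega : w₁ ≤ 2) h1
      omega
    · have := class_lower_gen h51 hw10 (by omega : w₁ ≤ 3) h1
      omega
    · exact h
  have hw2' : w₂ = 6 := by
    rcases dvd_six hw2 with h | h | h | h
    · have := class_lower_gen h52 hw20 (by omega : w₂ ≤ 2) h2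
      omega
    · have := class_lower_gen h52 hw20 (by omega : w₂ ≤ 2) h2
      omega
    · have := class_lower_gen h52 hw20 (by omega : w₂ ≤ 3) h2
      omega
    · exact h
  refine ⟨hw1', hw2', ?_⟩
  subst hw1' hw2'
  -- `m₁ + m₂ = 2 (q + 1)`
  have hq1 : q - 1 + 1 = q := by omega
  have hq2 : q - 2 + 2 = q := by omega
  have e : Gc * ((m₁ - 1) * m₂ + (m₂ - 1) * m₁) = Gc * (2 * (q * (q - 2))) := by
    calc Gc * ((m₁ - 1) * m₂ + (m₂ - 1) * m₁)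
        = (Gc * (m₁ - 1)) * m₂ + (Gc * (m₂ - 1)) * m₁ := by ring
      _ = a₁ * (6 * m₁) * m₂ + a₂ * (6 * m₂) * m₁ := by rw [h1, h2]
      _ = 2 * (3 * (m₁ * m₂) * (a₁ + a₂)) := by ring
      _ = 2 * (3 * N * T) := by rw [hmm, hsum]
      _ = Gc * (2 * (q * (q - 2))) := by rw [hT]; ring
  have e2 : (m₁ - 1) * m₂ + (m₂ - 1) * m₁ = 2 * (q * (q - 2)) :=
    Nat.eq_of_mul_eq_mul_left hGc e
  -- move to the integers
  have hsumZ : (m₁ : ℤ) + m₂ = 2 * q + 2 := by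
    have e3 : ((m₁ : ℤ) - 1) * m₂ + ((m₂ : ℤ) - 1) * m₁ = 2 * ((q : ℤ) * ((q : ℤ) - 2)) := by
      have := congrArg (Nat.cast : ℕ → ℤ) e2
      push_cast [Nat.cast_sub (by omega : 1 ≤ m₁), Nat.cast_sub (by omega : 1 ≤ m₂),
        Nat.cast_sub (by omega : 2 ≤ q)] at this
      exact this
    have e4 : (m₁ : ℤ) * m₂ = (q : ℤ) * ((q : ℤ) - 1) + 1 := by
      have := congrArg (Nat.cast : ℕ → ℤ) (hmm.trans hN)
      push_cast [Nat.cast_sub (by omega : 1 ≤ q)] at this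
      exact this
    linear_combination (-1 : ℤ) * e3 + 2 * e4
  have hprodZ : (m₁ : ℤ) * m₂ = (q : ℤ) * ((q : ℤ) - 1) + 1 := by
    have := congrArg (Nat.cast : ℕ → ℤ) (hmm.trans hN)
    push_cast [Nat.cast_sub (by omega : 1 ≤ q)] at this
    exact this
  have hrZ : (r : ℤ) * r = 3 * q := by exact_mod_cast hr
  -- `(m₁ - m₂)² = (2 r)²`
  have hsq : ((m₁ : ℤ) - m₂ - 2 * r) * ((m₁ : ℤ) - m₂ + 2 * r) = 0 := by
    have : ((m₁ : ℤ) - m₂) ^ 2 = ((m₁ : ℤ) + m₂) ^ 2 - 4 * ((m₁ : ℤ) * m₂) := by ring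
    have h4 : ((m₁ : ℤ) - m₂) ^ 2 = 4 * ((r : ℤ) * r) := by
      rw [this, hsumZ, hprodZ, hrZ]
      ring
    linear_combination h4
  rcases mul_eq_zero.1 hsq with h | h
  · right
    constructor <;> omega
  · left
    constructor <;> omega

end gen

section spec

variable {m : ℕ}

theorem q_ge (hm : 1 ≤ m) : 27 ≤ 3 ^ (2 * m + 1) := by
  have : 3 ^ (2 * 1 + 1) ≤ 3 ^ (2 * m + 1) := Nat.pow_le_pow_right (by norm_num) (by omega)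
  omega

theorem r_sq (m : ℕ) : 3 ^ (m + 1) * 3 ^ (m + 1) = 3 * 3 ^ (2 * m + 1) := by
  rw [← pow_add, ← pow_succ']
  congr 1
  ring

theorem r_le (hm : 1 ≤ m) : 3 ^ (m + 1) ≤ 3 ^ (2 * m + 1) :=
  Nat.pow_le_pow_right (by norm_num) (by omega)

theorem Gc_pos (hm : 1 ≤ m) :
    0 < (3 ^ (2 * m + 1)) ^ 3 * (3 ^ (2 * m + 1) - 1) * ((3 ^ (2 * m + 1)) ^ 3 + 1) := by
  have := q_ge hm
  have h1 : 0 < (3 ^ (2 * m + 1)) ^ 3 := by positivity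
  have h2 : 0 < 3 ^ (2 * m + 1) - 1 := by omega
  positivity

/-- (A1) -/
theorem three_classes_false (hm : 1 ≤ m) {T a₁ a₂ a₃ : ℕ}
    (hT : 3 * (3 ^ (2 * m + 1) * (3 ^ (2 * m + 1) - 1) + 1) * T
      = (3 ^ (2 * m + 1)) ^ 3 * (3 ^ (2 * m + 1) - 1) * ((3 ^ (2 * m + 1)) ^ 3 + 1)
        * (3 ^ (2 * m + 1) * (3 ^ (2 * m + 1) - 2)))
    (h1 : 2 * ((3 ^ (2 * m + 1)) ^ 3 * (3 ^ (2 * m + 1) - 1) * ((3 ^ (2 * m + 1)) ^ 3 + 1))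
      ≤ 15 * a₁)
    (h2 : 2 * ((3 ^ (2 * m + 1)) ^ 3 * (3 ^ (2 * m + 1) - 1) * ((3 ^ (2 * m + 1)) ^ 3 + 1))
      ≤ 15 * a₂)
    (h3 : 2 * ((3 ^ (2 * m + 1)) ^ 3 * (3 ^ (2 * m + 1) - 1) * ((3 ^ (2 * m + 1)) ^ 3 + 1))
      ≤ 15 * a₃)
    (hsum : a₁ + a₂ + a₃ ≤ T) : False :=
  three_classes_false_gen (by have := q_ge hm; omega) rfl (Gc_pos hm) hT h1 h2 h3 hsum

/-- (A2) -/
theorem one_class_false (hm : 1 ≤ m) {T w : ℕ}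
    (hT : 3 * (3 ^ (2 * m + 1) * (3 ^ (2 * m + 1) - 1) + 1) * T
      = (3 ^ (2 * m + 1)) ^ 3 * (3 ^ (2 * m + 1) - 1) * ((3 ^ (2 * m + 1)) ^ 3 + 1)
        * (3 ^ (2 * m + 1) * (3 ^ (2 * m + 1) - 2)))
    (hw : w ∣ 6)
    (h : T * (w * (3 ^ (2 * m + 1) * (3 ^ (2 * m + 1) - 1) + 1))
      = (3 ^ (2 * m + 1)) ^ 3 * (3 ^ (2 * m + 1) - 1) * ((3 ^ (2 * m + 1)) ^ 3 + 1)
        * (3 ^ (2 * m + 1) * (3 ^ (2 * m + 1) - 1) + 1 - 1)) : False :=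
  one_class_false_gen (by have := q_ge hm; omega) rfl (Gc_pos hm) hT hw h

/-- (A3) -/
theorem two_classes (hm : 1 ≤ m) {T m₁ m₂ w₁ w₂ a₁ a₂ : ℕ}
    (hT : 3 * (3 ^ (2 * m + 1) * (3 ^ (2 * m + 1) - 1) + 1) * T
      = (3 ^ (2 * m + 1)) ^ 3 * (3 ^ (2 * m + 1) - 1) * ((3 ^ (2 * m + 1)) ^ 3 + 1)
        * (3 ^ (2 * m + 1) * (3 ^ (2 * m + 1) - 2)))
    (hmm : m₁ * m₂ = 3 ^ (2 * m + 1) * (3 ^ (2 * m + 1) - 1) + 1)
    (h51 : 5 ≤ m₁) (h52 : 5 ≤ m₂) (hw1 : w₁ ∣ 6) (hw2 : w₂ ∣ 6)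
    (h1 : a₁ * (w₁ * m₁)
      = (3 ^ (2 * m + 1)) ^ 3 * (3 ^ (2 * m + 1) - 1) * ((3 ^ (2 * m + 1)) ^ 3 + 1) * (m₁ - 1))
    (h2 : a₂ * (w₂ * m₂)
      = (3 ^ (2 * m + 1)) ^ 3 * (3 ^ (2 * m + 1) - 1) * ((3 ^ (2 * m + 1)) ^ 3 + 1) * (m₂ - 1))
    (hsum : a₁ + a₂ = T) :
    w₁ = 6 ∧ w₂ = 6 ∧
      ((m₁ = 3 ^ (2 * m + 1) - 3 ^ (m + 1) + 1 ∧ m₂ = 3 ^ (2 * m + 1) + 3 ^ (m + 1) + 1) ∨
        (m₁ = 3 ^ (2 * m + 1) + 3 ^ (m + 1) + 1 ∧ m₂ = 3 ^ (2 * m + 1) - 3 ^ (m + 1) + 1)) :=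
  two_classes_gen (by have := q_ge hm; omega) (r_sq m) (r_le hm) rfl (Gc_pos hm) hT hmm h51 h52
    hw1 hw2 h1 h2 hsum

end spec

end Cfsg.Agent.Lib.Helper5.Ree.WardArith
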