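import Cfsg.Agent.Lib.Helper5.Ree.WardC2
import Mathlib

/-!
# Small Ree groups: the totals `|X_H|` and `|X_A|` of Ward's count (helper5)
-/

set_option autoImplicit false
set_option maxRecDepth 100000

namespace Cfsg.Agent.Lib.Helper5.Ree

open Cfsg.Lie Cfsg.Agent.Lib.Helper5.Chev Cfsg.Agent.Lib.Helper5.GA Cfsg.Agent.Lib.Helper5.Tw
open Cfsg.Agent.Lib.Helper5.Frob Cfsg.Agent.Lib.Helper5.SL2P Cfsg.Agent.Lib.Helper5.Ree
open Cfsg.Agent.ReeL Cfsg.Agent.ReeTor Cfsg.Agent.Lib.Helper8.ReeSyl Cfsg.Agent.ReeCount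

section abs

variable {G : Type*} [Group G]

theorem conj_mul_self_ne (g x : G) (hx : x * x ≠ 1) : (g * x * g⁻¹) * (g * x * g⁻¹) ≠ 1 := by
  intro h
  apply hx
  have : x * x = g⁻¹ * ((g * x * g⁻¹) * (g * x * g⁻¹)) * g := by group
  rw [this, h]
  group

theorem orderOf_conj' (g x : G) : orderOf (g * x * g⁻¹) = orderOf x := by
  have := (MulAut.conj g).orderOf_eq x
  rwa [MulAut.conj_apply] at this

/-- an element with `x² ≠ 1` of a finite group has order `> 2` -/
theorem two_lt_orderOf [Finite G] (x : G) (hx : x * x ≠ 1) : 2 < orderOf x := by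
  have h0 : 0 < orderOf x := orderOf_pos x
  have h1 : orderOf x ≠ 1 := by
    intro h
    rw [orderOf_eq_one_iff] at h
    apply hx
    rw [h, one_mul]
  have h2 : orderOf x ≠ 2 := by
    intro h
    apply hx
    have := pow_orderOf_eq_one x
    rwa [h, pow_two] at this
  omega

/-- an element whose order is divisible by an odd prime does not square to one -/
theorem mul_self_ne_of_prime_dvd (x : G) (p : ℕ) (hp : 2 < p) (hpd : p ∣ orderOf x) :
    x * x ≠ 1 := by
  intro h
  have h2 : orderOf x ∣ 2 := orderOf_dvd_of_pow_eq_one (by rw [pow_two]; exact h)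
  have := Nat.le_of_dvd (by norm_num) (hpd.trans h2)
  omega

end abs

section ree

variable {K : Type*} [Field K] [Fintype K] [CharP K 3] {m : ℕ}

/-- the total `|X_A|`: elements whose order is divisible by a prime divisor of `(q + 1) / 4` -/
theorem card_XA_aux (hK : Fintype.card K = 3 ^ (2 * m + 1)) (hm : 1 ≤ m) :
    Nat.card {g : ↥(twistedG2 K (3 ^ m)) //
        ∃ s : ℕ, s.Prime ∧ s ∣ (3 ^ (2 * m + 1) + 1) / 4 ∧ s ∣ orderOf g}
      * (6 * (3 ^ (2 * m + 1) + 1))
      = Nat.card ↥(twistedG2 K (3 ^ m)) * (3 ^ (2 * m + 1) - 3) := by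
  have hfin := finite_twisted (K := K) (m := m) hK
  obtain ⟨A, D, hcomm, hcardA, hexp, haA, hbA, hinvA, hDmem, hDcyc, hDcard, hcent, hcardN, hNA⟩ :=
    quarter_torus hK hm
  have hq8 := q_mod8 m
  have h3 : 3 ^ 1 ≤ 3 ^ (2 * m + 1) := Nat.pow_le_pow_right (by norm_num) (by omega)
  obtain ⟨n, hn⟩ : ∃ n, n = (3 ^ (2 * m + 1) + 1) / 4 := ⟨_, rfl⟩
  have hn4 : 3 ^ (2 * m + 1) + 1 = 4 * n := by omega
  have hn2 : (3 ^ (2 * m + 1) + 1) / 2 = 2 * n := by omega
  have hnodd : Odd n := by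
    rw [Nat.odd_iff]
    omega
  rw [← hn] at hDmem hDcard
  rw [hn2] at hexp
  -- the set `S = A ∖ V`
  obtain ⟨S, hSdef⟩ : ∃ S : Set ↥(twistedG2 K (3 ^ m)), S = {x | x ∈ A ∧ x * x ≠ 1} := ⟨_, rfl⟩
  have hSmem : ∀ x, x ∈ S ↔ x ∈ A ∧ x * x ≠ 1 := by
    intro x
    rw [hSdef]
    rfl
  -- the fourth power of an element of `S`
  have hfour : ∀ x ∈ S, x ^ 4 ∈ D ∧ x ^ 4 ≠ 1 := by
    intro x hx
    obtain ⟨hxA, hx2⟩ := (hSmem x).1 hx
    constructor
    · rw [hDmem]
      refine ⟨A.pow_mem hxA 4, ?_⟩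
      rw [← pow_mul, ← hn4, ← hcardA]
      have := pow_card_eq_one' (G := A) (x := ⟨x, hxA⟩)
      have h' := congrArg Subtype.val this
      rw [Subgroup.coe_pow] at h'
      exact h'
    · intro h4
      apply hx2
      have hg : x ^ (Nat.gcd 4 (2 * n)) = 1 := pow_gcd_eq_one.2 ⟨h4, hexp x hxA⟩
      have hgcd : Nat.gcd 4 (2 * n) = 2 := by
        have e : (4 : ℕ) = 2 * 2 := by norm_num
        rw [e, Nat.gcd_mul_left]
        have : Nat.gcd 2 n = 1 := by
          rw [← Nat.coprime_iff_gcd_eq_one, Nat.coprime_two_left]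
          exact hnodd
        rw [this]
      rw [hgcd, pow_two] at hg
      exact hg
  have hN : ∀ k ∈ Subgroup.normalizer (D : Set ↥(twistedG2 K (3 ^ m))), ∀ x ∈ S,
      k * x * k⁻¹ ∈ S := by
    intro k hk x hx
    obtain ⟨hxA, hx2⟩ := (hSmem x).1 hx
    rw [← hNA] at hk
    rw [hSmem]
    exact ⟨(Subgroup.mem_normalizer_iff.1 hk x).1 hxA, conj_mul_self_ne k x hx2⟩
  have hS : ∀ g x, x ∈ S → g * x * g⁻¹ ∈ S →
      g ∈ Subgroup.normalizer (D : Set ↥(twistedG2 K (3 ^ m))) := by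
    intro g x hx hgx
    obtain ⟨h1, h2⟩ := hfour x hx
    obtain ⟨h1', h2'⟩ := hfour _ hgx
    rw [conj_pow] at h1' h2'
    rw [← hNA]
    exact mem_normalizer_of_centralizer A (x ^ 4) g
      (hcent (Subgroup.zpowers (x ^ 4)) (by rw [Subgroup.zpowers_le]; exact h1)
        (zpowers_ne_bot_of_ne_one _ h2))
      (hcent (Subgroup.zpowers (g * x ^ 4 * g⁻¹)) (by rw [Subgroup.zpowers_le]; exact h1')
        (zpowers_ne_bot_of_ne_one _ h2'))
  have key := card_conj_union (Subgroup.normalizer (D : Set ↥(twistedG2 K (3 ^ m)))) S hN hS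
  -- the cardinality of `S`
  have hab : aG K m ≠ bG K m := aG_ne_of_sq hK _ (bG_sq hK)
  have hcab : aG K m * bG K m = bG K m * aG K m := (aG_comm hK _).eq
  have hab1 : aG K m * bG K m ≠ 1 := by
    unfold bG
    exact aG_mul_ne hK _
  have habsq : aG K m * bG K m * (aG K m * bG K m) = 1 := by
    have c : Commute (aG K m) (bG K m) := hcab
    rw [c.symm.mul_mul_mul_comm, aG_sq, bG_sq hK, one_mul]
  have hcardS : Nat.card S = 3 ^ (2 * m + 1) - 3 := by
    have hSV : S = (A : Set ↥(twistedG2 K (3 ^ m))) \ {1, aG K m, bG K m, aG K m * bG K m} := by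
      ext x
      rw [hSmem]
      constructor
      · rintro ⟨hxA, hx2⟩
        refine ⟨hxA, ?_⟩
        intro hV
        simp only [Set.mem_insert_iff, Set.mem_singleton_iff] at hV
        apply hx2
        rcases hV with rfl | rfl | rfl | rfl
        · exact one_mul 1
        · exact aG_sq
        · exact bG_sq hK
        · exact habsq
      · rintro ⟨hxA, hV⟩
        refine ⟨hxA, ?_⟩
        intro hx2
        apply hV
        simp only [Set.mem_insert_iff, Set.mem_singleton_iff]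
        exact hinvA x hxA hx2
    have hVsub : ({1, aG K m, bG K m, aG K m * bG K m} : Set ↥(twistedG2 K (3 ^ m)))
        ⊆ (A : Set ↥(twistedG2 K (3 ^ m))) := by
      intro x hx
      simp only [Set.mem_insert_iff, Set.mem_singleton_iff] at hx
      rcases hx with rfl | rfl | rfl | rfl
      · exact A.one_mem
      · exact haA
      · exact hbA
      · exact A.mul_mem haA hbA
    have h4 : Set.ncard ({1, aG K m, bG K m, aG K m * bG K m} : Set ↥(twistedG2 K (3 ^ m)))
        = 4 := by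
      apply ncard_four _ _ _ _ (fun h => aG_ne_one hK h.symm) (fun h => bG_ne_one hK h.symm)
        (fun h => hab1 h.symm) hab
      · intro h
        apply bG_ne_one (K := K) (m := m) hK
        have : aG K m * 1 = aG K m * bG K m := by rw [mul_one]; exact h
        exact (mul_left_cancel this).symm
      · intro h
        apply aG_ne_one (K := K) (m := m) hK
        have : 1 * bG K m = aG K m * bG K m := by rw [one_mul]; exact h
        exact (mul_right_cancel this).symm
    rw [Nat.card_coe_set_eq, hSV, Set.ncard_sdiff hVsub, h4]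
    have : Set.ncard (A : Set ↥(twistedG2 K (3 ^ m))) = 3 ^ (2 * m + 1) + 1 := hcardA
    rw [this]
    omega
  rw [hcardN, hcardS] at key
  rw [← key]
  congr 1
  apply Nat.card_congr
  refine Equiv.subtypeEquivRight ?_
  intro y
  constructor
  · rintro ⟨s, hs, hsn, hsy⟩
    obtain ⟨h, hh⟩ := quarter_conj hK A D (by rw [hDcard, hn]) hcent y s hs hsn hsy
    have hs3 : 3 < s := prime_gt_three_of_dvd_quarter hs hsn
    refine ⟨h, h⁻¹ * y * h, (hSmem _).2 ⟨hh, ?_⟩, by group⟩
    apply mul_self_ne_of_prime_dvd _ s (by omega)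
    have := orderOf_conj' h⁻¹ y
    rw [inv_inv] at this
    rw [this]
    exact hsy
  · rintro ⟨g, x, hx, rfl⟩
    obtain ⟨hxA, hx2⟩ := (hSmem x).1 hx
    have hj : orderOf x ∣ 2 * n := orderOf_dvd_of_pow_eq_one (hexp x hxA)
    obtain ⟨p, hp, -, hpj, hpn⟩ := exists_odd_prime_dvd (orderOf x) n (two_lt_orderOf x hx2)
      hnodd hj
    refine ⟨p, hp, by rw [← hn]; exact hpn, ?_⟩
    rw [orderOf_conj']
    exact hpj

/-- the total `|X_H|`: elements whose order is divisible by a prime divisor of `(q - 1) / 2` -/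
theorem card_XH_aux (hK : Fintype.card K = 3 ^ (2 * m + 1)) :
    Nat.card {g : ↥(twistedG2 K (3 ^ m)) //
        ∃ s : ℕ, s.Prime ∧ s ∣ (3 ^ (2 * m + 1) - 1) / 2 ∧ s ∣ orderOf g}
      * (2 * (3 ^ (2 * m + 1) - 1))
      = Nat.card ↥(twistedG2 K (3 ^ m)) * (3 ^ (2 * m + 1) - 3) := by
  have hfin := finite_twisted (K := K) (m := m) hK
  have hq8 := q_mod8 m
  have h3 : 3 ^ 1 ≤ 3 ^ (2 * m + 1) := Nat.pow_le_pow_right (by norm_num) (by omega)
  obtain ⟨N', hN'⟩ : ∃ N', N' = (3 ^ (2 * m + 1) - 1) / 2 := ⟨_, rfl⟩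
  have hq2 : 3 ^ (2 * m + 1) - 1 = 2 * N' := by omega
  have hN'odd : Odd N' := by
    rw [Nat.odd_iff]
    omega
  have hcardH := card_HH1 (K := K) (m := m) hK
  obtain ⟨S, hSdef⟩ : ∃ S : Set ↥(twistedG2 K (3 ^ m)), S = {x | x ∈ HH1 K m ∧ x * x ≠ 1} :=
    ⟨_, rfl⟩
  have hSmem : ∀ x, x ∈ S ↔ x ∈ HH1 K m ∧ x * x ≠ 1 := by
    intro x
    rw [hSdef]
    rfl
  have hN : ∀ k ∈ NN1 K m, ∀ x ∈ S, k * x * k⁻¹ ∈ S := by
    intro k hk x hx
    obtain ⟨hxH, hx2⟩ := (hSmem x).1 hx
    rw [hSmem]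
    exact ⟨NN1_conj_mem hK (HH1 K m) le_rfl k hk x hxH, conj_mul_self_ne k x hx2⟩
  have hS : ∀ g x, x ∈ S → g * x * g⁻¹ ∈ S → g ∈ NN1 K m := by
    intro g x hx hgx
    obtain ⟨hxH, hx2⟩ := (hSmem x).1 hx
    obtain ⟨hgH, -⟩ := (hSmem _).1 hgx
    obtain ⟨μ, hμ⟩ := (mem_diag_twisted_iff hK _).1 ⟨(mem_HH1 _).1 hxH, x.2⟩
    have hμ2 : μ * μ ≠ 1 := by
      intro h
      apply hx2
      apply Subtype.ext
      show (x : GL chevG2.Idx K) * (x : GL chevG2.Idx K) = 1
      rw [← hμ, ← map_mul, h, map_one]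
    have hodd : Odd (orderOf (μ * μ)) := by
      have hpw : (μ * μ) ^ N' = 1 := by
        classical
        rw [← pow_two, ← pow_mul, ← hq2, ← hK, ← Fintype.card_units, ← Nat.card_eq_fintype_card]
        exact pow_card_eq_one'
      exact hN'odd.of_dvd_nat (orderOf_dvd_of_pow_eq_one hpw)
    rw [mem_NN1]
    apply mono_of_conj_tauT hK (μ * μ) hμ2 hodd _ g.2
    have hsq : (g * x * g⁻¹) * (g * x * g⁻¹) ∈ HH1 K m := Subgroup.mul_mem _ hgH hgH
    have hd := (mem_HH1 _).1 hsq
    have e : (((g * x * g⁻¹) * (g * x * g⁻¹) : ↥(twistedG2 K (3 ^ m))) : GL chevG2.Idx K)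
        = (g : GL chevG2.Idx K) * tauT K m (μ * μ) * (g : GL chevG2.Idx K)⁻¹ := by
      rw [map_mul, hμ]
      show (g : GL chevG2.Idx K) * (x : GL chevG2.Idx K) * (g : GL chevG2.Idx K)⁻¹
        * ((g : GL chevG2.Idx K) * (x : GL chevG2.Idx K) * (g : GL chevG2.Idx K)⁻¹) = _
      group
    rw [e] at hd
    exact hd
  have key := card_conj_union (NN1 K m) S hN hS
  -- the cardinality of `S`
  have haH : aG K m ∈ HH1 K m := (mem_HH1 _).2 zz_mem_diag
  have hcardS : Nat.card S = 3 ^ (2 * m + 1) - 3 := by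
    have hSV : S = (HH1 K m : Set ↥(twistedG2 K (3 ^ m))) \ {1, aG K m} := by
      ext x
      rw [hSmem]
      constructor
      · rintro ⟨hxH, hx2⟩
        refine ⟨hxH, ?_⟩
        intro hV
        simp only [Set.mem_insert_iff, Set.mem_singleton_iff] at hV
        apply hx2
        rcases hV with rfl | rfl
        · exact one_mul 1
        · exact aG_sq
      · rintro ⟨hxH, hV⟩
        refine ⟨hxH, ?_⟩
        intro hx2
        apply hV
        simp only [Set.mem_insert_iff, Set.mem_singleton_iff]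
        obtain ⟨μ, hμ⟩ := (mem_diag_twisted_iff hK _).1 ⟨(mem_HH1 _).1 hxH, x.2⟩
        have h1 : tauT K m (μ * μ) = 1 := by
          rw [map_mul, hμ]
          exact congrArg Subtype.val hx2
        have h2 : μ * μ = 1 := tauT_injective (K := K) (m := m) (h1.trans (map_one _).symm)
        have h3' : ((μ : K) - 1) * ((μ : K) + 1) = 0 := by
          have := congrArg Units.val h2
          rw [Units.val_mul, Units.val_one] at this
          linear_combination this
        rcases mul_eq_zero.1 h3' with h | h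
        · left
          have hμ1 : μ = 1 := Units.ext (by rw [Units.val_one]; linear_combination h)
          apply Subtype.ext
          rw [← hμ, hμ1, map_one]
          rfl
        · right
          have hμ1 : μ = -1 := Units.ext (by
            rw [Units.val_neg, Units.val_one]
            linear_combination h)
          apply Subtype.ext
          rw [← hμ, hμ1]
          rfl
    have hVsub : ({1, aG K m} : Set ↥(twistedG2 K (3 ^ m)))
        ⊆ (HH1 K m : Set ↥(twistedG2 K (3 ^ m))) := by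
      intro x hx
      simp only [Set.mem_insert_iff, Set.mem_singleton_iff] at hx
      rcases hx with rfl | rfl
      · exact Subgroup.one_mem _
      · exact haH
    have h2 : Set.ncard ({1, aG K m} : Set ↥(twistedG2 K (3 ^ m))) = 2 :=
      Set.ncard_pair (fun h => aG_ne_one hK h.symm)
    rw [Nat.card_coe_set_eq, hSV, Set.ncard_sdiff hVsub, h2]
    have : Set.ncard (HH1 K m : Set ↥(twistedG2 K (3 ^ m))) = 3 ^ (2 * m + 1) - 1 := hcardH
    rw [this]
    omega
  rw [card_NN1 hK, hcardS] at key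
  rw [← key]
  congr 1
  apply Nat.card_congr
  refine Equiv.subtypeEquivRight ?_
  intro y
  constructor
  · rintro ⟨s, hs, hsn, hsy⟩
    have hs3 : 3 < s := prime_gt_three_of_dvd_half hs hsn
    have ho0 : orderOf y ≠ 0 := (orderOf_pos y).ne'
    have ha₀ : orderOf (y ^ (orderOf y / s)) = s := orderOf_pow_orderOf_div ho0 hsy
    obtain ⟨h, hh⟩ := split_cent hK (y ^ (orderOf y / s)) s hs hsn ha₀
    have hyH : h⁻¹ * y * h ∈ HH1 K m := by
      apply (hh y).1
      rw [Subgroup.mem_centralizer_singleton_iff]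
      exact ((Commute.refl y).pow_right _).eq
    refine ⟨h, h⁻¹ * y * h, (hSmem _).2 ⟨hyH, ?_⟩, by group⟩
    apply mul_self_ne_of_prime_dvd _ s (by omega)
    have := orderOf_conj' h⁻¹ y
    rw [inv_inv] at this
    rw [this]
    exact hsy
  · rintro ⟨g, x, hx, rfl⟩
    obtain ⟨hxH, hx2⟩ := (hSmem x).1 hx
    have hj : orderOf x ∣ 2 * N' := by
      rw [← hq2, ← hcardH]
      have := orderOf_dvd_natCard (⟨x, hxH⟩ : HH1 K m)
      rwa [← Subgroup.orderOf_coe] at this
    obtain ⟨p, hp, -, hpj, hpn⟩ := exists_odd_prime_dvd (orderOf x) N' (two_lt_orderOf x hx2)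
      hN'odd hj
    refine ⟨p, hp, by rw [← hN']; exact hpn, ?_⟩
    rw [orderOf_conj']
    exact hpj

end ree

section final

variable {K : Type*} [Field K] [Fintype K] {m : ℕ}

/-- the total `|X_H|` -/
theorem card_XH (hK : Fintype.card K = 3 ^ (2 * m + 1)) :
    Nat.card {g : ↥(twistedG2 K (3 ^ m)) //
        ∃ s : ℕ, s.Prime ∧ s ∣ (3 ^ (2 * m + 1) - 1) / 2 ∧ s ∣ orderOf g}
      * (2 * (3 ^ (2 * m + 1) - 1))
      = Nat.card ↥(twistedG2 K (3 ^ m)) * (3 ^ (2 * m + 1) - 3) := by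
  have := charP3 hK
  exact card_XH_aux hK

/-- the total `|X_A|` -/
theorem card_XA (hm : 1 ≤ m) (hK : Fintype.card K = 3 ^ (2 * m + 1)) :
    Nat.card {g : ↥(twistedG2 K (3 ^ m)) //
        ∃ s : ℕ, s.Prime ∧ s ∣ (3 ^ (2 * m + 1) + 1) / 4 ∧ s ∣ orderOf g}
      * (6 * (3 ^ (2 * m + 1) + 1))
      = Nat.card ↥(twistedG2 K (3 ^ m)) * (3 ^ (2 * m + 1) - 3) := by
  have := charP3 hK
  exact card_XA_aux hK hm

end final

end Cfsg.Agent.Lib.Helper5.Ree
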