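import Cfsg.Agent.Lib.Lead.ReeTor.Part2
import Cfsg.Agent.Lib.Helper5.Ree.Norm5
import Mathlib

/-!
# Small Ree groups: an element of order three on the four-group `⟨a, b⟩` (helper5)
-/

set_option autoImplicit false
set_option maxRecDepth 100000

namespace Cfsg.Agent.Lib.Helper5.Ree

open Cfsg.Lie Cfsg.Agent.Lib.Helper5.Chev Cfsg.Agent.Lib.Helper5.GA Cfsg.Agent.Lib.Helper5.Tw
open Cfsg.Agent.Lib.Helper5.Frob Cfsg.Agent.Lib.Helper5.SL2P Cfsg.Agent.Lib.Helper5.Ree
open Cfsg.Agent.ReeL Cfsg.Agent.ReeTor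

section

variable {K : Type*} [Field K] [Fintype K] [CharP K 3] {m : ℕ}

/-- `a` is not in the image of `SL₂(K)` -/
theorem aG_ne_phiG (hK : Fintype.card K = 3 ^ (2 * m + 1))
    (s : Matrix.SpecialLinearGroup (Fin 2) K) : aG K m ≠ phiG K m s := by
  intro h
  apply aG_mul_ne (K := K) (m := m) hK s⁻¹
  rw [h, ← map_mul, mul_inv_cancel, map_one]

/-- conjugation by an element of `C(a)` preserves the image of `SL₂(K)` -/
theorem conj_phiG_of_cent (hK : Fintype.card K = 3 ^ (2 * m + 1)) (g : ↥(twistedG2 K (3 ^ m)))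
    (hg : aG K m * g = g * aG K m) (s : Matrix.SpecialLinearGroup (Fin 2) K) :
    ∃ s' : Matrix.SpecialLinearGroup (Fin 2) K, g * phiG K m s * g⁻¹ = phiG K m s' := by
  obtain ⟨r, hr | hr⟩ := cent_aG hK g hg
  · refine ⟨r * s * r⁻¹, ?_⟩
    rw [hr, map_mul, map_mul, map_inv]
  · refine ⟨r * s * r⁻¹, ?_⟩
    rw [hr, map_mul, map_mul, map_inv]
    have c1 : aG K m * phiG K m r = phiG K m r * aG K m := (aG_comm hK r).eq
    have c2 : aG K m * phiG K m s = phiG K m s * aG K m := (aG_comm hK s).eq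
    calc aG K m * phiG K m r * phiG K m s * (aG K m * phiG K m r)⁻¹
        = aG K m * (phiG K m r * phiG K m s * (phiG K m r)⁻¹) * (aG K m)⁻¹ := by group
      _ = phiG K m r * phiG K m s * (phiG K m r)⁻¹ := by
          have c3 : aG K m * (phiG K m r * phiG K m s * (phiG K m r)⁻¹)
              = (phiG K m r * phiG K m s * (phiG K m r)⁻¹) * aG K m := by
            rw [← map_inv, ← map_mul, ← map_mul]
            exact (aG_comm hK _).eq
          rw [c3]
          group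

/-- conjugation inside `C(a)` never multiplies by `a` -/
theorem cent_conj_ne (hK : Fintype.card K = 3 ^ (2 * m + 1)) (g x : ↥(twistedG2 K (3 ^ m)))
    (hg : aG K m * g = g * aG K m) (hx : aG K m * x = x * aG K m) :
    g * x * g⁻¹ ≠ aG K m * x := by
  intro h
  obtain ⟨s, hs | hs⟩ := cent_aG hK x hx
  · obtain ⟨s', hs'⟩ := conj_phiG_of_cent hK g hg s
    rw [hs, hs'] at h
    apply aG_ne_phiG hK (s' * s⁻¹)
    rw [map_mul, map_inv, h]
    group
  · obtain ⟨s', hs'⟩ := conj_phiG_of_cent hK g hg s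
    have e : g * x * g⁻¹ = aG K m * phiG K m s' := by
      rw [hs, ← hs']
      have : g * aG K m * g⁻¹ = aG K m := by
        rw [← hg]
        group
      calc g * (aG K m * phiG K m s) * g⁻¹
          = (g * aG K m * g⁻¹) * (g * phiG K m s * g⁻¹) := by group
        _ = aG K m * (g * phiG K m s * g⁻¹) := by rw [this]
    rw [e, hs, ← mul_assoc, aG_sq, one_mul] at h
    apply aG_ne_phiG hK (s * s'⁻¹)
    rw [map_mul, map_inv, ← h]
    group

/-- conjugation inside the centraliser of an involution `t` never multiplies by `t` -/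
theorem cent_conj_ne' (hK : Fintype.card K = 3 ^ (2 * m + 1)) (hm : 1 ≤ m)
    (t : ↥(twistedG2 K (3 ^ m))) (ht2 : t * t = 1) (ht1 : t ≠ 1)
    (g x : ↥(twistedG2 K (3 ^ m))) (hg : t * g = g * t) (hx : t * x = x * t) :
    g * x * g⁻¹ ≠ t * x := by
  obtain ⟨h, rfl⟩ := invol_conj hK hm t ht2 ht1
  intro e
  apply cent_conj_ne hK (h⁻¹ * g * h) (h⁻¹ * x * h)
  · have : aG K m * (h⁻¹ * g * h) = h⁻¹ * ((h * aG K m * h⁻¹) * g) * h := by group
    rw [this, hg]
    group
  · have : aG K m * (h⁻¹ * x * h) = h⁻¹ * ((h * aG K m * h⁻¹) * x) * h := by group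
    rw [this, hx]
    group
  · have : h⁻¹ * g * h * (h⁻¹ * x * h) * (h⁻¹ * g * h)⁻¹ = h⁻¹ * (g * x * g⁻¹) * h := by group
    rw [this, e]
    group

/-- the normaliser of `E` is transitive on the involutions of `E` -/
theorem N8_trans (hK : Fintype.card K = 3 ^ (2 * m + 1)) (hm : 1 ≤ m) :
    ∃ n ∈ N8 K m, n * bG K m * n⁻¹ = aG K m := by
  have := finite_twisted (K := K) (m := m) hK
  have horb := card_conj_orbit (N8 K m) (aG K m)
  rw [card_H2 hK, card_N8 hK hm] at horb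
  have h7 : Set.ncard {y | ∃ h ∈ N8 K m, y = h * aG K m * h⁻¹} = 7 := by omega
  have hsub : {y | ∃ h ∈ N8 K m, y = h * aG K m * h⁻¹}
      ⊆ (E8 K m : Set ↥(twistedG2 K (3 ^ m))) \ {1} := by
    rintro y ⟨h, hh, rfl⟩
    refine ⟨N8_conj_mem hh aG_mem, ?_⟩
    intro e
    apply aG_ne_one (K := K) (m := m) hK
    have : aG K m = h⁻¹ * (h * aG K m * h⁻¹) * h := by group
    rw [this, e]
    group
  have hE7 : Set.ncard ((E8 K m : Set ↥(twistedG2 K (3 ^ m))) \ {1}) = 7 := by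
    rw [Set.ncard_sdiff (by simp), Set.ncard_singleton]
    have : Set.ncard (E8 K m : Set ↥(twistedG2 K (3 ^ m))) = 8 := (E8_spec hK).1
    rw [this]
  have heq := Set.eq_of_subset_of_ncard_le hsub (by rw [h7, hE7]) (Set.toFinite _)
  have hb : bG K m ∈ (E8 K m : Set ↥(twistedG2 K (3 ^ m))) \ {1} := ⟨bG_mem, bG_ne_one hK⟩
  rw [← heq] at hb
  obtain ⟨h, hh, e⟩ := hb
  refine ⟨h⁻¹, Subgroup.inv_mem _ hh, ?_⟩
  rw [e]
  group

/-- an element of the small Ree group inducing a cycle of length three on `{a, b, ab}` -/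
theorem three_cycle (hK : Fintype.card K = 3 ^ (2 * m + 1)) (hm : 1 ≤ m) :
    ∃ n : ↥(twistedG2 K (3 ^ m)), n * bG K m * n⁻¹ = aG K m ∧
      n * aG K m * n⁻¹ = aG K m * bG K m := by
  obtain ⟨n₁, hn₁, e₁⟩ := N8_trans hK hm
  have hx : n₁ * aG K m * n₁⁻¹ ∈ E8 K m := N8_conj_mem hn₁ aG_mem
  have hab : aG K m ≠ bG K m := aG_ne_of_sq hK _ (bG_sq hK)
  have hx1 : n₁ * aG K m * n₁⁻¹ ≠ 1 := by
    intro e
    apply aG_ne_one (K := K) (m := m) hK
    have : aG K m = n₁⁻¹ * (n₁ * aG K m * n₁⁻¹) * n₁ := by group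
    rw [this, e]
    group
  have hxa : n₁ * aG K m * n₁⁻¹ ≠ aG K m := by
    intro e
    apply hab
    have : n₁ * aG K m * n₁⁻¹ = n₁ * bG K m * n₁⁻¹ := by rw [e, e₁]
    exact mul_left_cancel (mul_right_cancel this)
  -- the bad case: a transposition
  have hbad : ∀ n : ↥(twistedG2 K (3 ^ m)), n * bG K m * n⁻¹ = aG K m →
      n * aG K m * n⁻¹ = bG K m → False := by
    intro n h1 h2
    have hcab : aG K m * bG K m = bG K m * aG K m := (aG_comm hK _).eq
    have habsq : aG K m * bG K m * (aG K m * bG K m) = 1 := by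
      calc aG K m * bG K m * (aG K m * bG K m)
          = aG K m * (bG K m * aG K m) * bG K m := by group
        _ = aG K m * (aG K m * bG K m) * bG K m := by rw [hcab]
        _ = (aG K m * aG K m) * (bG K m * bG K m) := by group
        _ = 1 := by rw [aG_sq, bG_sq hK, one_mul]
    have hab1 : aG K m * bG K m ≠ 1 := by
      unfold bG
      exact aG_mul_ne hK _
    have hfix : n * (aG K m * bG K m) * n⁻¹ = aG K m * bG K m := by
      rw [conj_mul', h1, h2, hcab]
    apply cent_conj_ne' hK hm (aG K m * bG K m) habsq hab1 n (aG K m)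
    · have : aG K m * bG K m * n = (n * (aG K m * bG K m) * n⁻¹) * n := by rw [hfix]
      rw [this]
      group
    · rw [mul_assoc, ← hcab]
    · rw [h2, hcab, mul_assoc, aG_sq, mul_one]
  have ho := oG_mem_normalizer (K := K) (m := m) hK
  have hoa := oG_conj_aG (K := K) (m := m) hK
  have hob := oG_conj_bG (K := K) (m := m) hK
  have hoc := oG_conj_cG (K := K) (m := m) hK
  have hobc := oG_conj_bcG (K := K) (m := m) hK
  -- conjugation by `o * n₁` and `o * o * n₁`
  have c1 : ∀ z, (oG K m * n₁) * z * (oG K m * n₁)⁻¹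
      = oG K m * (n₁ * z * n₁⁻¹) * (oG K m)⁻¹ := by
    intro z
    group
  have c2 : ∀ z, (oG K m * oG K m * n₁) * z * (oG K m * oG K m * n₁)⁻¹
      = oG K m * (oG K m * (n₁ * z * n₁⁻¹) * (oG K m)⁻¹) * (oG K m)⁻¹ := by
    intro z
    group
  rcases (E8_spec hK).2.1 _ hx with h | h | h | h | h | h | h | h
  · exact absurd h hx1
  · -- `x = c`
    exfalso
    apply hbad (oG K m * oG K m * n₁)
    · rw [c2, e₁, hoa, hoa]
    · rw [c2, h, hoc, hobc]
  · -- `x = b`
    exfalso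
    exact hbad n₁ e₁ h
  · -- `x = bc`
    exfalso
    apply hbad (oG K m * n₁)
    · rw [c1, e₁, hoa]
    · rw [c1, h, hobc]
  · exact absurd h hxa
  · -- `x = ac`
    refine ⟨oG K m * oG K m * n₁, ?_, ?_⟩
    · rw [c2, e₁, hoa, hoa]
    · rw [c2, h, conj_mul' (oG K m) (aG K m) (cG K m), hoa, hoc,
        conj_mul' (oG K m) (aG K m) (bG K m * cG K m), hoa, hobc]
  · -- `x = ab`
    exact ⟨n₁, e₁, h⟩
  · -- `x = abc`
    refine ⟨oG K m * n₁, ?_, ?_⟩
    · rw [c1, e₁, hoa]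
    · rw [c1, h, conj_mul' (oG K m) (aG K m) (bG K m * cG K m), hoa, hobc]

end

end Cfsg.Agent.Lib.Helper5.Ree
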