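import Cfsg.Agent.Lib.Helper5.Ree.WardQ1
import Cfsg.Agent.Lib.Helper5.Ree.WardAbs
import Cfsg.Agent.Lib.Helper5.Ree.WardT2
import Mathlib

/-!
# Small Ree groups: the centraliser of the four-group `⟨a, b⟩` (helper5)
-/

set_option autoImplicit false
set_option maxRecDepth 100000

namespace Cfsg.Agent.Lib.Helper5.Ree

open Cfsg.Lie Cfsg.Agent.Lib.Helper5.Chev Cfsg.Agent.Lib.Helper5.GA Cfsg.Agent.Lib.Helper5.Tw
open Cfsg.Agent.Lib.Helper5.Frob Cfsg.Agent.Lib.Helper5.SL2P Cfsg.Agent.Lib.Helper5.Ree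
open Cfsg.Agent.ReeL Cfsg.Agent.ReeTor

section sl2

variable {K : Type*} [Field K]

/-- an element of `SL₂(K)` anticommuting with `w` squares to `-1` -/
theorem anti_sq (s : Matrix.SpecialLinearGroup (Fin 2) K) (h : s * wq K = -(wq K * s)) :
    s * s = -1 := by
  have hd := s.2
  rw [Matrix.det_fin_two] at hd
  have h' : s.1 * (wq K).1 = -((wq K).1 * s.1) := by
    have := congrArg Subtype.val h
    rw [Matrix.SpecialLinearGroup.coe_neg] at this
    exact this
  rw [wq_val] at h'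
  have key : ∀ i j : Fin 2, (s.1 * (!![0, 1; -1, 0] : Matrix (Fin 2) (Fin 2) K)) i j
      = -(((!![0, 1; -1, 0] : Matrix (Fin 2) (Fin 2) K) * s.1) i j) := by
    intro i j
    rw [h']
    rfl
  have h00 := key 0 0
  have h01 := key 0 1
  rw [Matrix.mul_apply, Matrix.mul_apply, Fin.sum_univ_two, Fin.sum_univ_two] at h00 h01
  simp at h00 h01
  apply Subtype.ext
  rw [Matrix.SpecialLinearGroup.coe_mul, neg_one_val]
  ext i j
  fin_cases i <;> fin_cases j <;> simp [Matrix.mul_apply, Fin.sum_univ_two]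
  · linear_combination (-1 : K) * hd + (s.1 0 0) * h01
  · linear_combination (s.1 0 1) * h01
  · linear_combination (s.1 1 0) * h01
  · linear_combination (-1 : K) * hd + (s.1 1 1) * h01

/-- the quotient of two elements anticommuting with `w` commutes with `w` -/
theorem anti_mul_anti (s s' : Matrix.SpecialLinearGroup (Fin 2) K)
    (h : s * wq K = -(wq K * s)) (h' : s' * wq K = -(wq K * s')) :
    (s⁻¹ * s') * wq K = wq K * (s⁻¹ * s') := by
  have e0 : wq K * s⁻¹ = -(s⁻¹ * wq K) := by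
    calc wq K * s⁻¹ = s⁻¹ * (s * wq K) * s⁻¹ := by group
      _ = s⁻¹ * (-(wq K * s)) * s⁻¹ := by rw [h]
      _ = -(s⁻¹ * wq K) := by
          rw [mul_neg, neg_mul]
          congr 1
          group
  have e1 : s⁻¹ * wq K = -(wq K * s⁻¹) := by rw [e0, neg_neg]
  calc (s⁻¹ * s') * wq K = s⁻¹ * (s' * wq K) := by group
    _ = -(s⁻¹ * wq K * s') := by rw [h', mul_neg, mul_assoc]
    _ = wq K * (s⁻¹ * s') := by rw [e1, neg_mul, neg_neg, mul_assoc]

end sl2

section ree

variable {K : Type*} [Field K] [Fintype K] [CharP K 3] {m : ℕ}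

omit [CharP K 3] in
/-- `-1` is not a square: the characteristic polynomial of `w` has no root -/
theorem wq_root (hK : Fintype.card K = 3 ^ (2 * m + 1)) :
    ∀ l : K, l ^ 2 - tr2 (wq K) * l + 1 ≠ 0 := by
  intro l hl
  have h4 : Fintype.card K % 4 = 3 := by
    rw [hK]
    have := q_mod8 m
    omega
  have hm1 : ¬ IsSquare (-1 : K) := by
    rw [FiniteField.isSquare_neg_one_iff]
    omega
  apply hm1
  refine ⟨l, ?_⟩
  have ht : tr2 (wq K) = 0 := by
    unfold tr2
    rw [wq_val]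
    simp
  rw [ht] at hl
  linear_combination (-1 : K) * hl

/-- an element of prime order of the standard torus of order `q + 1` -/
theorem quarter_setup (hK : Fintype.card K = 3 ^ (2 * m + 1)) (hm : 1 ≤ m) :
    ∃ (y : ↥(twistedG2 K (3 ^ m))) (s : ℕ), s.Prime ∧ s ∣ (3 ^ (2 * m + 1) + 1) / 4 ∧
      orderOf y = s ∧ aG K m * y = y * aG K m ∧
      ∀ s₀ : Matrix.SpecialLinearGroup (Fin 2) K, s₀ * wq K = wq K * s₀ →
        phiG K m s₀ * y = y * phiG K m s₀ := by
  have hq8 := q_mod8 m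
  have h27 : 3 ^ (2 * 1 + 1) ≤ 3 ^ (2 * m + 1) := Nat.pow_le_pow_right (by norm_num) (by omega)
  have hn1 : (3 ^ (2 * m + 1) + 1) / 4 ≠ 1 := by omega
  obtain ⟨s, hs, hsd⟩ := Nat.exists_prime_and_dvd hn1
  have hs3 : 3 < s := prime_gt_three_of_dvd_quarter hs hsd
  have hcard : Nat.card (Subgroup.centralizer ({wq K} : Set (Matrix.SpecialLinearGroup (Fin 2) K)))
      = 3 ^ (2 * m + 1) + 1 := by
    rw [card_centralizer (wq K) two_ne_zero3 (wq_root hK), hK]
  have hsdiv : s ∣ Nat.card (Subgroup.centralizer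
      ({wq K} : Set (Matrix.SpecialLinearGroup (Fin 2) K))) := by
    rw [hcard]
    exact hsd.trans (Nat.div_dvd_of_dvd (by omega))
  have : Fact s.Prime := ⟨hs⟩
  have hfinSL : Finite (Matrix.SpecialLinearGroup (Fin 2) K) := inferInstance
  obtain ⟨y', hy'⟩ := exists_prime_orderOf_dvd_card'
    (G := ↥(Subgroup.centralizer ({wq K} : Set (Matrix.SpecialLinearGroup (Fin 2) K)))) s hsdiv
  have hy'o : orderOf (y' : Matrix.SpecialLinearGroup (Fin 2) K) = s := by
    rw [Subgroup.orderOf_coe]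
    exact hy'
  have hy'w : (y' : Matrix.SpecialLinearGroup (Fin 2) K) * wq K
      = wq K * (y' : Matrix.SpecialLinearGroup (Fin 2) K) :=
    Subgroup.mem_centralizer_singleton_iff.1 y'.2
  refine ⟨phiG K m (y' : Matrix.SpecialLinearGroup (Fin 2) K), s, hs, hsd, ?_,
    (aG_comm hK _).eq, ?_⟩
  · apply orderOf_eq_prime
    · rw [← map_pow, ← hy'o, pow_orderOf_eq_one, map_one]
    · intro h
      rcases phiG_ker hK _ h with h' | h'
      · rw [h', orderOf_one] at hy'o
        omega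
      · have h2 : orderOf (y' : Matrix.SpecialLinearGroup (Fin 2) K) ∣ 2 := by
          apply orderOf_dvd_of_pow_eq_one
          rw [h']
          simp
        rw [hy'o] at h2
        have := Nat.le_of_dvd (by norm_num) h2
        omega
  · intro s₀ h
    have := comm_of_comm (wq K) (wq_root hK) s₀ (y' : Matrix.SpecialLinearGroup (Fin 2) K) h hy'w
    rw [← map_mul, ← map_mul, this]

/-- the elements of `C(a) ∩ C(b)` -/
theorem Q4_cases (hK : Fintype.card K = 3 ^ (2 * m + 1)) (g : ↥(twistedG2 K (3 ^ m)))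
    (hga : aG K m * g = g * aG K m) (hgb : bG K m * g = g * bG K m) :
    ∃ s₀ : Matrix.SpecialLinearGroup (Fin 2) K, (g = phiG K m s₀ ∨ g = aG K m * phiG K m s₀) ∧
      (s₀ * wq K = wq K * s₀ ∨ s₀ * wq K = -(wq K * s₀)) := by
  obtain ⟨s₀, hs | hs⟩ := cent_aG hK g hga
  · refine ⟨s₀, Or.inl hs, comm_cases hK s₀ (wq K) ?_⟩
    rw [hs] at hgb
    exact hgb.symm
  · refine ⟨s₀, Or.inr hs, comm_cases hK s₀ (wq K) ?_⟩
    rw [hs] at hgb
    have c1 : aG K m * bG K m = bG K m * aG K m := (aG_comm hK _).eq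
    have h1 : aG K m * (bG K m * phiG K m s₀) = aG K m * (phiG K m s₀ * bG K m) := by
      calc aG K m * (bG K m * phiG K m s₀) = bG K m * (aG K m * phiG K m s₀) := by
            rw [← mul_assoc, c1, mul_assoc]
        _ = aG K m * phiG K m s₀ * bG K m := hgb
        _ = aG K m * (phiG K m s₀ * bG K m) := mul_assoc _ _ _
    exact (mul_left_cancel h1).symm

/-- the structure of `C(a) ∩ C(b)` over a subgroup containing the standard torus -/
theorem Q4_struct (hK : Fintype.card K = 3 ^ (2 * m + 1))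
    (A : Subgroup ↥(twistedG2 K (3 ^ m))) (haA : aG K m ∈ A)
    (hA : ∀ s₀ : Matrix.SpecialLinearGroup (Fin 2) K, s₀ * wq K = wq K * s₀ → phiG K m s₀ ∈ A) :
    (∀ g : ↥(twistedG2 K (3 ^ m)), aG K m * g = g * aG K m → bG K m * g = g * bG K m → g ∉ A →
      g * g = 1) ∧
    (∀ g g' : ↥(twistedG2 K (3 ^ m)), aG K m * g = g * aG K m → bG K m * g = g * bG K m →
      aG K m * g' = g' * aG K m → bG K m * g' = g' * bG K m → g ∉ A → g' ∉ A → g⁻¹ * g' ∈ A) := by
  have key : ∀ g : ↥(twistedG2 K (3 ^ m)), aG K m * g = g * aG K m → bG K m * g = g * bG K m →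
      g ∉ A → ∃ s₀ : Matrix.SpecialLinearGroup (Fin 2) K,
        (g = phiG K m s₀ ∨ g = aG K m * phiG K m s₀) ∧ s₀ * wq K = -(wq K * s₀) := by
    intro g hga hgb hgA
    obtain ⟨s₀, h1, h2 | h2⟩ := Q4_cases hK g hga hgb
    · exfalso
      apply hgA
      rcases h1 with h | h
      · rw [h]
        exact hA s₀ h2
      · rw [h]
        exact Subgroup.mul_mem _ haA (hA s₀ h2)
    · exact ⟨s₀, h1, h2⟩
  constructor
  · intro g hga hgb hgA
    obtain ⟨s₀, h1, h2⟩ := key g hga hgb hgA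
    have hu : phiG K m s₀ * phiG K m s₀ = 1 := by
      rw [← map_mul, anti_sq s₀ h2, phiG_neg_one hK]
    rcases h1 with h | h
    · rw [h, hu]
    · rw [h, (aG_comm hK s₀).symm.mul_mul_mul_comm, aG_sq, hu, one_mul]
  · intro g g' hga hgb hga' hgb' hgA hgA'
    obtain ⟨s₀, h1, h2⟩ := key g hga hgb hgA
    obtain ⟨s₀', h1', h2'⟩ := key g' hga' hgb' hgA'
    have hmem : (phiG K m s₀)⁻¹ * phiG K m s₀' ∈ A := by
      rw [← map_inv, ← map_mul]
      exact hA _ (anti_mul_anti s₀ s₀' h2 h2')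
    have c : Commute (aG K m) (phiG K m s₀) := aG_comm hK s₀
    rcases h1 with h | h <;> rcases h1' with h' | h'
    · rw [h, h']
      exact hmem
    · rw [h, h']
      have e : (phiG K m s₀)⁻¹ * (aG K m * phiG K m s₀')
          = aG K m * ((phiG K m s₀)⁻¹ * phiG K m s₀') := by
        rw [← mul_assoc, (c.symm.inv_left).eq, mul_assoc]
      rw [e]
      exact Subgroup.mul_mem _ haA hmem
    · rw [h, h']
      have e : (aG K m * phiG K m s₀)⁻¹ * phiG K m s₀'
          = (aG K m)⁻¹ * ((phiG K m s₀)⁻¹ * phiG K m s₀') := by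
        rw [c.eq, mul_inv_rev, mul_assoc]
      rw [e]
      exact Subgroup.mul_mem _ (Subgroup.inv_mem _ haA) hmem
    · rw [h, h']
      have e : (aG K m * phiG K m s₀)⁻¹ * (aG K m * phiG K m s₀')
          = (phiG K m s₀)⁻¹ * phiG K m s₀' := by group
      rw [e]
      exact hmem

end ree

end Cfsg.Agent.Lib.Helper5.Ree
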