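import Cfsg.Agent.Lib.Helper5.Ree.WardQ3
import Mathlib

/-!
# Small Ree groups: the torus of order `q + 1` with all its data (helper5)
-/

set_option autoImplicit false
set_option maxRecDepth 100000

namespace Cfsg.Agent.Lib.Helper5.Ree

open Cfsg.Lie Cfsg.Agent.Lib.Helper5.Chev Cfsg.Agent.Lib.Helper5.GA Cfsg.Agent.Lib.Helper5.Tw
open Cfsg.Agent.Lib.Helper5.Frob Cfsg.Agent.Lib.Helper5.SL2P Cfsg.Agent.Lib.Helper5.Ree
open Cfsg.Agent.ReeL Cfsg.Agent.ReeTor Cfsg.Agent.Lib.Helper8.ReeSyl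

section ree

variable {K : Type*} [Field K] [Fintype K] [CharP K 3] {m : ℕ}

/-- the torus `A` of order `q + 1` and its odd part `D`, with all their data -/
theorem quarter_torus (hK : Fintype.card K = 3 ^ (2 * m + 1)) (hm : 1 ≤ m) :
    ∃ A D : Subgroup ↥(twistedG2 K (3 ^ m)),
      (∀ x ∈ A, ∀ y ∈ A, x * y = y * x) ∧
      Nat.card A = 3 ^ (2 * m + 1) + 1 ∧
      (∀ x ∈ A, x ^ ((3 ^ (2 * m + 1) + 1) / 2) = 1) ∧
      aG K m ∈ A ∧ bG K m ∈ A ∧
      (∀ x ∈ A, x * x = 1 → x = 1 ∨ x = aG K m ∨ x = bG K m ∨ x = aG K m * bG K m) ∧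
      (∀ x, x ∈ D ↔ x ∈ A ∧ x ^ ((3 ^ (2 * m + 1) + 1) / 4) = 1) ∧
      IsCyclic D ∧ Nat.card D = (3 ^ (2 * m + 1) + 1) / 4 ∧
      (∀ A₀ : Subgroup ↥(twistedG2 K (3 ^ m)), A₀ ≤ D → A₀ ≠ ⊥ →
        Subgroup.centralizer (A₀ : Set ↥(twistedG2 K (3 ^ m))) = A) ∧
      Nat.card (Subgroup.normalizer (D : Set ↥(twistedG2 K (3 ^ m))))
        = 6 * (3 ^ (2 * m + 1) + 1) ∧
      Subgroup.normalizer (A : Set ↥(twistedG2 K (3 ^ m)))
        = Subgroup.normalizer (D : Set ↥(twistedG2 K (3 ^ m))) := by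
  have hfin := finite_twisted (K := K) (m := m) hK
  have hq8 := q_mod8 m
  have h27 : 3 ^ (2 * 1 + 1) ≤ 3 ^ (2 * m + 1) := Nat.pow_le_pow_right (by norm_num) (by omega)
  obtain ⟨y, s, hs, hsd, hy, hya, hyw⟩ := quarter_setup hK hm
  obtain ⟨c1, c2, c3⟩ := quarter_cent hK hm y s hs hsd hy
  set A : Subgroup ↥(twistedG2 K (3 ^ m)) :=
    Subgroup.centralizer ({y} : Set ↥(twistedG2 K (3 ^ m))) with hAdef
  obtain ⟨n, hn⟩ : ∃ n, n = (3 ^ (2 * m + 1) + 1) / 4 := ⟨_, rfl⟩
  have hn4 : 3 ^ (2 * m + 1) + 1 = 4 * n := by omega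
  have hnodd : Odd n := by
    rw [Nat.odd_iff]
    omega
  have hcardA : Nat.card A = 4 * n := by rw [c2, hn4]
  rw [← hn]
  -- memberships
  have haA : aG K m ∈ A := Subgroup.mem_centralizer_singleton_iff.2 hya
  have hphiA : ∀ s₀ : Matrix.SpecialLinearGroup (Fin 2) K, s₀ * wq K = wq K * s₀ →
      phiG K m s₀ ∈ A := fun s₀ h => Subgroup.mem_centralizer_singleton_iff.2 (hyw s₀ h)
  have hbA : bG K m ∈ A := hphiA (wq K) rfl
  have hAa : ∀ x ∈ A, aG K m * x = x * aG K m := fun x hx => c1 _ haA _ hx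
  have hAb : ∀ x ∈ A, bG K m * x = x * bG K m := fun x hx => c1 _ hbA _ hx
  obtain ⟨hQ1, hQ2⟩ := Q4_struct hK A haA hphiA
  have hcA : cG K m ∉ A := by
    intro hc
    have hle : E8 K m ≤ A := by
      unfold E8
      rw [Subgroup.closure_le]
      rintro x (rfl | rfl | rfl)
      exacts [haA, hbA, hc]
    have hdvd := Subgroup.card_dvd_of_le hle
    rw [(E8_spec hK).1, c2] at hdvd
    omega
  -- the Hall subgroup
  obtain ⟨D, hDmem, hDcard⟩ := WardAbs.exists_hall A c1 n hnodd hcardA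
  have hDA : D ≤ A := fun x hx => ((hDmem x).1 hx).1
  have hDcyc : IsCyclic D := by
    apply WardAbs.isCyclic_of_pgroups D (fun x hx y hy => c1 x (hDA hx) y (hDA hy))
    intro p hp hpd P hP
    rw [hDcard, hn] at hpd
    have hp3 : 3 < p := prime_gt_three_of_dvd_quarter hp hpd
    have : Fact p.Prime := ⟨hp⟩
    obtain ⟨S, hS⟩ := hP.exists_le_sylow
    have := sylow_cyclic hm hK hp3 S
    exact Subgroup.isCyclic_of_le hS
  obtain ⟨p1, p2, p3, p4⟩ := part_two hK D hDcyc (by rw [hDcard, hn]) hm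
  have hCD : Subgroup.centralizer (D : Set ↥(twistedG2 K (3 ^ m))) = A := by
    symm
    apply Subgroup.eq_of_le_of_card_ge
    · intro x hx
      rw [Subgroup.mem_centralizer_iff]
      intro d hd
      exact c1 d (hDA hd) x hx
    · rw [p2, c2]
  -- normalising `A` implies normalising `D`
  have hF2 : ∀ g : ↥(twistedG2 K (3 ^ m)), (∀ x ∈ A, g * x * g⁻¹ ∈ A) →
      ∀ x ∈ D, g * x * g⁻¹ ∈ D := by
    intro g hg x hx
    obtain ⟨hxA, hxn⟩ := (hDmem x).1 hx
    rw [hDmem]
    refine ⟨hg x hxA, ?_⟩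
    rw [conj_pow, hxn]
    group
  have hF3 : ∀ g ∈ Subgroup.normalizer (D : Set ↥(twistedG2 K (3 ^ m))), ∀ x ∈ A,
      g * x * g⁻¹ ∈ A := by
    intro g hg x hx
    rw [← hCD] at hx ⊢
    exact WardAbs.conj_mem_centralizer D g hg x hx
  -- mapping `C(a) ∩ C(b)` into itself implies normalising `D`
  have hFkey : ∀ g : ↥(twistedG2 K (3 ^ m)),
      (∀ z : ↥(twistedG2 K (3 ^ m)), aG K m * z = z * aG K m → bG K m * z = z * bG K m →
        aG K m * (g * z * g⁻¹) = g * z * g⁻¹ * aG K m ∧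
        bG K m * (g * z * g⁻¹) = g * z * g⁻¹ * bG K m) →
      ∀ x ∈ D, g * x * g⁻¹ ∈ D := by
    intro g hg x hx
    obtain ⟨hxA, hxn⟩ := (hDmem x).1 hx
    obtain ⟨h1, h2⟩ := hg x (hAa x hxA) (hAb x hxA)
    have hpow : (g * x * g⁻¹) ^ n = 1 := by
      rw [conj_pow, hxn]
      group
    rw [hDmem]
    refine ⟨?_, hpow⟩
    by_contra hnA
    have hsq := hQ1 _ h1 h2 hnA
    have hz1 : g * x * g⁻¹ = 1 := by
      obtain ⟨k, hk⟩ := hnodd
      have e : (g * x * g⁻¹) ^ n = g * x * g⁻¹ := by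
        rw [hk, pow_succ, pow_mul, pow_two, hsq, one_pow, one_mul]
      rw [← e, hpow]
    apply hnA
    rw [hz1]
    exact A.one_mem
  -- involutions of `A`
  have hab : aG K m ≠ bG K m := aG_ne_of_sq hK _ (bG_sq hK)
  have hcab : aG K m * bG K m = bG K m * aG K m := (aG_comm hK _).eq
  have hinvA : ∀ x ∈ A, x * x = 1 → x = 1 ∨ x = aG K m ∨ x = bG K m ∨ x = aG K m * bG K m :=
    WardAbs.invol_cases A c1 n hnodd hcardA (aG K m) (bG K m) haA hbA aG_sq (bG_sq hK)
      (aG_ne_one hK) (bG_ne_one hK) hab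
  -- the stabiliser of `a`
  have hNQ : Subgroup.normalizer (D : Set ↥(twistedG2 K (3 ^ m))) ⊓ Subgroup.centralizer {aG K m}
      = Subgroup.centralizer {aG K m} ⊓ Subgroup.centralizer {bG K m} := by
    ext g
    rw [Subgroup.mem_inf, Subgroup.mem_inf, mem_cent_singleton, mem_cent_singleton]
    constructor
    · rintro ⟨hgN, hga⟩
      refine ⟨hga, ?_⟩
      have hbA' := hF3 g hgN (bG K m) hbA
      rcases hinvA _ hbA' (conj_sq_eq_one g _ (bG_sq hK)) with h | h | h | h
      · exact absurd (eq_one_of_conj_eq_one g _ h) (bG_ne_one hK)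
      · exfalso
        apply hab
        have e : g * aG K m * g⁻¹ = aG K m := by
          rw [← hga]
          group
        have : g * bG K m * g⁻¹ = g * aG K m * g⁻¹ := by rw [h, e]
        exact (mul_left_cancel (mul_right_cancel this)).symm
      · have : bG K m * g = (g * bG K m * g⁻¹) * g := by rw [h]
        rw [this]
        group
      · exact absurd h (cent_conj_ne hK g (bG K m) hga hcab)
    · rintro ⟨hga, hgb⟩
      refine ⟨?_, hga⟩
      apply WardAbs.mem_normalizer_of_conj D g (hFkey g ?_)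
      intro z hza hzb
      exact ⟨conj_comm_of_comm _ g z hga hza, conj_comm_of_comm _ g z hgb hzb⟩
  -- the element of order three
  obtain ⟨n₃, e1, e2⟩ := three_cycle hK hm
  have hn₃N : n₃ ∈ Subgroup.normalizer (D : Set ↥(twistedG2 K (3 ^ m))) := by
    apply WardAbs.mem_normalizer_of_conj D n₃ (hFkey n₃ ?_)
    intro z hza hzb
    constructor
    · have := conj_comm_conj n₃ (bG K m) z hzb
      rwa [e1] at this
    · have hz2 : aG K m * bG K m * z = z * (aG K m * bG K m) := by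
        rw [mul_assoc, hzb, ← mul_assoc, hza, mul_assoc]
      have e3 : n₃ * (aG K m * bG K m) * n₃⁻¹ = bG K m := by
        rw [conj_mul', e2, e1, hcab, mul_assoc, aG_sq, mul_one]
      have := conj_comm_conj n₃ (aG K m * bG K m) z hz2
      rwa [e3] at this
  -- the orbit of `a`
  have hab1 : aG K m * bG K m ≠ 1 := by
    unfold bG
    exact aG_mul_ne hK _
  have horbit : {y : ↥(twistedG2 K (3 ^ m)) |
      ∃ h ∈ Subgroup.normalizer (D : Set ↥(twistedG2 K (3 ^ m))), y = h * aG K m * h⁻¹}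
      = {aG K m, bG K m, aG K m * bG K m} := by
    ext y
    constructor
    · rintro ⟨h, hh, rfl⟩
      have hmemA := hF3 h hh (aG K m) haA
      rcases hinvA _ hmemA (conj_sq_eq_one h _ aG_sq) with h' | h' | h' | h'
      · exact absurd (eq_one_of_conj_eq_one h _ h') (aG_ne_one hK)
      · rw [h']
        simp
      · rw [h']
        simp
      · rw [h']
        simp
    · intro hy
      simp only [Set.mem_insert_iff, Set.mem_singleton_iff] at hy
      rcases hy with rfl | rfl | rfl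
      · exact ⟨1, Subgroup.one_mem _, by group⟩
      · refine ⟨n₃⁻¹, Subgroup.inv_mem _ hn₃N, ?_⟩
        rw [← e1]
        group
      · exact ⟨n₃, hn₃N, e2.symm⟩
  have h3 : Set.ncard ({aG K m, bG K m, aG K m * bG K m} : Set ↥(twistedG2 K (3 ^ m))) = 3 := by
    apply ncard_three _ _ _ hab
    · intro h
      apply bG_ne_one (K := K) (m := m) hK
      have : aG K m * 1 = aG K m * bG K m := by rw [mul_one]; exact h
      exact (mul_left_cancel this).symm
    · intro h
      apply aG_ne_one (K := K) (m := m) hK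
      have : 1 * bG K m = aG K m * bG K m := by rw [one_mul]; exact h
      exact (mul_right_cancel this).symm
  -- the order of `C(a) ∩ C(b)`
  have hAQ : A ≤ Subgroup.centralizer {aG K m} ⊓ Subgroup.centralizer {bG K m} := fun x hx =>
    ⟨(mem_cent_singleton _ _).2 (hAa x hx), (mem_cent_singleton _ _).2 (hAb x hx)⟩
  have hcQ : cG K m ∈ Subgroup.centralizer {aG K m} ⊓ Subgroup.centralizer {bG K m} :=
    ⟨(mem_cent_singleton _ _).2 (aG_comm hK _).eq, (mem_cent_singleton _ _).2 (bG_comm_cG hK).eq⟩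
  have hidx : (A.subgroupOf
      (Subgroup.centralizer {aG K m} ⊓ Subgroup.centralizer {bG K m})).index = 2 := by
    rw [Subgroup.index_eq_two_iff]
    refine ⟨⟨cG K m, hcQ⟩, ?_⟩
    rintro ⟨b₀, hb₀⟩
    have hb₀a : aG K m * b₀ = b₀ * aG K m := (mem_cent_singleton _ _).1 hb₀.1
    have hb₀b : bG K m * b₀ = b₀ * bG K m := (mem_cent_singleton _ _).1 hb₀.2
    by_cases hbA₀ : b₀ ∈ A
    · right
      constructor
      · rw [Subgroup.mem_subgroupOf]
        exact hbA₀
      · rw [Subgroup.mem_subgroupOf]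
        intro h1
        apply hcA
        have h1' : b₀ * cG K m ∈ A := h1
        have : cG K m = b₀⁻¹ * (b₀ * cG K m) := by group
        rw [this]
        exact A.mul_mem (A.inv_mem hbA₀) h1'
    · left
      constructor
      · rw [Subgroup.mem_subgroupOf]
        show b₀ * cG K m ∈ A
        have hinvA' : b₀⁻¹ ∉ A := fun h => hbA₀ (by simpa using A.inv_mem h)
        have c1' : Commute (aG K m) b₀ := hb₀a
        have c2' : Commute (bG K m) b₀ := hb₀b
        have := hQ2 b₀⁻¹ (cG K m) c1'.inv_right.eq c2'.inv_right.eq (aG_comm hK _).eq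
          (bG_comm_cG hK).eq hinvA' hcA
        rwa [inv_inv] at this
      · rw [Subgroup.mem_subgroupOf]
        exact hbA₀
  have hcardQ : Nat.card ↥(Subgroup.centralizer {aG K m} ⊓ Subgroup.centralizer {bG K m})
      = 2 * (3 ^ (2 * m + 1) + 1) := by
    have h1 := Subgroup.index_mul_card (A.subgroupOf
      (Subgroup.centralizer {aG K m} ⊓ Subgroup.centralizer {bG K m}))
    rw [hidx, Nat.card_congr (Subgroup.subgroupOfEquivOfLe hAQ).toEquiv, c2] at h1
    exact h1.symm
  have horb := card_conj_orbit (Subgroup.normalizer (D : Set ↥(twistedG2 K (3 ^ m)))) (aG K m)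
  rw [horbit, h3, hNQ, hcardQ] at horb
  have hNA : Subgroup.normalizer (A : Set ↥(twistedG2 K (3 ^ m)))
      = Subgroup.normalizer (D : Set ↥(twistedG2 K (3 ^ m))) := by
    apply le_antisymm
    · intro g hg
      apply WardAbs.mem_normalizer_of_conj D g
      apply hF2 g
      intro x hx
      exact (Subgroup.mem_normalizer_iff.1 hg x).1 hx
    · intro g hg
      exact WardAbs.mem_normalizer_of_conj A g (hF3 g hg)
  refine ⟨A, D, c1, c2, c3, haA, hbA, hinvA, hDmem, hDcyc, hDcard, ?_, ?_, hNA⟩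
  · intro A₀ hle hne
    exact (p4 A₀ hle hne).trans hCD
  · rw [horb]
    ring

end ree

end Cfsg.Agent.Lib.Helper5.Ree
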